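import Mathlib
import Cfsg.Agent.H736.Co3.Sp
import Cfsg.Prelude.Def_ChevE8
import Cfsg.Agent.ChevalleyStructure.RootVec
import Cfsg.Agent.ChevFast.E8
import Cfsg.Prelude.Def_CaseTheorems
import Cfsg.Agent.ClassificationK.SymplBig
import Cfsg.Agent.S0028
import Cfsg.Agent.Lib.Cores
import Cfsg.Prelude.Def_ClassificationK
import Cfsg.Agent.Lib.FastPerm
import Cfsg.Agent.H754.Co3.SLTwo
import Cfsg.Agent.LieClassical.OrthTrans
import Cfsg.Agent.FastGrp
import Cfsg.Agent.Prune
set_option linter.all false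

section
prune_inst 0x7f00000000000000000000000000000000000000000000000000000000000000000000000000000000000000000000000000000000000000000000000000000000000000000000000000000000000000003fffffffffffffffffffffffffffbeffbdffffffff

-- part: H527/C3/Twist
section
set_option linter.all false
open scoped Cfsg.Agent.FastGrp

-- part: H527/C3/Iso
section
/-!
# S1920, classical groups, section 4: isometries (helper527)

`isoms h` : the isometry group of a bilinear form, as a group of units of `Module.End K W`.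
`Dat h NN J` : `h` symmetric non-degenerate, `NN ≤ isoms h` finite, squares and commutators `± 1`, `J ∈ NN` central,
`J² = -1`.
-/

set_option autoImplicit false

open Subgroup

namespace Cfsg.Agent.H527.C3

variable {K W : Type*} [Field K] [AddCommGroup W] [Module K W]

/-- The isometry group of `h`, inside the units of the endomorphism ring. -/
def isoms (h : LinearMap.BilinForm K W) : Subgroup (Module.End K W)ˣ where
  carrier := {g | ∀ u v : W, h (g • u) (g • v) = h u v}
  mul_mem' := by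
    intro a b ha hb u v
    rw [mul_smul, mul_smul, ha, hb]
  one_mem' := by
    intro u v
    rw [one_smul, one_smul]
  inv_mem' := by
    intro a ha u v
    have h1 := ha (a⁻¹ • u) (a⁻¹ • v)
    rw [smul_inv_smul, smul_inv_smul] at h1
    exact h1.symm

/-- The situation of section 4. -/
structure Dat (h : LinearMap.BilinForm K W) (NN : Subgroup (Module.End K W)ˣ) (J : (Module.End K W)ˣ) : Prop where
  two : (2 : K) ≠ 0
  sym : ∀ u v, h u v = h v u
  nd : ∀ u, (∀ v, h u v = 0) → u = 0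
  iso : NN ≤ isoms h
  neg : (-1 : (Module.End K W)ˣ) ∈ NN
  J_mem : J ∈ NN
  J_sq : J * J = -1
  sq : ∀ n ∈ NN, n * n = 1 ∨ n * n = -1
  comm : ∀ n ∈ NN, ∀ m ∈ NN, n * m = m * n ∨ n * m = -(m * n)
  cen : ∀ n ∈ NN, n * J = J * n

/-- `A` is a maximal abelian subgroup of `NN` containing `J`. -/
structure MaxAb (NN : Subgroup (Module.End K W)ˣ) (J : (Module.End K W)ˣ) (A : Subgroup (Module.End K W)ˣ) : Prop where
  le : A ≤ NN
  J_mem : J ∈ A
  comm : ∀ a ∈ A, ∀ b ∈ A, a * b = b * a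
  max : ∀ n ∈ NN, (∀ a ∈ A, a * n = n * a) → n ∈ A

/-- `v` is a common eigenvector of the involutions of `A`. -/
def Eig (A : Subgroup (Module.End K W)ˣ) (v : W) : Prop := ∀ a ∈ A, a * a = 1 → a • v = v ∨ a • v = -v

/-- The rank one operator `u ↦ h(y, u) x`. -/
def rk (h : LinearMap.BilinForm K W) (x y : W) : Module.End K W := (h y).smulRight x

@[simp] theorem rk_apply (h : LinearMap.BilinForm K W) (x y u : W) : rk h x y u = h y u • x := rfl

namespace Dat

variable {h : LinearMap.BilinForm K W} {NN : Subgroup (Module.End K W)ˣ} {J : (Module.End K W)ˣ}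

theorem hJ (D : Dat h NN J) (u v : W) : h (J • u) (J • v) = h u v := D.iso D.J_mem u v

theorem JJ (D : Dat h NN J) (u : W) : J • J • u = -u := by
  rw [← mul_smul, D.J_sq, Units.neg_smul, one_smul]

theorem hJl (D : Dat h NN J) (u v : W) : h (J • u) v = - h u (J • v) := by
  rw [← D.hJ u (J • v), D.JJ, map_neg, neg_neg]

theorem hJ_self (D : Dat h NN J) (u : W) : h (J • u) u = 0 := by
  have h1 := D.hJl u u
  rw [D.sym u (J • u)] at h1
  have h2 : (2 : K) * h (J • u) u = 0 := by linear_combination h1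
  exact (mul_eq_zero.1 h2).resolve_left D.two

/-- The maximal abelian subgroup. -/
theorem exists_A [Finite W] (D : Dat h NN J) : ∃ A : Subgroup (Module.End K W)ˣ, MaxAb NN J A := by
  classical
  have hfin : Finite (Module.End K W) := Finite.of_injective (fun f => (f : W → W)) DFunLike.coe_injective
  let s : Set (Subgroup (Module.End K W)ˣ) := {A | A ≤ NN ∧ J ∈ A ∧ ∀ a ∈ A, ∀ b ∈ A, a * b = b * a}
  have hne : s.Nonempty := by
    refine ⟨zpowers J, ?_, mem_zpowers J, ?_⟩
    · rw [zpowers_le]; exact D.J_mem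
    · rintro _ ⟨i, rfl⟩ _ ⟨j, rfl⟩
      exact ((Commute.refl J).zpow_zpow i j).eq
  obtain ⟨A, hA⟩ := s.toFinite.exists_maximal hne
  refine ⟨A, ⟨hA.prop.1, hA.prop.2.1, hA.prop.2.2, fun n hn hc => ?_⟩⟩
  have hle : A ≤ A ⊔ zpowers n := le_sup_left
  have h1 : A ⊔ zpowers n ≤ centralizer (A : Set (Module.End K W)ˣ) := by
    refine sup_le (fun a ha => ?_) ?_
    · rw [mem_centralizer_iff]
      exact fun b hb => hA.prop.2.2 b hb a ha
    · rw [zpowers_le, mem_centralizer_iff]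
      exact hc
  have h2 : A ⊔ zpowers n ≤ centralizer ({n} : Set (Module.End K W)ˣ) := by
    refine sup_le (fun a ha => ?_) ?_
    · rw [mem_centralizer_singleton_iff]
      exact hc a ha
    · rw [zpowers_le, mem_centralizer_singleton_iff]
  have h3 : A ⊔ zpowers n ≤ centralizer ((A ⊔ zpowers n : Subgroup (Module.End K W)ˣ) : Set (Module.End K W)ˣ) := by
    refine sup_le (fun a ha => ?_) ?_
    · rw [mem_centralizer_iff]
      exact fun b hb => (mem_centralizer_iff.1 (h1 hb) a ha).symm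
    · rw [zpowers_le, mem_centralizer_iff]
      exact fun b hb => mem_centralizer_singleton_iff.1 (h2 hb)
  have h4 : A ⊔ zpowers n ∈ s := by
    refine ⟨sup_le hA.prop.1 (by rw [zpowers_le]; exact hn), hle hA.prop.2.1, fun a ha b hb => ?_⟩
    exact mem_centralizer_iff.1 (h3 hb) a ha
  exact (hA.le_of_ge h4 hle) ((le_sup_right : zpowers n ≤ A ⊔ zpowers n) (mem_zpowers n))

variable {A : Subgroup (Module.End K W)ˣ}

theorem anti (D : Dat h NN J) (M : MaxAb NN J A) {n : (Module.End K W)ˣ} (hn : n ∈ NN) (hnA : n ∉ A) :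
    ∃ a ∈ A, a * a = 1 ∧ a * n = -(n * a) := by
  have h1 : ∃ a ∈ A, a * n ≠ n * a := by
    by_contra hcon
    push Not at hcon
    exact hnA (M.max n hn hcon)
  obtain ⟨a, ha, han⟩ := h1
  have h2 := (D.comm a (M.le ha) n hn).resolve_left han
  rcases D.sq a (M.le ha) with h3 | h3
  · exact ⟨a, ha, h3, h2⟩
  · refine ⟨J * a, mul_mem M.J_mem ha, ?_, ?_⟩
    · calc J * a * (J * a) = J * (a * J) * a := by group
        _ = J * (J * a) * a := by rw [M.comm a ha J M.J_mem]
        _ = (J * J) * (a * a) := by group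
        _ = 1 := by rw [D.J_sq, h3]; simp
    · calc J * a * n = J * (a * n) := by group
        _ = J * (-(n * a)) := by rw [h2]
        _ = -(J * n * a) := by rw [mul_neg, mul_assoc]
        _ = -(n * J * a) := by rw [D.cen n hn]
        _ = -(n * (J * a)) := by rw [mul_assoc]

/-- the value `h(n v, v)` vanishes unless `n` is an involution of `A` -/
theorem h_zero (D : Dat h NN J) (M : MaxAb NN J A) {v : W} (hv : Eig A v) {n : (Module.End K W)ˣ} (hn : n ∈ NN)
    (h1 : ¬ (n ∈ A ∧ n * n = 1)) : h (n • v) v = 0 := by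
  by_cases hA : n ∈ A
  · have h2 : n * n = -1 := (D.sq n hn).resolve_left fun h => h1 ⟨hA, h⟩
    have h3 : (J * n) * (J * n) = 1 := by
      calc J * n * (J * n) = J * (n * J) * n := by group
        _ = J * (J * n) * n := by rw [M.comm n hA J M.J_mem]
        _ = (J * J) * (n * n) := by group
        _ = 1 := by rw [D.J_sq, h2]; simp
    rcases hv (J * n) (mul_mem M.J_mem hA) h3 with h4 | h4
    · have h5 : n • v = -(J • v) := by
        have h6 : J • (J * n) • v = J • v := by rw [h4]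
        rw [mul_smul, D.JJ] at h6
        rw [← h6, neg_neg]
      rw [h5, map_neg, LinearMap.neg_apply, D.hJ_self, neg_zero]
    · have h5 : n • v = J • v := by
        have h6 : J • (J * n) • v = J • (-v) := by rw [h4]
        rw [mul_smul, D.JJ, smul_neg] at h6
        exact neg_injective h6
      rw [h5, D.hJ_self]
  · obtain ⟨a, ha, ha1, han⟩ := D.anti M hn hA
    have h2 : a • n • v = -(n • a • v) := by
      rw [← mul_smul, han, Units.neg_smul, mul_smul]
    have h3 : h (a • n • v) (a • v) = h (n • v) v := D.iso (M.le ha) _ _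
    rw [h2] at h3
    rcases hv a ha ha1 with h4 | h4
    · rw [h4, map_neg, LinearMap.neg_apply] at h3
      have h5 : (2 : K) * h (n • v) v = 0 := by linear_combination -h3
      exact (mul_eq_zero.1 h5).resolve_left D.two
    · rw [h4, smul_neg, neg_neg, map_neg] at h3
      have h5 : (2 : K) * h (n • v) v = 0 := by linear_combination -h3
      exact (mul_eq_zero.1 h5).resolve_left D.two

end Dat

end Cfsg.Agent.H527.C3
end

-- part: H527/C3/Tr
section
/-!
# S1920, classical groups, section 4: traces (helper527)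

`Tr c v' v = Σ_{n ∈ NN} c(n) ⟨n v, ·⟩ n v'`.
-/

set_option autoImplicit false

open Subgroup

namespace Cfsg.Agent.H527.C3

variable {K W : Type*} [Field K] [AddCommGroup W] [Module K W]

namespace Dat

variable {h : LinearMap.BilinForm K W} {NN : Subgroup (Module.End K W)ˣ} {J : (Module.End K W)ˣ}
variable {A : Subgroup (Module.End K W)ˣ}

/-- the involutions of `A` -/
def inv1 (M : MaxAb NN J A) : Subgroup (Module.End K W)ˣ where
  carrier := {a | a ∈ A ∧ a * a = 1}
  one_mem' := ⟨one_mem A, one_mul 1⟩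
  mul_mem' := by
    rintro a b ⟨ha, ha1⟩ ⟨hb, hb1⟩
    refine ⟨mul_mem ha hb, ?_⟩
    calc a * b * (a * b) = a * (b * a) * b := by group
      _ = a * (a * b) * b := by rw [M.comm b hb a ha]
      _ = (a * a) * (b * b) := by group
      _ = 1 := by rw [ha1, hb1, one_mul]
  inv_mem' := by
    rintro a ⟨ha, ha1⟩
    refine ⟨inv_mem ha, ?_⟩
    rw [← mul_inv_rev, ha1, inv_one]

theorem inv1_le (M : MaxAb NN J A) : inv1 M ≤ NN := fun _ ha => M.le ha.1

/-- the number of involutions of `A`, in `K` -/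
noncomputable def kap (K : Type*) {W : Type*} [Field K] [AddCommGroup W] [Module K W]
    {NN : Subgroup (Module.End K W)ˣ} {J : (Module.End K W)ˣ} {A : Subgroup (Module.End K W)ˣ}
    (M : MaxAb NN J A) : K := (Nat.card (inv1 M) : K)

theorem kap_ne (D : Dat h NN J) [Finite (Module.End K W)ˣ] (M : MaxAb NN J A) : kap K M ≠ 0 := by
  have h1 : IsPGroup 2 (inv1 M) := by
    intro a
    refine ⟨1, Subtype.ext ?_⟩
    rw [pow_one]
    change (a : (Module.End K W)ˣ) ^ 2 = 1
    rw [pow_two]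
    exact a.2.2
  obtain ⟨k, hk⟩ := (IsPGroup.iff_card (p := 2)).1 h1
  rw [kap, hk, Nat.cast_pow]
  exact pow_ne_zero _ (by exact_mod_cast D.two)

open scoped Classical in
/-- **Key formula**. -/
theorem key_sum (D : Dat h NN J) [Fintype ↥NN] (M : MaxAb NN J A) {v : W} (hv : Eig A v)
    {X : Type*} [AddCommGroup X] [Module K X] (F : (Module.End K W)ˣ → X) (x : X)
    (hF : ∀ a ∈ inv1 M, h (a • v) v • F a = x) :
    ∑ n : ↥NN, h ((n : (Module.End K W)ˣ) • v) v • F n = kap K M • x := by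
  have h1 : ∀ n : ↥NN, h ((n : (Module.End K W)ˣ) • v) v • F n = if (n : (Module.End K W)ˣ) ∈ inv1 M then x else 0 := by
    intro n
    split_ifs with hn
    · exact hF n hn
    · rw [D.h_zero M hv n.2 hn, zero_smul]
  rw [Finset.sum_congr rfl fun n _ => h1 n, Finset.sum_ite, Finset.sum_const, Finset.sum_const_zero, add_zero]
  have h2 : (Finset.univ.filter fun n : ↥NN => (n : (Module.End K W)ˣ) ∈ inv1 M).card = Nat.card (inv1 M) := by
    have h3 : Nat.card (inv1 M) = Nat.card ↥((inv1 M).subgroupOf NN) :=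
      (Nat.card_congr (subgroupOfEquivOfLe (inv1_le M)).toEquiv).symm
    rw [h3, Nat.card_eq_fintype_card, Fintype.card_subtype]
    congr 1
  rw [h2, kap, Nat.cast_smul_eq_nsmul]

/-- two eigenvectors with the same character -/
def Same (M : MaxAb NN J A) (v w : W) : Prop := ∀ a ∈ inv1 M, (a • v = v ∧ a • w = w) ∨ (a • v = -v ∧ a • w = -w)

theorem Same.refl (M : MaxAb NN J A) {v : W} (hv : Eig A v) : Same M v v := by
  intro a ha
  rcases hv a ha.1 ha.2 with h | h
  · exact Or.inl ⟨h, h⟩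
  · exact Or.inr ⟨h, h⟩

/-- `Tr c x y = Σ_{n ∈ NN} c(n) ⟨n y, ·⟩ n x` -/
noncomputable def Tr (h : LinearMap.BilinForm K W) (NN : Subgroup (Module.End K W)ˣ) [Fintype ↥NN]
    (c : (Module.End K W)ˣ → K) (x y : W) : Module.End K W :=
  ∑ n : ↥NN, c n • rk h ((n : (Module.End K W)ˣ) • x) ((n : (Module.End K W)ˣ) • y)

theorem Tr_apply [Fintype ↥NN] (c : (Module.End K W)ˣ → K) (x y u : W) :
    Tr h NN c x y u = ∑ n : ↥NN, (c n * h ((n : (Module.End K W)ˣ) • y) u) • ((n : (Module.End K W)ˣ) • x) := by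
  rw [Tr, LinearMap.sum_apply]
  refine Finset.sum_congr rfl fun n _ => ?_
  rw [LinearMap.smul_apply, rk_apply, smul_smul]

/-- a sign character of `NN` -/
structure Sg (NN : Subgroup (Module.End K W)ˣ) (c : (Module.End K W)ˣ → K) : Prop where
  val : ∀ n ∈ NN, c n = 1 ∨ c n = -1
  mul : ∀ n ∈ NN, ∀ m ∈ NN, c (n * m) = c n * c m

theorem Sg.one (NN : Subgroup (Module.End K W)ˣ) : Sg NN (fun _ => (1 : K)) :=
  ⟨fun _ _ => Or.inl rfl, fun _ _ _ _ => (one_mul 1).symm⟩

theorem Sg.sq {c : (Module.End K W)ˣ → K} (S : Sg NN c) {n : (Module.End K W)ˣ} (hn : n ∈ NN) : c n * c n = 1 := by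
  rcases S.val n hn with h | h <;> rw [h] <;> ring

theorem Tr_smul (D : Dat h NN J) [Fintype ↥NN] {c : (Module.End K W)ˣ → K} (S : Sg NN c) (x y : W)
    {m : (Module.End K W)ˣ} (hm : m ∈ NN) (u : W) :
    Tr h NN c x y (m • u) = c m • (m • Tr h NN c x y u) := by
  rw [Tr_apply, Tr_apply, Finset.smul_sum, Finset.smul_sum]
  refine (Fintype.sum_equiv (Equiv.mulLeft (⟨m, hm⟩ : ↥NN)) _ _ fun n => ?_).symm
  change c m • m • (c n * h ((n : (Module.End K W)ˣ) • y) u) • ((n : (Module.End K W)ˣ) • x) =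
    (c (m * n) * h ((m * n) • y) (m • u)) • ((m * n) • x)
  rw [S.mul m hm n n.2, mul_smul m (n : (Module.End K W)ˣ) y, mul_smul m (n : (Module.End K W)ˣ) x, D.iso hm,
    smul_comm m, smul_smul]
  congr 1
  ring

theorem Tr_adj (D : Dat h NN J) [Fintype ↥NN] (c : (Module.End K W)ˣ → K) (x y u w : W) :
    h (Tr h NN c x y u) w = h u (Tr h NN c y x w) := by
  rw [Tr_apply, Tr_apply, map_sum, LinearMap.sum_apply, map_sum]
  refine Finset.sum_congr rfl fun n _ => ?_
  rw [LinearMap.map_smul, LinearMap.smul_apply, LinearMap.map_smul, smul_eq_mul, smul_eq_mul,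
    D.sym u ((n : (Module.End K W)ˣ) • y)]
  ring

theorem Tr_self (D : Dat h NN J) [Fintype ↥NN] (M : MaxAb NN J A) {c : (Module.End K W)ˣ → K}
    (hc : ∀ a ∈ inv1 M, c a = 1) {v w : W} (hv : Eig A v) (hv1 : h v v = 1) (hvw : Same M v w) :
    Tr h NN c w v v = kap K M • w := by
  rw [Tr_apply]
  have h1 := D.key_sum M hv (fun n => c n • (n • w)) w (by
    intro a ha
    rw [hc a ha, one_smul]
    rcases hvw a ha with ⟨h2, h3⟩ | ⟨h2, h3⟩
    · rw [h2, h3, hv1, one_smul]
    · rw [h2, h3, map_neg, LinearMap.neg_apply, hv1, neg_smul, one_smul, neg_neg])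
  rw [← h1]
  refine Finset.sum_congr rfl fun n _ => ?_
  rw [smul_smul, mul_comm]

theorem Tr_self' (D : Dat h NN J) [Fintype ↥NN] (M : MaxAb NN J A) {c : (Module.End K W)ˣ → K} (S : Sg NN c)
    (hc : ∀ a ∈ inv1 M, c a = 1) {v w : W} (hv : Eig A v) (hv1 : h v v = 1) (hvw : Same M v w)
    {m : (Module.End K W)ˣ} (hm : m ∈ NN) :
    Tr h NN c w v (m • v) = kap K M • c m • (m • w) := by
  rw [D.Tr_smul S _ _ hm, D.Tr_self M hc hv hv1 hvw, smul_comm m, smul_comm (c m)]

theorem Tr_zero (D : Dat h NN J) [Fintype ↥NN] (c : (Module.End K W)ˣ → K) {x y w : W}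
    (hw : ∀ n ∈ NN, h (n • y) w = 0) {m : (Module.End K W)ˣ} (hm : m ∈ NN) :
    Tr h NN c x y (m • w) = 0 := by
  rw [Tr_apply]
  refine Finset.sum_eq_zero fun n _ => ?_
  have h1 : h ((n : (Module.End K W)ˣ) • y) (m • w) = 0 := by
    rw [← hw (m⁻¹ * n) (mul_mem (inv_mem hm) n.2), ← D.iso hm ((m⁻¹ * (n : (Module.End K W)ˣ)) • y) w,
      ← mul_smul m, mul_inv_cancel_left]
  rw [h1, mul_zero, zero_smul]

end Dat

end Cfsg.Agent.H527.C3
end

-- part: H527/C3/Sys
section
/-!
# S1920, classical groups, section 4: orthonormal systems of eigenvectors (helper527)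
-/

set_option autoImplicit false

open Subgroup

namespace Cfsg.Agent.H527.C3

/-- every element of a finite field of odd characteristic is a sum of two squares -/
theorem exists_two_sq {K : Type*} [Field K] [Finite K] (h2 : (2 : K) ≠ 0) (c : K) : ∃ x y : K, x ^ 2 + y ^ 2 = c := by
  classical
  have : Fintype K := Fintype.ofFinite K
  have hodd : Fintype.card K % 2 = 1 := by
    by_contra hcon
    have h3 : Fintype.card K % 2 = 0 := by omega
    exact h2 (by
      have := FiniteField.even_card_iff_char_two.2 h3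
      have h4 : ringChar K = 2 := this
      have h5 : ((2 : ℕ) : K) = 0 := by rw [← h4]; exact ringChar.Nat.cast_ringChar
      exact_mod_cast h5)
  obtain ⟨a, b, hab⟩ := FiniteField.exists_root_sum_quadratic (R := K) (f := Polynomial.X ^ 2)
    (g := Polynomial.X ^ 2 - Polynomial.C c) (by simp) (Polynomial.degree_X_pow_sub_C (by norm_num) c) hodd
  refine ⟨a, b, ?_⟩
  simp only [Polynomial.eval_pow, Polynomial.eval_X, Polynomial.eval_sub, Polynomial.eval_C] at hab
  linear_combination hab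

variable {K W : Type*} [Field K] [AddCommGroup W] [Module K W]

namespace Dat

variable {h : LinearMap.BilinForm K W} {NN : Subgroup (Module.End K W)ˣ} {J : (Module.End K W)ˣ}
variable {A : Subgroup (Module.End K W)ˣ}

/-- `J`-linear combinations of eigenvectors -/
theorem eig_comb (M : MaxAb NN J A) {v : W} (hv : Eig A v) (x y : K) : Eig A (x • v + y • J • v) := by
  intro a ha ha1
  have h1 : a • J • v = J • a • v := by rw [← mul_smul, M.comm a ha J M.J_mem, mul_smul]
  have h2 : a • (x • v + y • J • v) = x • a • v + y • J • a • v := by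
    rw [smul_add, smul_comm a x, smul_comm a y, h1]
  rcases hv a ha ha1 with h3 | h3
  · left; rw [h2, h3]
  · right; rw [h2, h3, smul_neg, smul_neg, smul_neg, neg_add]

theorem exists_eig [Finite W] [Finite K] (D : Dat h NN J) (M : MaxAb NN J A) (U : Submodule K W)
    (hU : ∀ n ∈ NN, ∀ u ∈ U, n • u ∈ U) (hne : ∃ u ∈ U, ∃ v ∈ U, h u v ≠ 0) :
    ∃ v ∈ U, Eig A v ∧ h v v = 1 := by
  classical
  have hfin : Finite (Module.End K W) := Finite.of_injective (fun f => (f : W → W)) DFunLike.coe_injective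
  let S : Set (W × W) := {p | p.1 ∈ U ∧ p.2 ∈ U ∧ h p.1 p.2 ≠ 0}
  let T : W × W → Set (Module.End K W)ˣ := fun p =>
    {a | a ∈ inv1 M ∧ ((a • p.1 = p.1 ∧ a • p.2 = p.2) ∨ (a • p.1 = -p.1 ∧ a • p.2 = -p.2))}
  obtain ⟨u, hu, v, hv, huv⟩ := hne
  obtain ⟨⟨u, v⟩, ⟨hu, hv, huv⟩, hmax⟩ := Set.exists_max_image S (fun p => (T p).ncard) (Set.toFinite _)
    ⟨(u, v), hu, hv, huv⟩
  change u ∈ U at hu
  change v ∈ U at hv
  change h u v ≠ 0 at huv
  -- every involution of `A` acts by the same sign on `u` and `v`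
  have hall : ∀ b ∈ inv1 M, (b • u = u ∧ b • v = v) ∨ (b • u = -u ∧ b • v = -v) := by
    intro b hb
    by_contra hcon
    have hbb : ∀ w : W, b • b • w = w := fun w => by rw [← mul_smul, hb.2, one_smul]
    have hcomm : ∀ a ∈ inv1 M, ∀ w : W, a • b • w = b • a • w := fun a ha w => by
      rw [← mul_smul, M.comm a ha.1 b hb.1, mul_smul]
    have hiso : h (b • u) (b • v) = h u v := D.iso (M.le hb.1) u v
    -- one of the two projections
    have hsum : h (u + b • u) (v + b • v) + h (u - b • u) (v - b • v) = 4 * h u v := by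
      simp only [map_add, map_sub, LinearMap.add_apply, LinearMap.sub_apply]
      linear_combination 2 * hiso
    have h4 : (4 : K) ≠ 0 := by
      have : (4 : K) = 2 * 2 := by norm_num
      rw [this]; exact mul_ne_zero D.two D.two
    have key : ∀ s : K, (s = 1 ∨ s = -1) → h (u + s • b • u) (v + s • b • v) = 0 := by
      intro s hs
      by_contra hne
      have hmem : ((u + s • b • u, v + s • b • v) : W × W) ∈ S :=
        ⟨add_mem hu (U.smul_mem _ (hU b (M.le hb.1) u hu)), add_mem hv (U.smul_mem _ (hU b (M.le hb.1) v hv)), hne⟩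
      have hlt : (T (u, v)).ncard < (T (u + s • b • u, v + s • b • v)).ncard := by
        refine Set.ncard_lt_ncard ⟨?_, ?_⟩ (Set.toFinite _)
        · rintro a ⟨ha, h1⟩
          refine ⟨ha, ?_⟩
          have h2 : ∀ w : W, a • (w + s • b • w) = a • w + s • b • a • w := fun w => by
            rw [smul_add, smul_comm a s, hcomm a ha]
          rcases h1 with ⟨h1, h1'⟩ | ⟨h1, h1'⟩
          · left
            exact ⟨by rw [h2]; rw [h1],
              by rw [h2]; rw [h1']⟩
          · right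
            exact ⟨by rw [h2]; rw [h1, smul_neg, smul_neg, neg_add],
              by rw [h2]; rw [h1', smul_neg, smul_neg, neg_add]⟩
        · intro hsub
          apply hcon
          have hbT : b ∈ T (u + s • b • u, v + s • b • v) := by
            refine ⟨hb, ?_⟩
            have h2 : ∀ w : W, b • (w + s • b • w) = s • (w + s • b • w) := fun w => by
              rw [smul_add, smul_comm b s, hbb, smul_add, smul_smul]
              have : s * s = 1 := by rcases hs with h | h <;> rw [h] <;> ring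
              rw [this, one_smul, add_comm]
            rcases hs with h | h
            · left
              exact ⟨by rw [h2, h, one_smul], by rw [h2, h, one_smul]⟩
            · right
              exact ⟨by rw [h2]; nth_rewrite 1 [h]; rw [neg_smul, one_smul],
                by rw [h2]; nth_rewrite 1 [h]; rw [neg_smul, one_smul]⟩
          exact (hsub hbT).2
      exact absurd (hmax _ hmem) (not_le.2 hlt)
    have k1 := key 1 (Or.inl rfl)
    have k2 := key (-1) (Or.inr rfl)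
    simp only [one_smul, neg_smul, ← sub_eq_add_neg] at k1 k2
    rw [k1, k2, add_zero] at hsum
    exact (mul_ne_zero h4 huv) hsum.symm
  have hEu : Eig A u := fun a ha ha1 => by
    rcases hall a ⟨ha, ha1⟩ with h1 | h1
    · exact Or.inl h1.1
    · exact Or.inr h1.1
  have hEv : Eig A v := fun a ha ha1 => by
    rcases hall a ⟨ha, ha1⟩ with h1 | h1
    · exact Or.inl h1.2
    · exact Or.inr h1.2
  have hEuv : Eig A (u + v) := fun a ha ha1 => by
    rcases hall a ⟨ha, ha1⟩ with h1 | h1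
    · left; rw [smul_add, h1.1, h1.2]
    · right; rw [smul_add, h1.1, h1.2, neg_add]
  -- a vector of nonzero norm
  have hw : ∃ w ∈ U, Eig A w ∧ h w w ≠ 0 := by
    by_contra hcon
    push Not at hcon
    have k1 := hcon u hu hEu
    have k2 := hcon v hv hEv
    have k3 := hcon (u + v) (add_mem hu hv) hEuv
    simp only [map_add, LinearMap.add_apply] at k3
    rw [k1, k2, D.sym v u] at k3
    have : (2 : K) * h u v = 0 := by linear_combination k3
    exact (mul_ne_zero D.two huv) this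
  obtain ⟨w, hwU, hEw, hww⟩ := hw
  obtain ⟨x, y, hxy⟩ := exists_two_sq D.two (h w w)⁻¹
  refine ⟨x • w + y • J • w, ?_, eig_comb M hEw x y, ?_⟩
  · exact add_mem (U.smul_mem _ hwU) (U.smul_mem _ (hU J D.J_mem w hwU))
  · have e1 : h w (J • w) = 0 := by rw [D.sym]; exact D.hJ_self w
    have e2 : h (J • w) w = 0 := D.hJ_self w
    have e3 : h (J • w) (J • w) = h w w := D.hJ w w
    simp only [map_add, LinearMap.add_apply, LinearMap.map_smul, LinearMap.smul_apply, smul_eq_mul]
    rw [e1, e2, e3]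
    have e4 : (h w w)⁻¹ * h w w = 1 := inv_mul_cancel₀ hww
    linear_combination (h w w) * hxy + e4

/-- an orthonormal system of eigenvectors -/
structure Sys (h : LinearMap.BilinForm K W) (NN A : Subgroup (Module.End K W)ˣ) (S : Finset W) : Prop where
  eig : ∀ v ∈ S, Eig A v
  one : ∀ v ∈ S, h v v = 1
  orth : ∀ v ∈ S, ∀ w ∈ S, v ≠ w → ∀ n ∈ NN, h (n • v) w = 0

theorem Sys.proj_mem (D : Dat h NN J) [Fintype ↥NN] (M : MaxAb NN J A) {S : Finset W} (Y : Sys h NN A S) (u : W)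
    {v : W} (hv : v ∈ S) {n : (Module.End K W)ˣ} (hn : n ∈ NN) :
    h (n • v) (kap K M • u - ∑ w ∈ S, Tr h NN (fun _ => (1 : K)) w w u) = 0 := by
  classical
  rw [map_sub, LinearMap.map_smul, map_sum, Finset.sum_eq_single v]
  · rw [← D.Tr_adj, D.Tr_self' M (Sg.one NN) (fun _ _ => rfl) (Y.eig v hv) (Y.one v hv) (Same.refl M (Y.eig v hv)) hn,
      one_smul, LinearMap.map_smul, LinearMap.smul_apply, smul_eq_mul, sub_self]
  · intro w hw hwv
    rw [← D.Tr_adj, D.Tr_zero _ (fun m hm => Y.orth w hw v hv hwv m hm) hn, map_zero, LinearMap.zero_apply]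
  · exact fun h => absurd hv h

theorem exists_sys [Finite W] [Finite K] (D : Dat h NN J) [Fintype ↥NN] (M : MaxAb NN J A) :
    ∃ S : Finset W, Sys h NN A S ∧ ∀ u : W, ∑ w ∈ S, Tr h NN (fun _ => (1 : K)) w w u = kap K M • u := by
  classical
  have hfW : Fintype W := Fintype.ofFinite W
  have hfE : Finite (Module.End K W) := Finite.of_injective (fun f => (f : W → W)) DFunLike.coe_injective
  let T : Set (Finset W) := {S | Sys h NN A S}
  obtain ⟨S, hS, hmax⟩ := Set.exists_max_image T (fun S => S.card) (Set.toFinite _)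
    ⟨∅, ⟨fun v hv => absurd hv (Finset.notMem_empty v), fun v hv => absurd hv (Finset.notMem_empty v),
      fun v hv => absurd hv (Finset.notMem_empty v)⟩⟩
  have Y : Sys h NN A S := hS
  let U : Submodule K W :=
    { carrier := {u | ∀ v ∈ S, ∀ n ∈ NN, h (n • v) u = 0}
      add_mem' := fun {a b} ha hb v hv n hn => by rw [map_add, ha v hv n hn, hb v hv n hn, add_zero]
      zero_mem' := fun v hv n hn => map_zero _
      smul_mem' := fun c a ha v hv n hn => by rw [LinearMap.map_smul, ha v hv n hn, smul_zero] }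
  have hUmem : ∀ u, u ∈ U ↔ ∀ v ∈ S, ∀ n ∈ NN, h (n • v) u = 0 := fun u => Iff.rfl
  have hU0 : ∀ u ∈ U, u = 0 := by
    intro u hu
    by_contra hu0
    have hex : ∃ y, h u y ≠ 0 := by
      by_contra hcon
      push Not at hcon
      exact hu0 (D.nd u hcon)
    obtain ⟨y, hy⟩ := hex
    have hy' : kap K M • y - ∑ w ∈ S, Tr h NN (fun _ => (1 : K)) w w y ∈ U :=
      fun v hv n hn => Y.proj_mem D M y hv hn
    have hyu : h u (kap K M • y - ∑ w ∈ S, Tr h NN (fun _ => (1 : K)) w w y) ≠ 0 := by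
      rw [map_sub, LinearMap.map_smul, map_sum, Finset.sum_eq_zero, sub_zero]
      · exact mul_ne_zero (D.kap_ne M) hy
      · intro w hw
        have h1 := D.Tr_zero (fun _ => (1 : K)) (x := w) (y := w) (w := u) (fun m hm => hu w hw m hm) (one_mem NN)
        rw [one_smul] at h1
        rw [← D.Tr_adj, h1, map_zero, LinearMap.zero_apply]
    have hUinv : ∀ n ∈ NN, ∀ u ∈ U, n • u ∈ U := by
      intro n hn u hu v hv m hm
      have h1 : h ((n⁻¹ * m) • v) u = 0 := hu v hv _ (mul_mem (inv_mem hn) hm)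
      rw [← D.iso hn ((n⁻¹ * m) • v) u, ← mul_smul n, mul_inv_cancel_left] at h1
      exact h1
    obtain ⟨v, hvU, hvE, hv1⟩ := D.exists_eig M U hUinv ⟨u, hu, _, hy', hyu⟩
    have hvS : v ∉ S := by
      intro hvS
      have h1 := hvU v hvS 1 (one_mem NN)
      rw [one_smul, hv1] at h1
      exact one_ne_zero h1
    have hbig : insert v S ∈ T := by
      refine ⟨fun w hw => ?_, fun w hw => ?_, fun w hw w' hw' hww n hn => ?_⟩
      · rcases Finset.mem_insert.1 hw with rfl | hw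
        · exact hvE
        · exact Y.eig w hw
      · rcases Finset.mem_insert.1 hw with rfl | hw
        · exact hv1
        · exact Y.one w hw
      · rcases Finset.mem_insert.1 hw with h3 | h3
        · rcases Finset.mem_insert.1 hw' with h4 | h4
          · exact absurd (h3.trans h4.symm) hww
          · have h1 := hvU w' h4 n⁻¹ (inv_mem hn)
            rw [← D.iso hn (n⁻¹ • w') v, smul_inv_smul] at h1
            rw [D.sym, h3]; exact h1
        · rcases Finset.mem_insert.1 hw' with h4 | h4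
          · rw [h4]; exact hvU w h3 n hn
          · exact Y.orth w h3 w' h4 hww n hn
    have h2 := hmax _ hbig
    change (insert v S).card ≤ S.card at h2
    rw [Finset.card_insert_of_notMem hvS] at h2
    omega
  refine ⟨S, Y, fun u => ?_⟩
  have h1 : kap K M • u - ∑ w ∈ S, Tr h NN (fun _ => (1 : K)) w w u = 0 :=
    hU0 _ fun v hv n hn => Y.proj_mem D M u hv hn
  exact (sub_eq_zero.1 h1).symm

theorem neg_ne [Nontrivial W] (D : Dat h NN J) : (-1 : (Module.End K W)ˣ) ≠ 1 := by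
  intro h1
  obtain ⟨w, hw⟩ := exists_ne (0 : W)
  have h2 : (-1 : (Module.End K W)ˣ) • w = w := by rw [h1, one_smul]
  rw [Units.neg_smul, one_smul] at h2
  have h3 : (2 : K) • w = 0 := by
    rw [two_smul]
    nth_rewrite 1 [← h2]
    exact neg_add_cancel w
  exact (smul_ne_zero D.two hw) h3

/-- the sign character `c` with `c J = -1`, trivial on the involutions of `A` -/
theorem exists_sign [Finite W] [Nontrivial W] (D : Dat h NN J) (M : MaxAb NN J A) :
    ∃ c : (Module.End K W)ˣ → K, Sg NN c ∧ c J = -1 ∧ ∀ a ∈ inv1 M, c a = 1 := by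
  classical
  have hfE : Finite (Module.End K W) := Finite.of_injective (fun f => (f : W → W)) DFunLike.coe_injective
  have hneg1 : (-1 : (Module.End K W)ˣ) ∈ inv1 M := by
    refine ⟨?_, by simp⟩
    rw [← D.J_sq]; exact mul_mem M.J_mem M.J_mem
  let s : Set (Subgroup (Module.End K W)ˣ) := {B | B ≤ NN ∧ inv1 M ≤ B ∧ J ∉ B}
  have hne : s.Nonempty := ⟨inv1 M, inv1_le M, le_refl _, fun hJ => by
    have h1 := hJ.2
    rw [D.J_sq] at h1
    exact D.neg_ne h1⟩
  obtain ⟨B, hB⟩ := s.toFinite.exists_maximal hne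
  have hBN : B ≤ NN := hB.prop.1
  have hBi : inv1 M ≤ B := hB.prop.2.1
  have hBJ : J ∉ B := hB.prop.2.2
  have hnegB : ∀ g : (Module.End K W)ˣ, -g ∈ B ↔ g ∈ B := by
    have h1 : ∀ g : (Module.End K W)ˣ, g ∈ B → -g ∈ B := fun g hg => by
      rw [← neg_one_mul]; exact mul_mem (hBi hneg1) hg
    intro g
    refine ⟨fun h2 => ?_, h1 g⟩
    have h3 := h1 _ h2
    rwa [neg_neg] at h3
  -- for `n ∉ B`, `J n ∈ B`
  have hJB : ∀ n ∈ NN, n ∉ B → J * n ∈ B := by
    intro n hn hnB
    have hcomm : ∀ g ∈ NN, g * n ∈ B → ∀ g' : (Module.End K W)ˣ, g' ∈ B → g * g' * n ∈ B := by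
      intro g _ hg g' hg'
      rcases D.comm g' (hBN hg') n hn with h1 | h1
      · rw [mul_assoc, h1, ← mul_assoc]; exact mul_mem hg hg'
      · rw [mul_assoc, h1, mul_neg, ← mul_assoc, hnegB]; exact mul_mem hg hg'
    let B' : Subgroup (Module.End K W)ˣ :=
      { carrier := {g | g ∈ NN ∧ (g ∈ B ∨ g * n ∈ B)}
        one_mem' := ⟨one_mem NN, Or.inl (one_mem B)⟩
        mul_mem' := by
          rintro a b ⟨haN, ha⟩ ⟨hbN, hb⟩
          refine ⟨mul_mem haN hbN, ?_⟩
          rcases ha with ha | ha <;> rcases hb with hb | hb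
          · exact Or.inl (mul_mem ha hb)
          · right; rw [mul_assoc]; exact mul_mem ha hb
          · right; exact hcomm a haN ha b hb
          · left
            -- `a n b n = ± a b n n = ± a b`
            have h1 : a * n * (b * n) ∈ B := mul_mem ha hb
            have h2 : a * n * (b * n) = a * (n * b) * n := by group
            rw [h2] at h1
            have h3 : a * (b * n) * n ∈ B := by
              rcases D.comm n hn b hbN with h4 | h4
              · rwa [h4] at h1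
              · rw [h4, mul_neg, neg_mul, hnegB] at h1; exact h1
            have h4 : a * (b * n) * n = a * b * (n * n) := by group
            rw [h4] at h3
            rcases D.sq n hn with h5 | h5
            · rwa [h5, mul_one] at h3
            · rw [h5, mul_neg, mul_one, hnegB] at h3; exact h3
        inv_mem' := by
          rintro a ⟨haN, ha⟩
          have h0 : a⁻¹ = a ∨ a⁻¹ = -a := by
            rcases D.sq a haN with h1 | h1
            · left; exact inv_eq_of_mul_eq_one_left h1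
            · right
              refine inv_eq_of_mul_eq_one_left ?_
              rw [neg_mul, h1, neg_neg]
          refine ⟨inv_mem haN, ?_⟩
          rcases h0 with h0 | h0
          · rw [h0]; exact ha
          · rw [h0, neg_mul, hnegB, hnegB]; exact ha }
    have hlt : B ≤ B' := fun g hg => ⟨hBN hg, Or.inl hg⟩
    have hnB' : n ∈ B' := by
      refine ⟨hn, Or.inr ?_⟩
      rcases D.sq n hn with h5 | h5
      · rw [h5]; exact one_mem B
      · rw [h5]; exact hBi hneg1
    by_contra hcon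
    have hB's : B' ∈ s := ⟨fun g hg => hg.1, hBi.trans hlt, fun hJ => by
      rcases hJ.2 with h6 | h6
      · exact hBJ h6
      · exact hcon h6⟩
    exact hnB (hB.le_of_ge hB's hlt hnB')
  refine ⟨fun n => if n ∈ B then 1 else -1, ⟨fun n _ => ?_, fun n hn m hm => ?_⟩, ?_, fun a ha => ?_⟩
  · by_cases h1 : n ∈ B
    · left; simp [h1]
    · right; simp [h1]
  · by_cases h1 : n ∈ B
    · by_cases h2 : m ∈ B
      · simp [h1, h2, mul_mem h1 h2]
      · have h3 : n * m ∉ B := fun h4 => h2 ((Subgroup.mul_mem_cancel_left B h1).1 h4)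
        simp [h1, h2, h3]
    · by_cases h2 : m ∈ B
      · have h3 : n * m ∉ B := fun h4 => h1 ((Subgroup.mul_mem_cancel_right B h2).1 h4)
        simp [h1, h2, h3]
      · have h3 : n * m ∈ B := by
          have h4 := mul_mem (hJB n hn h1) (hJB m hm h2)
          have h5 : J * n * (J * m) = J * (n * J) * m := by group
          have h6 : J * (J * n) * m = (J * J) * (n * m) := by group
          rw [h5, D.cen n hn, h6, D.J_sq, neg_mul, one_mul, hnegB] at h4
          exact h4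
        simp [h1, h2, h3]
  · simp [hBJ]
  · simp [hBi ha]

end Dat

end Cfsg.Agent.H527.C3
end

-- part: H527/C3/Fam
section
/-!
# S1920, classical groups, section 4: the operators attached to a system (helper527)

`Full h NN J A S c` : everything chosen.  `Full.ext` : two linear maps which agree on all `m v` are equal.
`Full.E v` : the projection on the span of `NN v`.  `Full.T` : the antilinear isometry.
-/

set_option autoImplicit false

open Subgroup

namespace Cfsg.Agent.H527.C3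

variable {K W : Type*} [Field K] [AddCommGroup W] [Module K W]

/-- everything chosen -/
structure Full (h : LinearMap.BilinForm K W) (NN : Subgroup (Module.End K W)ˣ) [Fintype ↥NN]
    (J : (Module.End K W)ˣ) (A : Subgroup (Module.End K W)ˣ) (S : Finset W) (c : (Module.End K W)ˣ → K) : Prop where
  D : Dat h NN J
  M : MaxAb NN J A
  Y : Dat.Sys h NN A S
  exp : ∀ u : W, ∑ w ∈ S, Dat.Tr h NN (fun _ => (1 : K)) w w u = Dat.kap K M • u
  kap : Dat.kap K M ≠ 0
  sg : Dat.Sg NN c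
  cJ : c J = -1
  cA : ∀ a ∈ Dat.inv1 M, c a = 1

theorem exists_full [Finite K] [Finite W] [Nontrivial W] {h : LinearMap.BilinForm K W}
    {NN : Subgroup (Module.End K W)ˣ} [Fintype ↥NN] {J : (Module.End K W)ˣ} (D : Dat h NN J) :
    ∃ (A : Subgroup (Module.End K W)ˣ) (S : Finset W) (c : (Module.End K W)ˣ → K), Full h NN J A S c := by
  have hfE : Finite (Module.End K W) := Finite.of_injective (fun f => (f : W → W)) DFunLike.coe_injective
  obtain ⟨A, M⟩ := D.exists_A
  obtain ⟨S, Y, hS⟩ := D.exists_sys M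
  obtain ⟨c, hc, hcJ, hcA⟩ := D.exists_sign M
  exact ⟨A, S, c, ⟨D, M, Y, hS, D.kap_ne M, hc, hcJ, hcA⟩⟩

namespace Full

variable {h : LinearMap.BilinForm K W} {NN : Subgroup (Module.End K W)ˣ} [Fintype ↥NN] {J : (Module.End K W)ˣ}
variable {A : Subgroup (Module.End K W)ˣ} {S : Finset W} {c : (Module.End K W)ˣ → K}

/-- two linear maps which agree on all `m v` are equal -/
theorem ext {X : Type*} [AddCommGroup X] [Module K X] (F : Full h NN J A S c) {f g : W →ₗ[K] X}
    (hfg : ∀ v ∈ S, ∀ m ∈ NN, f (m • v) = g (m • v)) : f = g := by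
  refine LinearMap.ext fun u => ?_
  have h1 : Dat.kap K F.M • f u = Dat.kap K F.M • g u := by
    rw [← LinearMap.map_smul, ← LinearMap.map_smul, ← F.exp u, map_sum, map_sum]
    refine Finset.sum_congr rfl fun v hv => ?_
    rw [Dat.Tr_apply, map_sum, map_sum]
    refine Finset.sum_congr rfl fun n _ => ?_
    rw [LinearMap.map_smul, LinearMap.map_smul, hfg v hv n n.2]
  exact smul_right_injective X F.kap h1

/-- `κ⁻¹ Tr c x y` -/
noncomputable def op (F : Full h NN J A S c) (d : (Module.End K W)ˣ → K) (x y : W) : Module.End K W :=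
  (Dat.kap K F.M)⁻¹ • Dat.Tr h NN d x y

theorem op_self (F : Full h NN J A S c) {d : (Module.End K W)ˣ → K} (hd : Dat.Sg NN d)
    (hdA : ∀ a ∈ Dat.inv1 F.M, d a = 1) {v w : W} (hv : v ∈ S) (hvw : Dat.Same F.M v w)
    {m : (Module.End K W)ˣ} (hm : m ∈ NN) : F.op d w v (m • v) = d m • (m • w) := by
  rw [op, LinearMap.smul_apply, F.D.Tr_self' F.M hd hdA (F.Y.eig v hv) (F.Y.one v hv) hvw hm, smul_smul,
    inv_mul_cancel₀ F.kap, one_smul]

theorem op_other (F : Full h NN J A S c) (d : (Module.End K W)ˣ → K) {v w x : W} (hv : v ∈ S) (hw : w ∈ S)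
    (hvw : v ≠ w) {m : (Module.End K W)ˣ} (hm : m ∈ NN) : F.op d x v (m • w) = 0 := by
  rw [op, LinearMap.smul_apply, F.D.Tr_zero d (F.Y.orth v hv w hw hvw) hm, smul_zero]

theorem op_adj (F : Full h NN J A S c) (d : (Module.End K W)ˣ → K) (x y u w : W) :
    h (F.op d x y u) w = h u (F.op d y x w) := by
  rw [op, op, LinearMap.smul_apply, LinearMap.smul_apply, LinearMap.map_smul, LinearMap.smul_apply,
    LinearMap.map_smul, F.D.Tr_adj]

theorem op_smul (F : Full h NN J A S c) {d : (Module.End K W)ˣ → K} (hd : Dat.Sg NN d) (x y : W)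
    {m : (Module.End K W)ˣ} (hm : m ∈ NN) (u : W) : F.op d x y (m • u) = d m • (m • F.op d x y u) := by
  rw [op, LinearMap.smul_apply, LinearMap.smul_apply, F.D.Tr_smul hd _ _ hm, smul_comm (Dat.kap K F.M)⁻¹ (d m),
    smul_comm (Dat.kap K F.M)⁻¹ m]

/-- the projection on the span of `NN v` -/
noncomputable def E (F : Full h NN J A S c) (v : W) : Module.End K W := F.op (fun _ => 1) v v

theorem E_self (F : Full h NN J A S c) {v : W} (hv : v ∈ S) {m : (Module.End K W)ˣ} (hm : m ∈ NN) :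
    F.E v (m • v) = m • v := by
  rw [E, F.op_self (Dat.Sg.one NN) (fun _ _ => rfl) hv (Dat.Same.refl F.M (F.Y.eig v hv)) hm, one_smul]

theorem E_other (F : Full h NN J A S c) {v w : W} (hv : v ∈ S) (hw : w ∈ S) (hvw : v ≠ w)
    {m : (Module.End K W)ˣ} (hm : m ∈ NN) : F.E v (m • w) = 0 := F.op_other _ hv hw hvw hm

theorem E_adj (F : Full h NN J A S c) (v u w : W) : h (F.E v u) w = h u (F.E v w) := F.op_adj _ _ _ _ _

theorem E_smul (F : Full h NN J A S c) (v : W) {m : (Module.End K W)ˣ} (hm : m ∈ NN) (u : W) :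
    F.E v (m • u) = m • F.E v u := by
  rw [E, F.op_smul (Dat.Sg.one NN) _ _ hm, one_smul]

theorem E_idem (F : Full h NN J A S c) {v : W} (hv : v ∈ S) : F.E v * F.E v = F.E v := by
  classical
  refine F.ext fun w hw m hm => ?_
  rw [Module.End.mul_apply]
  by_cases h1 : v = w
  · subst h1; rw [F.E_self hv hm, F.E_self hv hm]
  · rw [F.E_other hv hw h1 hm, map_zero]

theorem E_orth (F : Full h NN J A S c) {v v' : W} (hv : v ∈ S) (hv' : v' ∈ S) (hne : v ≠ v') :
    F.E v * F.E v' = 0 := by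
  classical
  refine F.ext fun w hw m hm => ?_
  rw [Module.End.mul_apply, LinearMap.zero_apply]
  by_cases h1 : v' = w
  · subst h1; rw [F.E_self hv' hm, F.E_other hv hv' hne hm]
  · rw [F.E_other hv' hw h1 hm, map_zero]

theorem E_sum (F : Full h NN J A S c) : ∑ v ∈ S, F.E v = 1 := by
  refine LinearMap.ext fun u => ?_
  rw [LinearMap.sum_apply, Module.End.one_apply]
  have h1 : ∑ v ∈ S, F.E v u = (Dat.kap K F.M)⁻¹ • ∑ v ∈ S, Dat.Tr h NN (fun _ => (1 : K)) v v u := by
    rw [Finset.smul_sum]; rfl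
  rw [h1, F.exp, smul_smul, inv_mul_cancel₀ F.kap, one_smul]

/-- the antilinear isometry -/
noncomputable def T (F : Full h NN J A S c) : Module.End K W := ∑ v ∈ S, F.op c v v

theorem T_self (F : Full h NN J A S c) {v : W} (hv : v ∈ S) {m : (Module.End K W)ˣ} (hm : m ∈ NN) :
    F.T (m • v) = c m • m • v := by
  classical
  rw [T, LinearMap.sum_apply, Finset.sum_eq_single v]
  · exact F.op_self F.sg F.cA hv (Dat.Same.refl F.M (F.Y.eig v hv)) hm
  · intro w hw hwv
    exact F.op_other _ hw hv hwv hm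
  · exact fun h1 => absurd hv h1

theorem T_adj (F : Full h NN J A S c) (u w : W) : h (F.T u) w = h u (F.T w) := by
  rw [T, LinearMap.sum_apply, LinearMap.sum_apply, map_sum, LinearMap.sum_apply, map_sum]
  exact Finset.sum_congr rfl fun v _ => F.op_adj _ _ _ _ _

theorem T_smul (F : Full h NN J A S c) {m : (Module.End K W)ˣ} (hm : m ∈ NN) (u : W) :
    F.T (m • u) = c m • (m • F.T u) := by
  rw [T, LinearMap.sum_apply, LinearMap.sum_apply, Finset.smul_sum, Finset.smul_sum]
  exact Finset.sum_congr rfl fun v _ => F.op_smul F.sg _ _ hm _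

theorem T_sq (F : Full h NN J A S c) : F.T * F.T = 1 := by
  refine F.ext fun w hw m hm => ?_
  rw [Module.End.mul_apply, F.T_self hw hm, LinearMap.map_smul, F.T_self hw hm, smul_smul, F.sg.sq hm, one_smul,
    Module.End.one_apply]

/-- `T` as a unit -/
noncomputable def Tu (F : Full h NN J A S c) : (Module.End K W)ˣ := ⟨F.T, F.T, F.T_sq, F.T_sq⟩

theorem Tu_smul (F : Full h NN J A S c) (u : W) : F.Tu • u = F.T u := rfl

theorem Tu_iso (F : Full h NN J A S c) : F.Tu ∈ isoms h := by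
  intro u v
  rw [Tu_smul, Tu_smul, F.T_adj, ← Module.End.mul_apply, F.T_sq, Module.End.one_apply]

theorem Tu_sq (F : Full h NN J A S c) : F.Tu * F.Tu = 1 := Units.ext F.T_sq

/-- commutation with `NN` -/
theorem Tu_comm (F : Full h NN J A S c) {m : (Module.End K W)ˣ} (hm : m ∈ NN) :
    (c m = 1 ∧ F.Tu * m = m * F.Tu) ∨ (c m = -1 ∧ F.Tu * m = -(m * F.Tu)) := by
  rcases F.sg.val m hm with h1 | h1
  · left
    refine ⟨h1, Units.ext (LinearMap.ext fun u => ?_)⟩
    have h2 := F.T_smul hm u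
    rw [h1, one_smul] at h2
    exact h2
  · right
    refine ⟨h1, Units.ext (LinearMap.ext fun u => ?_)⟩
    have h2 := F.T_smul hm u
    rw [h1, neg_smul, one_smul] at h2
    exact h2

end Full

end Cfsg.Agent.H527.C3
end

-- part: H527/C3/Cen
section
/-!
# S1920, classical groups, section 4: the centralizer of `NN` (helper527)

`Full.E_same` : the projection of an eigenvector with the character of `w` on the span of `NN w` lies in `⟨w, J w⟩`.
`Full.comm_of_distinct` : if the vectors of `S` lie in different orbits of characters, the centralizer of `NN` is commutative.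
`Full.twist` : `S = {v₁, v₂}` with the same character: `g τ = D τ g`, `D ∈ K[J]`, `τ = T R`.
-/

set_option autoImplicit false

open Subgroup

namespace Cfsg.Agent.H527.C3

variable {K W : Type*} [Field K] [AddCommGroup W] [Module K W]

/-- the isometries commuting with `NN` -/
def cen (h : LinearMap.BilinForm K W) (NN : Subgroup (Module.End K W)ˣ) : Subgroup (Module.End K W)ˣ :=
  isoms h ⊓ centralizer (NN : Set (Module.End K W)ˣ)

theorem mem_cen {h : LinearMap.BilinForm K W} {NN : Subgroup (Module.End K W)ˣ} {g : (Module.End K W)ˣ} :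
    g ∈ cen h NN ↔ g ∈ isoms h ∧ ∀ n ∈ NN, n * g = g * n := by
  rw [cen, mem_inf, mem_centralizer_iff]
  rfl

namespace Full

variable {h : LinearMap.BilinForm K W} {NN : Subgroup (Module.End K W)ˣ} [Fintype ↥NN] {J : (Module.End K W)ˣ}
variable {A : Subgroup (Module.End K W)ˣ} {S : Finset W} {c : (Module.End K W)ˣ → K}

/-- eigenvectors with different characters are orthogonal -/
theorem orth_of_not_same (F : Full h NN J A S c) {x y : W} (hx : Eig A x) (hy : Eig A y) (hxy : ¬ Dat.Same F.M x y) :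
    h x y = 0 := by
  have h1 : ∃ a ∈ Dat.inv1 F.M, ¬ ((a • x = x ∧ a • y = y) ∨ (a • x = -x ∧ a • y = -y)) := by
    by_contra hcon
    push Not at hcon
    exact hxy fun a ha => by
      by_contra h2
      exact h2 (by simpa only [not_or, not_and] using hcon a ha)
  obtain ⟨a, ha, hn⟩ := h1
  have h2 : h (a • x) (a • y) = h x y := F.D.iso (F.M.le ha.1) x y
  rcases hx a ha.1 ha.2 with h3 | h3
  · rcases hy a ha.1 ha.2 with h4 | h4
    · exact absurd (Or.inl ⟨h3, h4⟩) hn
    · rw [h3, h4, map_neg] at h2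
      have h5 : (2 : K) * h x y = 0 := by linear_combination -h2
      exact (mul_eq_zero.1 h5).resolve_left F.D.two
  · rcases hy a ha.1 ha.2 with h4 | h4
    · rw [h3, h4, map_neg, LinearMap.neg_apply] at h2
      have h5 : (2 : K) * h x y = 0 := by linear_combination -h2
      exact (mul_eq_zero.1 h5).resolve_left F.D.two
    · exact absurd (Or.inr ⟨h3, h4⟩) hn

/-- `m v` is an eigenvector -/
theorem eig_smul (F : Full h NN J A S c) {v : W} (hv : Eig A v) {m : (Module.End K W)ˣ} (hm : m ∈ NN) :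
    Eig A (m • v) := by
  intro a ha ha1
  rcases F.D.comm a (F.M.le ha) m hm with h1 | h1
  · rcases hv a ha ha1 with h2 | h2
    · left; rw [← mul_smul, h1, mul_smul, h2]
    · right; rw [← mul_smul, h1, mul_smul, h2, smul_neg]
  · rcases hv a ha ha1 with h2 | h2
    · right; rw [← mul_smul, h1, Units.neg_smul, mul_smul, h2]
    · left; rw [← mul_smul, h1, Units.neg_smul, mul_smul, h2, smul_neg, neg_neg]

theorem same_symm (F : Full h NN J A S c) {x y : W} (hxy : Dat.Same F.M x y) : Dat.Same F.M y x := by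
  intro a ha
  rcases hxy a ha with ⟨h1, h2⟩ | ⟨h1, h2⟩
  · exact Or.inl ⟨h2, h1⟩
  · exact Or.inr ⟨h2, h1⟩

theorem same_comb (F : Full h NN J A S c) {w u : W} (hwu : Dat.Same F.M w u) (x y : K) :
    Dat.Same F.M w (u - x • w - y • J • w) := by
  intro a ha
  have hc : a • J • w = J • a • w := by rw [← mul_smul, F.M.comm a ha.1 J F.M.J_mem, mul_smul]
  have h2 : a • (u - x • w - y • J • w) = a • u - x • a • w - y • J • a • w := by
    rw [smul_sub, smul_sub, smul_comm a x, smul_comm a y, hc]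
  rcases hwu a ha with ⟨h3, h4⟩ | ⟨h3, h4⟩
  · exact Or.inl ⟨h3, by rw [h2, h3, h4]⟩
  · right
    refine ⟨h3, ?_⟩
    rw [h2, h3, h4, smul_neg, smul_neg, smul_neg]
    abel

/-- the projection of an eigenvector with the same character -/
theorem E_same (F : Full h NN J A S c) {w u : W} (hw : w ∈ S) (hwu : Dat.Same F.M w u) :
    F.E w u = h w u • w + h (J • w) u • J • w := by
  have hJw : h (J • w) w = 0 := F.D.hJ_self w
  have hww : h w w = 1 := F.Y.one w hw
  have hwJ : h w (J • w) = 0 := by rw [F.D.sym]; exact hJw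
  have hJJ : h (J • w) (J • w) = 1 := by rw [F.D.hJ]; exact hww
  have hEw : F.E w w = w := by
    have := F.E_self hw (one_mem NN)
    rwa [one_smul] at this
  have hEJ : F.E w (J • w) = J • w := F.E_self hw F.D.J_mem
  have key : F.E w (u - h w u • w - h (J • w) u • J • w) = 0 := by
    have hsame := F.same_comb hwu (h w u) (h (J • w) u)
    have z1 : h w (u - h w u • w - h (J • w) u • J • w) = 0 := by
      rw [map_sub, map_sub, LinearMap.map_smul, LinearMap.map_smul, hww, hwJ, smul_eq_mul, smul_eq_mul]; ring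
    have z2 : h (J • w) (u - h w u • w - h (J • w) u • J • w) = 0 := by
      rw [map_sub, map_sub, LinearMap.map_smul, LinearMap.map_smul, hJw, hJJ, smul_eq_mul, smul_eq_mul]; ring
    generalize u - h w u • w - h (J • w) u • J • w = u' at hsame z1 z2
    have hz : ∀ n ∈ NN, h (n • w) u' = 0 := by
      intro n hn
      by_cases hA : n ∈ A
      · rcases F.D.sq n hn with h1 | h1
        · rcases F.Y.eig w hw n hA h1 with h2 | h2
          · rw [h2, z1]
          · rw [h2, map_neg, LinearMap.neg_apply, z1, neg_zero]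
        · have h3 : (J * n) * (J * n) = 1 := by
            calc J * n * (J * n) = J * (n * J) * n := by group
              _ = J * (J * n) * n := by rw [F.M.comm n hA J F.M.J_mem]
              _ = (J * J) * (n * n) := by group
              _ = 1 := by rw [F.D.J_sq, h1]; simp
          have h7 : ∀ y : W, (J * n) • w = y → n • w = -(J • y) := by
            intro y hy
            rw [← hy, mul_smul, F.D.JJ, neg_neg]
          rcases F.Y.eig w hw (J * n) (mul_mem F.M.J_mem hA) h3 with h4 | h4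
          · rw [h7 _ h4, map_neg, LinearMap.neg_apply, z2, neg_zero]
          · rw [h7 _ h4, smul_neg, neg_neg, z2]
      · obtain ⟨a, ha, ha1, han⟩ := F.D.anti F.M hn hA
        have h2 : a • n • w = -(n • a • w) := by
          rw [← mul_smul, han, Units.neg_smul, mul_smul]
        by_cases hu0 : u' = 0
        · rw [hu0, map_zero]
        refine F.orth_of_not_same (F.eig_smul (F.Y.eig w hw) hn) (fun b hb hb1 => ?_) fun hs => ?_
        · rcases hsame b ⟨hb, hb1⟩ with ⟨_, h4⟩ | ⟨_, h4⟩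
          · exact Or.inl h4
          · exact Or.inr h4
        · have hnw : n • w ≠ 0 := by
            intro h0
            have : w = 0 := by
              have h5 : n⁻¹ • n • w = n⁻¹ • (0 : W) := by rw [h0]
              rwa [inv_smul_smul, smul_zero] at h5
            rw [this, map_zero] at hww
            exact zero_ne_one hww
          have hu'0 : ∀ x : W, x = -x → x = 0 := fun x hx => by
            have h5 : (2 : K) • x = 0 := by rw [two_smul]; nth_rewrite 1 [hx]; exact neg_add_cancel x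
            exact (smul_eq_zero.1 h5).resolve_left F.D.two
          rcases hsame a ⟨ha, ha1⟩ with ⟨h3, h4⟩ | ⟨h3, h4⟩
          · rcases hs a ⟨ha, ha1⟩ with ⟨h5, h6⟩ | ⟨h5, h6⟩
            · rw [h2, h3] at h5
              exact hnw (hu'0 _ h5.symm)
            · exact hu0 (hu'0 _ (h4.symm.trans h6))
          · rcases hs a ⟨ha, ha1⟩ with ⟨h5, h6⟩ | ⟨h5, h6⟩
            · exact hu0 (hu'0 _ (h6.symm.trans h4))
            · rw [h2, h3, smul_neg, neg_neg] at h5
              exact hnw (hu'0 _ h5)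
    have h1 := F.D.Tr_zero (fun _ => (1 : K)) (x := w) (y := w) (w := u') hz (one_mem NN)
    rw [one_smul] at h1
    rw [E, op, LinearMap.smul_apply, h1, smul_zero]
  rw [map_sub, map_sub, LinearMap.map_smul, LinearMap.map_smul, hEw, hEJ, sub_sub, sub_eq_zero] at key
  exact key

/-- the projection of an eigenvector of a different orbit vanishes -/
theorem E_not_same (F : Full h NN J A S c) {w u : W} (hw : w ∈ S) (hu : Eig A u)
    (hwu : ∀ n ∈ NN, ¬ Dat.Same F.M (n • w) u) : F.E w u = 0 := by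
  have h1 := F.D.Tr_zero (fun _ => (1 : K)) (x := w) (y := w) (w := u)
    (fun n hn => F.orth_of_not_same (F.eig_smul (F.Y.eig w hw) hn) hu (hwu n hn)) (one_mem NN)
  rw [one_smul] at h1
  rw [E, op, LinearMap.smul_apply, h1, smul_zero]

theorem cen_same (F : Full h NN J A S c) {g : (Module.End K W)ˣ} (hg : g ∈ cen h NN) {v : W} (hv : v ∈ S) :
    Dat.Same F.M v (g • v) := by
  intro a ha
  have h1 : a • g • v = g • a • v := by
    rw [← mul_smul, (mem_cen.1 hg).2 a (F.M.le ha.1), mul_smul]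
  rcases F.Y.eig v hv a ha.1 ha.2 with h2 | h2
  · exact Or.inl ⟨h2, by rw [h1, h2]⟩
  · exact Or.inr ⟨h2, by rw [h1, h2, smul_neg]⟩

theorem same_trans (F : Full h NN J A S c) {x y z : W} (hxy : Dat.Same F.M x y) (hyz : Dat.Same F.M y z)
    (hy : y ≠ 0) : Dat.Same F.M x z := by
  have hu'0 : ∀ x : W, x = -x → x = 0 := fun x hx => by
    have h5 : (2 : K) • x = 0 := by rw [two_smul]; nth_rewrite 1 [hx]; exact neg_add_cancel x
    exact (smul_eq_zero.1 h5).resolve_left F.D.two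
  intro a ha
  rcases hxy a ha with ⟨h1, h2⟩ | ⟨h1, h2⟩
  · rcases hyz a ha with ⟨h3, h4⟩ | ⟨h3, h4⟩
    · exact Or.inl ⟨h1, h4⟩
    · exact absurd (hu'0 _ (h2.symm.trans h3)) hy
  · rcases hyz a ha with ⟨h3, h4⟩ | ⟨h3, h4⟩
    · exact absurd (hu'0 _ (h3.symm.trans h2)) hy
    · exact Or.inr ⟨h1, h4⟩

theorem ne_zero (F : Full h NN J A S c) {v : W} (hv : v ∈ S) : v ≠ 0 := by
  intro h0
  have h1 := F.Y.one v hv
  rw [h0, map_zero] at h1
  exact zero_ne_one h1

theorem smul_ne {v : W} (hv : v ≠ 0) (g : (Module.End K W)ˣ) : g • v ≠ 0 := by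
  intro h0
  have h5 : g⁻¹ • g • v = g⁻¹ • (0 : W) := by rw [h0]
  rw [inv_smul_smul, smul_zero] at h5
  exact hv h5

theorem sum_E (F : Full h NN J A S c) (u : W) : ∑ v ∈ S, F.E v u = u := by
  have h1 := congrArg (fun f : Module.End K W => f u) F.E_sum
  simpa [LinearMap.sum_apply] using h1

/-- **different orbits: the centralizer is commutative** -/
theorem comm_of_distinct (F : Full h NN J A S c)
    (hd : ∀ v ∈ S, ∀ w ∈ S, v ≠ w → ∀ n ∈ NN, ¬ Dat.Same F.M (n • w) v) :
    ∀ g ∈ cen h NN, ∀ g' ∈ cen h NN, g * g' = g' * g := by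
  classical
  have key : ∀ g ∈ cen h NN, ∀ v ∈ S, ∃ x y : K, g • v = x • v + y • J • v := by
    intro g hg v hv
    have hs := F.cen_same hg hv
    have hEg : Eig A (g • v) := fun a ha ha1 => by
      rcases hs a ⟨ha, ha1⟩ with ⟨_, h4⟩ | ⟨_, h4⟩
      · exact Or.inl h4
      · exact Or.inr h4
    have h1 := F.sum_E (g • v)
    rw [Finset.sum_eq_single v] at h1
    · rw [F.E_same hv hs] at h1
      exact ⟨_, _, h1.symm⟩
    · intro w hw hwv
      refine F.E_not_same hw hEg fun n hn hs' => ?_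
      exact hd v hv w hw (Ne.symm hwv) n hn (F.same_trans hs' (F.same_symm hs) (smul_ne (F.ne_zero hv) g))
    · exact fun h => absurd hv h
  intro g hg g' hg'
  have hJ : ∀ g ∈ cen h NN, ∀ u : W, g • J • u = J • g • u := fun g hg u => by
    rw [← mul_smul, ← (mem_cen.1 hg).2 J F.D.J_mem, mul_smul]
  refine Units.ext (F.ext fun v hv m hm => ?_)
  change (g * g') • m • v = (g' * g) • m • v
  have hm' : ∀ g ∈ cen h NN, ∀ u : W, g • m • u = m • g • u := fun g hg u => by
    rw [← mul_smul, ← (mem_cen.1 hg).2 m hm, mul_smul]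
  rw [mul_smul, mul_smul, hm' g' hg', hm' g hg, hm' g hg, hm' g' hg']
  congr 1
  obtain ⟨x, y, hxy⟩ := key g hg v hv
  obtain ⟨x', y', hxy'⟩ := key g' hg' v hv
  rw [hxy', hxy, smul_add, smul_comm g x', smul_comm g y', hJ g hg, smul_add, smul_comm g' x, smul_comm g' y,
    hJ g' hg', hxy, hxy']
  simp only [smul_add, smul_smul]
  have hJc : ∀ (k : K) (u : W), J • k • u = k • J • u := fun k u => smul_comm J k u
  simp only [hJc, F.D.JJ, smul_smul, smul_neg]
  rw [mul_comm x x', mul_comm x y', mul_comm y x', mul_comm y y']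
  abel

end Full

end Cfsg.Agent.H527.C3
end

-- part: H527/C3/Twist
section
/-!
# S1920, classical groups, section 4: two planes with the same character (helper527)

`Full.R` : `m v₁ ↦ m v₂ ↦ - m v₁`.  `Full.twist` : `g T R = D T R g` with `D ∈ K[J]`.
`Full.perfect_comm` : a perfect subgroup of the centralizer commutes with `T R`.
-/

set_option autoImplicit false

open Subgroup

namespace Cfsg.Agent.H527.C3

variable {K W : Type*} [Field K] [AddCommGroup W] [Module K W]

namespace Full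

variable {h : LinearMap.BilinForm K W} {NN : Subgroup (Module.End K W)ˣ} [Fintype ↥NN] {J : (Module.End K W)ˣ}
variable {A : Subgroup (Module.End K W)ˣ} {S : Finset W} {c : (Module.End K W)ˣ → K}

/-- the rotation `m v₁ ↦ m v₂ ↦ - m v₁` -/
noncomputable def R (F : Full h NN J A S c) (v₁ v₂ : W) : Module.End K W :=
  F.op (fun _ => 1) v₂ v₁ - F.op (fun _ => 1) v₁ v₂

theorem R_one (F : Full h NN J A S c) {v₁ v₂ : W} (h1 : v₁ ∈ S) (h2 : v₂ ∈ S) (hne : v₁ ≠ v₂)
    (hs : Dat.Same F.M v₁ v₂) {m : (Module.End K W)ˣ} (hm : m ∈ NN) : F.R v₁ v₂ (m • v₁) = m • v₂ := by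
  rw [R, LinearMap.sub_apply, F.op_self (Dat.Sg.one NN) (fun _ _ => rfl) h1 hs hm,
    F.op_other _ h2 h1 (Ne.symm hne) hm, one_smul, sub_zero]

theorem R_two (F : Full h NN J A S c) {v₁ v₂ : W} (h1 : v₁ ∈ S) (h2 : v₂ ∈ S) (hne : v₁ ≠ v₂)
    (hs : Dat.Same F.M v₁ v₂) {m : (Module.End K W)ˣ} (hm : m ∈ NN) : F.R v₁ v₂ (m • v₂) = -(m • v₁) := by
  rw [R, LinearMap.sub_apply, F.op_self (Dat.Sg.one NN) (fun _ _ => rfl) h2 (F.same_symm hs) hm,
    F.op_other _ h1 h2 hne hm, one_smul, zero_sub]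

theorem R_adj (F : Full h NN J A S c) (v₁ v₂ u w : W) : h (F.R v₁ v₂ u) w = - h u (F.R v₁ v₂ w) := by
  rw [R, LinearMap.sub_apply, LinearMap.sub_apply, map_sub, LinearMap.sub_apply, map_sub, F.op_adj, F.op_adj]
  ring

theorem R_smul (F : Full h NN J A S c) (v₁ v₂ : W) {m : (Module.End K W)ˣ} (hm : m ∈ NN) (u : W) :
    F.R v₁ v₂ (m • u) = m • F.R v₁ v₂ u := by
  rw [R, LinearMap.sub_apply, LinearMap.sub_apply, F.op_smul (Dat.Sg.one NN) _ _ hm,
    F.op_smul (Dat.Sg.one NN) _ _ hm, one_smul, one_smul, smul_sub]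

/-- two planes with the same character -/
structure Two (F : Full h NN J A S c) (v₁ v₂ : W) : Prop where
  m1 : v₁ ∈ S
  m2 : v₂ ∈ S
  ne : v₁ ≠ v₂
  same : Dat.Same F.M v₁ v₂
  all : ∀ v ∈ S, v = v₁ ∨ v = v₂

theorem R_sq (F : Full h NN J A S c) {v₁ v₂ : W} (X : F.Two v₁ v₂) : F.R v₁ v₂ * F.R v₁ v₂ = -1 := by
  refine F.ext fun w hw m hm => ?_
  rw [Module.End.mul_apply, LinearMap.neg_apply, Module.End.one_apply]
  rcases X.all w hw with rfl | rfl
  · rw [F.R_one X.m1 X.m2 X.ne X.same hm, F.R_two X.m1 X.m2 X.ne X.same hm]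
  · rw [F.R_two X.m1 X.m2 X.ne X.same hm, map_neg, F.R_one X.m1 X.m2 X.ne X.same hm]

/-- `R` as a unit -/
noncomputable def Ru (F : Full h NN J A S c) {v₁ v₂ : W} (X : F.Two v₁ v₂) : (Module.End K W)ˣ :=
  ⟨F.R v₁ v₂, -F.R v₁ v₂, by rw [mul_neg, F.R_sq X, neg_neg], by rw [neg_mul, F.R_sq X, neg_neg]⟩

theorem Ru_smul (F : Full h NN J A S c) {v₁ v₂ : W} (X : F.Two v₁ v₂) (u : W) : F.Ru X • u = F.R v₁ v₂ u := rfl

theorem Ru_iso (F : Full h NN J A S c) {v₁ v₂ : W} (X : F.Two v₁ v₂) : F.Ru X ∈ isoms h := by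
  intro u v
  rw [Ru_smul, Ru_smul, F.R_adj, ← Module.End.mul_apply, F.R_sq X, LinearMap.neg_apply, Module.End.one_apply,
    map_neg, neg_neg]

theorem Ru_comm (F : Full h NN J A S c) {v₁ v₂ : W} (X : F.Two v₁ v₂) {m : (Module.End K W)ˣ} (hm : m ∈ NN) :
    F.Ru X * m = m * F.Ru X :=
  Units.ext (LinearMap.ext fun u => F.R_smul v₁ v₂ hm u)

/-- the image of `v` under an element of the centralizer -/
theorem cen_apply (F : Full h NN J A S c) {v₁ v₂ : W} (X : F.Two v₁ v₂) {g : (Module.End K W)ˣ} (hg : g ∈ cen h NN)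
    {v : W} (hv : v ∈ S) :
    ∃ x y x' y' : K, g • v = x • v₁ + y • J • v₁ + (x' • v₂ + y' • J • v₂) := by
  classical
  have hs := F.cen_same hg hv
  have h1 : Dat.Same F.M v₁ (g • v) := by
    rcases X.all v hv with rfl | rfl
    · exact hs
    · exact F.same_trans X.same hs (F.ne_zero X.m2)
  have h2 : Dat.Same F.M v₂ (g • v) := by
    rcases X.all v hv with rfl | rfl
    · exact F.same_trans (F.same_symm X.same) hs (F.ne_zero X.m1)
    · exact hs
  have h3 := F.sum_E (g • v)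
  have hS : S = {v₁, v₂} := by
    ext w
    rw [Finset.mem_insert, Finset.mem_singleton]
    constructor
    · exact X.all w
    · rintro (rfl | rfl)
      · exact X.m1
      · exact X.m2
  have h4' : ∀ f : W → W, ∑ w ∈ S, f w = f v₁ + f v₂ := fun f => by
    rw [hS]
    exact Finset.sum_pair X.ne
  have h4 : ∑ w ∈ S, F.E w (g • v) = F.E v₁ (g • v) + F.E v₂ (g • v) := h4' fun w => F.E w (g • v)
  rw [h4, F.E_same X.m1 h1, F.E_same X.m2 h2] at h3
  exact ⟨_, _, _, _, h3.symm⟩

/-- **twisted commutation** -/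
theorem twist (F : Full h NN J A S c) {v₁ v₂ : W} (X : F.Two v₁ v₂) {g : (Module.End K W)ˣ} (hg : g ∈ cen h NN) :
    ∃ x y : K, ∀ u : W, g • F.T (F.R v₁ v₂ u) =
      x • F.T (F.R v₁ v₂ (g • u)) + y • J • F.T (F.R v₁ v₂ (g • u)) := by
  obtain ⟨a1, a2, b1, b2, hg1⟩ := F.cen_apply X hg X.m1
  obtain ⟨c1, c2, d1, d2, hg2⟩ := F.cen_apply X hg X.m2
  -- the form on the planes
  have o1 : h v₁ v₁ = 1 := F.Y.one _ X.m1
  have o2 : h v₂ v₂ = 1 := F.Y.one _ X.m2
  have z1 : h (J • v₁) v₁ = 0 := F.D.hJ_self _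
  have z2 : h (J • v₂) v₂ = 0 := F.D.hJ_self _
  have z1' : h v₁ (J • v₁) = 0 := by rw [F.D.sym, z1]
  have z2' : h v₂ (J • v₂) = 0 := by rw [F.D.sym, z2]
  have p1 : h (J • v₁) (J • v₁) = 1 := by rw [F.D.hJ, o1]
  have p2 : h (J • v₂) (J • v₂) = 1 := by rw [F.D.hJ, o2]
  have q1 : h v₁ v₂ = 0 := by
    have := F.Y.orth _ X.m1 _ X.m2 X.ne 1 (one_mem NN)
    rwa [one_smul] at this
  have q1' : h v₂ v₁ = 0 := by rw [F.D.sym, q1]
  have q2 : h (J • v₁) v₂ = 0 := F.Y.orth _ X.m1 _ X.m2 X.ne J F.D.J_mem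
  have q2' : h v₂ (J • v₁) = 0 := by rw [F.D.sym, q2]
  have q3 : h (J • v₂) v₁ = 0 := F.Y.orth _ X.m2 _ X.m1 (Ne.symm X.ne) J F.D.J_mem
  have q3' : h v₁ (J • v₂) = 0 := by rw [F.D.sym, q3]
  have q4 : h (J • v₁) (J • v₂) = 0 := by rw [F.D.hJ, q1]
  have q4' : h (J • v₂) (J • v₁) = 0 := by rw [F.D.hJ, q1']
  have hgi := (mem_cen.1 hg).1
  have hgJ : ∀ u : W, g • J • u = J • g • u := fun u => by
    rw [← mul_smul, ← (mem_cen.1 hg).2 J F.D.J_mem, mul_smul]
  have hJc : ∀ (k : K) (u : W), J • k • u = k • J • u := fun k u => smul_comm J k u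
  have N1 : a1 ^ 2 + a2 ^ 2 + b1 ^ 2 + b2 ^ 2 = 1 := by
    have h1 := hgi v₁ v₁
    rw [hg1, o1] at h1
    simp only [map_add, LinearMap.add_apply, LinearMap.map_smul, LinearMap.smul_apply, smul_eq_mul, o1, o2, z1, z2,
      z1', z2', p1, p2, q1, q1', q2, q2', q3, q3', q4, q4'] at h1
    linear_combination h1
  have N2 : c1 ^ 2 + c2 ^ 2 + d1 ^ 2 + d2 ^ 2 = 1 := by
    have h1 := hgi v₂ v₂
    rw [hg2, o2] at h1
    simp only [map_add, LinearMap.add_apply, LinearMap.map_smul, LinearMap.smul_apply, smul_eq_mul, o1, o2, z1, z2,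
      z1', z2', p1, p2, q1, q1', q2, q2', q3, q3', q4, q4'] at h1
    linear_combination h1
  have R1 : a1 * c1 + a2 * c2 + b1 * d1 + b2 * d2 = 0 := by
    have h1 := hgi v₁ v₂
    rw [hg1, hg2, q1] at h1
    simp only [map_add, LinearMap.add_apply, LinearMap.map_smul, LinearMap.smul_apply, smul_eq_mul, o1, o2, z1, z2,
      z1', z2', p1, p2, q1, q1', q2, q2', q3, q3', q4, q4'] at h1
    linear_combination h1
  have R2 : -a1 * c2 + a2 * c1 - b1 * d2 + b2 * d1 = 0 := by
    have h1 := hgi v₁ (J • v₂)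
    rw [hgJ, hg1, hg2, q3'] at h1
    simp only [smul_add, hJc, F.D.JJ, map_add, map_neg, LinearMap.add_apply, LinearMap.map_smul,
      LinearMap.smul_apply, smul_eq_mul, o1, o2, z1, z2, z1', z2', p1, p2, q1, q1', q2, q2', q3, q3', q4, q4'] at h1
    linear_combination h1
  obtain ⟨D1, hD1⟩ : ∃ D1 : K, D1 = a1 * d1 - a2 * d2 - b1 * c1 + b2 * c2 := ⟨_, rfl⟩
  obtain ⟨D2, hD2⟩ : ∃ D2 : K, D2 = a1 * d2 + a2 * d1 - b1 * c2 - b2 * c1 := ⟨_, rfl⟩
  have e1 : D1 * a1 + D2 * a2 = d1 := by rw [hD1, hD2]; linear_combination d1 * N1 - b1 * R1 - b2 * R2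
  have e2 : -D1 * a2 + D2 * a1 = d2 := by rw [hD1, hD2]; linear_combination d2 * N1 + b1 * R2 - b2 * R1
  have e3 : -D1 * b1 - D2 * b2 = c1 := by rw [hD1, hD2]; linear_combination c1 * N1 - a1 * R1 - a2 * R2
  have e4 : D1 * b2 - D2 * b1 = c2 := by rw [hD1, hD2]; linear_combination c2 * N1 + a1 * R2 - a2 * R1
  have f1 : D1 * d1 + D2 * d2 = a1 := by rw [hD1, hD2]; linear_combination a1 * N2 - c1 * R1 + c2 * R2
  have f2 : -D1 * d2 + D2 * d1 = a2 := by rw [hD1, hD2]; linear_combination a2 * N2 - c2 * R1 - c1 * R2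
  have f3 : -D1 * c1 - D2 * c2 = b1 := by rw [hD1, hD2]; linear_combination b1 * N2 - d1 * R1 + d2 * R2
  have f4 : D1 * c2 - D2 * c1 = b2 := by rw [hD1, hD2]; linear_combination b2 * N2 - d2 * R1 - d1 * R2
  -- the values of `T R`
  have t1 : F.T (F.R v₁ v₂ v₁) = v₂ := by
    have h1 := F.R_one X.m1 X.m2 X.ne X.same (one_mem NN)
    have h2 := F.T_self X.m2 (one_mem NN)
    have hc1 : c 1 = 1 := F.cA 1 (one_mem _)
    rw [one_smul, one_smul] at h1
    rw [one_smul, hc1, one_smul] at h2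
    rw [h1, h2]
  have t2 : F.T (F.R v₁ v₂ v₂) = -v₁ := by
    have h1 := F.R_two X.m1 X.m2 X.ne X.same (one_mem NN)
    have h2 := F.T_self X.m1 (one_mem NN)
    have hc1 : c 1 = 1 := F.cA 1 (one_mem _)
    rw [one_smul, one_smul] at h1
    rw [one_smul, hc1, one_smul] at h2
    rw [h1, map_neg, h2]
  have tm : ∀ m ∈ NN, ∀ u : W, F.T (F.R v₁ v₂ (m • u)) = c m • m • F.T (F.R v₁ v₂ u) := by
    intro m hm u
    rw [F.R_smul v₁ v₂ hm, F.T_smul hm]
  have tJ : ∀ u : W, F.T (F.R v₁ v₂ (J • u)) = -(J • F.T (F.R v₁ v₂ u)) := by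
    intro u
    rw [tm J F.D.J_mem, F.cJ, neg_smul, one_smul]
  have hgm : ∀ m ∈ NN, ∀ u : W, g • m • u = m • g • u := fun m hm u => by
    rw [← mul_smul, ← (mem_cen.1 hg).2 m hm, mul_smul]
  have tg : ∀ (x y x' y' : K), F.T (F.R v₁ v₂ (x • v₁ + y • J • v₁ + (x' • v₂ + y' • J • v₂))) =
      x • v₂ + -(y • J • v₂) + (-(x' • v₁) + y' • J • v₁) := by
    intro x y x' y'
    simp only [map_add, LinearMap.map_smul, tJ, t1, t2, smul_neg, neg_neg]
  refine ⟨D1, D2, fun u => ?_⟩
  have hext : (g : Module.End K W) ∘ₗ F.T ∘ₗ F.R v₁ v₂ =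
      (D1 • (1 : Module.End K W) + D2 • (J : Module.End K W)) ∘ₗ F.T ∘ₗ F.R v₁ v₂ ∘ₗ (g : Module.End K W) := by
    refine F.ext fun v hv m hm => ?_
    change g • F.T (F.R v₁ v₂ (m • v)) = D1 • F.T (F.R v₁ v₂ (g • m • v)) + D2 • J • F.T (F.R v₁ v₂ (g • m • v))
    rw [hgm m hm, tm m hm, tm m hm]
    have hJm : J • m • F.T (F.R v₁ v₂ (g • v)) = m • J • F.T (F.R v₁ v₂ (g • v)) := by
      rw [← mul_smul, ← F.D.cen m hm, mul_smul]
    rw [hJc (c m), hJm, smul_comm D1 (c m), smul_comm D2 (c m), smul_comm g (c m), ← smul_add, hgm m hm,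
      smul_comm D1 m, smul_comm D2 m, ← smul_add]
    congr 2
    rcases X.all v hv with rfl | rfl
    · rw [t1, hg2, hg1, tg]
      rw [← e1, ← e2, ← e3, ← e4]
      simp only [smul_add, hJc, smul_neg, F.D.JJ]
      generalize J • v = w₁
      generalize J • v₂ = w₂
      module
    · rw [t2, smul_neg, hg1, hg2, tg]
      rw [← f1, ← f2, ← f3, ← f4]
      simp only [smul_add, hJc, smul_neg, F.D.JJ]
      generalize J • v = w₁
      generalize J • v₁ = w₂
      module
  have h1 := congrArg (fun f : Module.End K W => f u) hext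
  exact h1

end Full

end Cfsg.Agent.H527.C3
end

private theorem dce_325f713f26d5 : _root_.True := by
  try have : _root_.True := by simp only [_root_.Cfsg.Agent.H527.C3.Full.R.eq_1]
  try have : _root_.True := by simp only [_root_.Cfsg.Agent.H527.C3.Full.op.eq_1]
  try have : _root_.True := by simp only [_root_.Cfsg.Agent.H527.C3.Full.E.eq_1]
  try have : _root_.True := by simp only [_root_.Cfsg.Agent.H527.C3.Full.T.congr_simp]
  try have : _root_.True := by simp only [_root_.Cfsg.Agent.H527.C3.Dat.inv1.congr_simp]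
  try have : _root_.True := by simp only [_root_.Cfsg.Agent.H527.C3.Dat.kap.eq_1]
  try have : _root_.True := by simp only [_root_.Cfsg.Agent.H527.C3.Full.R.congr_simp]
  try have : _root_.True := by simp only [_root_.Cfsg.Agent.H527.C3.Dat.Tr.eq_1]
  try have : _root_.True := by simp only [_root_.Cfsg.Agent.H527.C3.cen.eq_1]
  try have : _root_.True := by simp only [_root_.Cfsg.Agent.H527.C3.Full.E.congr_simp]
  try have : _root_.True := by simp only [_root_.Cfsg.Agent.H527.C3.Full.T.eq_1]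
  exact _root_.True.intro
end

section
prune_inst 0xbcacfbaff8a9dfdfff7e7fa6dccffdf9bdbfffe6dff9cbffe06bffabdf2b0a89c5fb8d8fe818fe0eb6c23410b87853fdffceffe36bdc7ffffd5ff41ffbee1fe5f7b50951d4883e0fbc0ff603f0778e7f000000000000000000000000000000000200000000

-- part: H627/Co3/E7I
section
set_option linter.all false

/-!
# S1920, case B, `E₇(q)`, `z` of type `A₁D₆`: the interface (helper627)

`E7I z F B` : everything the analysis of `E₇(q)` uses. `R g a M` : `g ∈ C_G(z)` acts on `sl₂` as `Ad a`, `a ∈ GL₂(F)`, and on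
`so₁₂` as `Ad M`, `M` a similitude of the form `B` on the 12-dimensional space `V`. `ι : SL₂(F) → G` is the subgroup
`A₁ = ⟨X_b, X_-b⟩`, `Om` is `Ω₁₂⁺(F)`.
-/

set_option autoImplicit false

namespace Cfsg.Agent.H627.Co3

open Module

variable {F V : Type*} [Field F] [AddCommGroup V] [Module F V]

/-- the sign change on the vectors `v j`, `j ∈ J` -/
noncomputable def sgn (v : Basis (Fin 12) F V) (J : Finset (Fin 12)) : Module.End F V :=
  v.constr F (fun j => if j ∈ J then -v j else v j)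

/-- `M` is self-adjoint -/
def Sym (B : LinearMap.BilinForm F V) (M : Module.End F V) : Prop := ∀ u v, B (M u) v = B u (M v)

/-- **the interface** -/
structure E7I {G : Type*} [Group G] (z : G) (F : Type*) [Field F] {V : Type*} [AddCommGroup V] [Module F V]
    (B : LinearMap.BilinForm F V) where
  /-- `g` acts as `(a, M)` -/
  R : G → Matrix (Fin 2) (Fin 2) F → Module.End F V → Prop
  /-- the subgroup `SL₂(F)` -/
  ι : Matrix.SpecialLinearGroup (Fin 2) F →* G
  /-- `Ω₁₂⁺(F)` -/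
  Om : Set (Module.End F V)
  two : (2 : F) ≠ 0
  dim : finrank F V = 12
  symm : ∀ u v, B u v = B v u
  nd : ∀ u, (∀ v, B u v = 0) → u = 0
  ex : ∀ g, g * z = z * g → ∃ a M, R g a M
  cz : ∀ {g a M}, R g a M → g * z = z * g
  det : ∀ {g a M}, R g a M → a.det ≠ 0
  /-- `M` is a similitude, its multiplier is a square if and only if `det a` is -/
  sim : ∀ {g a M}, R g a M → ∃ μ : F, μ ≠ 0 ∧ (∀ u v, B (M u) (M v) = μ * B u v) ∧ (IsSquare μ ↔ IsSquare a.det)
  mul : ∀ {g a M g' a' M'}, R g a M → R g' a' M' → R (g * g') (a * a') (M * M')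
  uniq : ∀ {g a M a' M'}, R g a M → R g a' M' → (∃ c : F, a' = c • a) ∧ ∃ c : F, M' = c • M
  scal : ∀ {g a M} {c d : F}, R g a M → c ≠ 0 → d ≠ 0 → R g (c • a) (d • M)
  ker : ∀ {g}, R g 1 1 → g = 1 ∨ g = z
  Rι : ∀ x, R (ι x) x 1
  ι_neg : ι (-1) = z
  omT : ∀ {g M}, R g 1 M → ∃ c : F, c ≠ 0 ∧ c • M ∈ Om
  omS : ∀ {M}, M ∈ Om → ∃ g, R g 1 M
  om_iso : ∀ {M}, M ∈ Om → ∀ u v, B (M u) (M v) = B u v
  signs : ∀ v : Basis (Fin 12) F V, (∀ i j, i ≠ j → B (v i) (v j) = 0) → ∀ J : Finset (Fin 12),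
    (sgn v J ∈ Om ↔ Even J.card ∧ IsSquare (∏ j ∈ J, B (v j) (v j)))
  /-- table, `a = 1`, `n² = 1`, `n` conjugate to `n z` -/
  t1 : ∀ {n M}, R n 1 M → n * n = 1 → (∃ k, k * n * k⁻¹ = n * z) → ∃ ν : F, ν ≠ 0 ∧ M * M = ν ^ 2 • 1 ∧ Sym B M ∧
    (finrank F (LinearMap.ker (M + ν • 1)) = 4 ∨ finrank F (LinearMap.ker (M + ν • 1)) = 8)
  /-- table, `a = 1`, `n² = z` -/
  t2 : ∀ {n M} {ν : F}, R n 1 M → n * n = z → M * M = ν ^ 2 • 1 → Sym B M →
    finrank F (LinearMap.ker (M + ν • 1)) ≠ 4 ∧ finrank F (LinearMap.ker (M + ν • 1)) ≠ 8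
  /-- table, `a` not scalar, `n² = z` -/
  t3 : ∀ {n a M} {l : F}, R n a M → n * n = z → (¬ ∃ c : F, a = c • 1) → M * M = l • 1 → Sym B M → IsSquare l

end Cfsg.Agent.H627.Co3
end

-- part: H898/Co3/Eigb
section
set_option linter.all false
open scoped Cfsg.Agent.FastGrp

/-!
# S1920, case B: a common orthogonal eigenbasis (helper898)

`S` is a set of pairwise commuting self-adjoint endomorphisms of a nondegenerate symmetric bilinear space, each with square
`ν²`, `ν ≠ 0`. Then there is an orthogonal basis of common eigenvectors.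
-/

set_option autoImplicit false
set_option linter.unusedSectionVars false

namespace Cfsg.Agent.H898.Co3

open Module

variable {F V : Type*} [Field F] [AddCommGroup V] [Module F V]

section

variable {B : LinearMap.BilinForm F V} {S : Set (Module.End F V)}

/-- a nondegenerate nonzero subspace contains a nonisotropic vector -/
theorem exists_aniso (h2 : (2 : F) ≠ 0) (hs : ∀ u v, B u v = B v u) {U : Submodule F V} (hU : U ≠ ⊥)
    (hn : ∀ u ∈ U, (∀ v ∈ U, B u v = 0) → u = 0) : ∃ u ∈ U, B u u ≠ 0 := by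
  by_contra hcon
  push Not at hcon
  apply hU
  rw [Submodule.eq_bot_iff]
  intro u hu
  refine hn u hu fun v hv => ?_
  have h1 := hcon (u + v) (U.add_mem hu hv)
  simp only [map_add, LinearMap.add_apply] at h1
  rw [hcon u hu, hcon v hv, hs v u] at h1
  have h3 : 2 * B u v = 0 := by linear_combination h1
  exact (mul_eq_zero.1 h3).resolve_left h2

/-- a nondegenerate nonzero `S`-stable subspace contains a nonisotropic common eigenvector -/
theorem exists_common [FiniteDimensional F V] (h2 : (2 : F) ≠ 0) (hs : ∀ u v, B u v = B v u)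
    (hS : ∀ M ∈ S, ∃ ν : F, ν ≠ 0 ∧ M * M = ν ^ 2 • 1) (hB : ∀ M ∈ S, ∀ u v, B (M u) v = B u (M v))
    (hc : ∀ M ∈ S, ∀ N ∈ S, M * N = N * M) (k : ℕ) : ∀ U : Submodule F V, finrank F U ≤ k → U ≠ ⊥ →
      (∀ u ∈ U, (∀ v ∈ U, B u v = 0) → u = 0) → (∀ M ∈ S, ∀ u ∈ U, M u ∈ U) →
      ∃ u ∈ U, B u u ≠ 0 ∧ ∀ M ∈ S, ∃ c : F, M u = c • u := by
  induction k with
  | zero =>
    intro U hk hU
    exact absurd (Submodule.finrank_eq_zero.1 (Nat.le_zero.1 hk)) hU
  | succ k ih =>
    intro U hk hU hn hst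
    by_cases hall : ∀ M ∈ S, ∃ c : F, ∀ u ∈ U, M u = c • u
    · obtain ⟨u, hu, hu0⟩ := exists_aniso h2 hs hU hn
      refine ⟨u, hu, hu0, fun M hM => ?_⟩
      obtain ⟨c, hc⟩ := hall M hM
      exact ⟨c, hc u hu⟩
    · push Not at hall
      obtain ⟨M, hM, hne⟩ := hall
      obtain ⟨ν, hν, hMM⟩ := hS M hM
      have hMM' : ∀ v, M (M v) = ν ^ 2 • v := fun v => by
        have := congrArg (fun f : Module.End F V => f v) hMM
        simpa using this
      let P : Submodule F V := U ⊓ LinearMap.ker (M - ν • (1 : Module.End F V))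
      have hP : ∀ x, x ∈ P ↔ x ∈ U ∧ M x = ν • x := by
        intro x
        change x ∈ U ⊓ LinearMap.ker (M - ν • (1 : Module.End F V)) ↔ _
        rw [Submodule.mem_inf, LinearMap.mem_ker, LinearMap.sub_apply, sub_eq_zero]
        rfl
      have hPU : P ≤ U := inf_le_left
      have hPne : P ≠ U := by
        intro h
        obtain ⟨u, hu, hu'⟩ := hne ν
        rw [← h, hP] at hu
        exact hu' hu.2
      have hP0 : P ≠ ⊥ := by
        intro h
        obtain ⟨u, hu, hu'⟩ := hne (-ν)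
        have h1 : M u + ν • u ∈ P := by
          rw [hP]
          refine ⟨U.add_mem (hst M hM u hu) (U.smul_mem _ hu), ?_⟩
          rw [map_add, map_smul, hMM', smul_add, smul_smul, ← pow_two, add_comm]
        rw [h, Submodule.mem_bot] at h1
        apply hu'
        rw [neg_smul]
        exact eq_neg_of_add_eq_zero_left h1
      have hlt : finrank F P < finrank F U := Submodule.finrank_lt_finrank_of_lt (lt_of_le_of_ne hPU hPne)
      -- decomposition
      have hdec : ∀ w ∈ U, ∃ a ∈ P, ∃ b ∈ U, M b = -(ν • b) ∧ w = a + b := by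
        intro w hw
        refine ⟨(2 * ν)⁻¹ • (ν • w + M w), ?_, (2 * ν)⁻¹ • (ν • w - M w), ?_, ?_, ?_⟩
        · rw [hP]
          refine ⟨U.smul_mem _ (U.add_mem (U.smul_mem _ hw) (hst M hM w hw)), ?_⟩
          rw [map_smul, map_add, map_smul, hMM', smul_comm ν, smul_add ν, smul_smul ν, ← pow_two, add_comm (ν • M w)]
        · exact U.smul_mem _ (U.sub_mem (U.smul_mem _ hw) (hst M hM w hw))
        · rw [map_smul, map_sub, map_smul, hMM', smul_comm ν, smul_sub ν, smul_smul ν, ← pow_two, ← smul_neg, neg_sub]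
        · rw [← smul_add, show ν • w + M w + (ν • w - M w) = (2 * ν) • w by
            rw [two_mul, add_smul]; abel, smul_smul, inv_mul_cancel₀ (mul_ne_zero h2 hν), one_smul]
      have hort : ∀ u ∈ P, ∀ b, M b = -(ν • b) → B u b = 0 := by
        intro u hu b hb
        have h1 := hB M hM u b
        rw [((hP u).1 hu).2, hb, map_smul, LinearMap.smul_apply, map_neg, map_smul, smul_eq_mul] at h1
        have h3 : (2 * ν) * B u b = 0 := by linear_combination h1
        exact (mul_eq_zero.1 h3).resolve_left (mul_ne_zero h2 hν)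
      have hPn : ∀ u ∈ P, (∀ v ∈ P, B u v = 0) → u = 0 := by
        intro u hu h
        refine hn u (hPU hu) fun w hw => ?_
        obtain ⟨a, ha, b, _, hb, rfl⟩ := hdec w hw
        rw [map_add, h a ha, hort u hu b hb, add_zero]
      have hPst : ∀ N ∈ S, ∀ u ∈ P, N u ∈ P := by
        intro N hN u hu
        rw [hP] at hu ⊢
        refine ⟨hst N hN u hu.1, ?_⟩
        have h1 := congrArg (fun f : Module.End F V => f u) (hc M hM N hN)
        rw [Module.End.mul_apply, Module.End.mul_apply, hu.2, map_smul] at h1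
        exact h1
      obtain ⟨u, hu, h3⟩ := ih P (by omega) hP0 hPn hPst
      exact ⟨u, hPU hu, h3⟩

/-- orthogonal families of common eigenvectors -/
theorem exists_family [FiniteDimensional F V] (h2 : (2 : F) ≠ 0) (hs : ∀ u v, B u v = B v u)
    (hn : ∀ u, (∀ v, B u v = 0) → u = 0)
    (hS : ∀ M ∈ S, ∃ ν : F, ν ≠ 0 ∧ M * M = ν ^ 2 • 1) (hB : ∀ M ∈ S, ∀ u v, B (M u) v = B u (M v))
    (hc : ∀ M ∈ S, ∀ N ∈ S, M * N = N * M) (k : ℕ) (hk : k ≤ finrank F V) :
    ∃ v : Fin k → V, (∀ i j, i ≠ j → B (v i) (v j) = 0) ∧ (∀ i, B (v i) (v i) ≠ 0) ∧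
      ∀ M ∈ S, ∀ i, ∃ c : F, M (v i) = c • v i := by
  classical
  induction k with
  | zero => exact ⟨fun i => i.elim0, fun i => i.elim0, fun i => i.elim0, fun _ _ i => i.elim0⟩
  | succ k ih =>
    obtain ⟨v, hv1, hv2, hv3⟩ := ih (by omega)
    let U : Submodule F V :=
      { carrier := {x | ∀ i, B (v i) x = 0}
        add_mem' := fun {a b} ha hb i => by rw [map_add, ha i, hb i, add_zero]
        zero_mem' := fun i => map_zero _
        smul_mem' := fun c x hx i => by rw [map_smul, hx i, smul_zero] }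
    have hU : ∀ x, x ∈ U ↔ ∀ i, B (v i) x = 0 := fun x => Iff.rfl
    have hproj : ∀ w, w - ∑ i, (B (v i) w / B (v i) (v i)) • v i ∈ U := by
      intro w
      rw [hU]
      intro j
      rw [map_sub, map_sum, Finset.sum_eq_single j]
      · rw [map_smul, smul_eq_mul, div_mul_cancel₀ _ (hv2 j), sub_self]
      · intro i _ hi
        rw [map_smul, hv1 j i hi.symm, smul_zero]
      · intro h
        exact absurd (Finset.mem_univ j) h
    have hU0 : U ≠ ⊥ := by
      intro h
      have h1 : (⊤ : Submodule F V) ≤ Submodule.span F (Set.range v) := by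
        intro w _
        have h3 := hproj w
        rw [h, Submodule.mem_bot, sub_eq_zero] at h3
        rw [h3]
        exact Submodule.sum_mem _ fun i _ => Submodule.smul_mem _ _ (Submodule.subset_span ⟨i, rfl⟩)
      have h4 : finrank F V ≤ k := by
        have h5 := finrank_range_le_card (R := F) v
        rw [Set.finrank, top_le_iff.1 h1, finrank_top, Fintype.card_fin] at h5
        exact h5
      omega
    have hUn : ∀ u ∈ U, (∀ w ∈ U, B u w = 0) → u = 0 := by
      intro u hu h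
      refine hn u fun w => ?_
      have h3 := h _ (hproj w)
      rw [map_sub, map_sum, Finset.sum_eq_zero, sub_zero] at h3
      · exact h3
      · intro i _
        rw [map_smul, hs u (v i), (hU u).1 hu i, smul_zero]
    have hUst : ∀ M ∈ S, ∀ u ∈ U, M u ∈ U := by
      intro M hM u hu
      rw [hU] at hu ⊢
      intro i
      obtain ⟨c, hc⟩ := hv3 M hM i
      rw [← hB M hM, hc, map_smul, LinearMap.smul_apply, hu i, smul_zero]
    obtain ⟨u, hu, hu0, hu3⟩ := exists_common h2 hs hS hB hc _ U le_rfl hU0 hUn hUst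
    refine ⟨Fin.snoc v u, ?_, ?_, ?_⟩
    · intro i j hij
      induction i using Fin.lastCases with
      | last =>
        induction j using Fin.lastCases with
        | last => exact absurd rfl hij
        | cast j => rw [Fin.snoc_last, Fin.snoc_castSucc, hs]; exact hu j
      | cast i =>
        induction j using Fin.lastCases with
        | last => rw [Fin.snoc_last, Fin.snoc_castSucc]; exact hu i
        | cast j =>
          rw [Fin.snoc_castSucc, Fin.snoc_castSucc]
          exact hv1 i j fun e => hij (by rw [e])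
    · intro i
      induction i using Fin.lastCases with
      | last => rw [Fin.snoc_last]; exact hu0
      | cast i => rw [Fin.snoc_castSucc]; exact hv2 i
    · intro M hM i
      induction i using Fin.lastCases with
      | last => rw [Fin.snoc_last]; exact hu3 M hM
      | cast i => rw [Fin.snoc_castSucc]; exact hv3 M hM i

/-- **common orthogonal eigenbasis** -/
theorem exists_eigenbasis [FiniteDimensional F V] (h2 : (2 : F) ≠ 0) (hs : ∀ u v, B u v = B v u)
    (hn : ∀ u, (∀ v, B u v = 0) → u = 0)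
    (hS : ∀ M ∈ S, ∃ ν : F, ν ≠ 0 ∧ M * M = ν ^ 2 • 1) (hB : ∀ M ∈ S, ∀ u v, B (M u) v = B u (M v))
    (hc : ∀ M ∈ S, ∀ N ∈ S, M * N = N * M) {n : ℕ} (hd : finrank F V = n) :
    ∃ v : Basis (Fin n) F V, (∀ i j, i ≠ j → B (v i) (v j) = 0) ∧ (∀ i, B (v i) (v i) ≠ 0) ∧
      ∀ M ∈ S, ∀ i, ∃ c : F, M (v i) = c • v i := by
  classical
  obtain ⟨v, hv1, hv2, hv3⟩ := exists_family h2 hs hn hS hB hc n hd.ge
  have hli : LinearIndependent F v := by
    rw [Fintype.linearIndependent_iff]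
    intro g hg j
    have h1 : B (v j) (∑ i, g i • v i) = g j * B (v j) (v j) := by
      rw [map_sum, Finset.sum_eq_single j]
      · rw [map_smul, smul_eq_mul]
      · intro i _ hi
        rw [map_smul, hv1 j i hi.symm, smul_zero]
      · intro h
        exact absurd (Finset.mem_univ j) h
    rw [hg, map_zero] at h1
    exact (mul_eq_zero.1 h1.symm).resolve_right (hv2 j)
  refine ⟨basisOfLinearIndependentOfCardEqFinrank' v hli (by rw [Fintype.card_fin, hd]), ?_, ?_, ?_⟩
  · intro i j hij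
    rw [coe_basisOfLinearIndependentOfCardEqFinrank']
    exact hv1 i j hij
  · intro i
    rw [coe_basisOfLinearIndependentOfCardEqFinrank']
    exact hv2 i
  · intro M hM i
    rw [coe_basisOfLinearIndependentOfCardEqFinrank']
    exact hv3 M hM i

end

end Cfsg.Agent.H898.Co3
end

-- part: H736/Co3/Tab8
section
prune_inst 0x4353045007562020008180592330020642400019200630001f94005420d4f5763a04327017e701f1493dcbaf45878c020031001c9423000002a00be00411e01a084af6ae2b77c1f043f009fc0f887180c00000000000000000000000000041004000000000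
set_option linter.all false
open scoped Cfsg.Agent.FastGrp

namespace Cfsg.Agent.H90F

private noncomputable def frc {α : Type} (x : ℕ) (f : ℕ → α) : α := Nat.rec (f 0) (fun k _ => f (Nat.succ k)) x

private theorem frc_eq {α : Type} (x : ℕ) (f : ℕ → α) : frc x f = f x := by cases x <;> rfl

private noncomputable def nth {α : Type} (d : α) (l : List α) : ℕ → α :=
  List.rec (fun _ => d) (fun a _ ih n => Nat.rec a (fun k _ => ih k) n) l

private theorem nth_eq {α : Type} (d : α) (l : List α) (n : ℕ) : nth d l n = l.getD n d := by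
  induction l generalizing n with
  | nil => rfl
  | cons a l ih => cases n with
    | zero => rfl
    | succ k => exact ih k

private noncomputable def fld {α : Type} (l : List α) (n : ℕ) (d : α) : α := frc n (nth d l)

private theorem ld_eq {α : Type} (l : List α) (n : ℕ) (d : α) : l.getD n d = fld l n d := by
  rw [fld, frc_eq, nth_eq]

private theorem ld_fun : @List.getD.{0} = @fld := by
  funext α a n d; exact ld_eq a n d

end Cfsg.Agent.H90F

/-!
# S1920: the subsystem `D8` of `E8` (helper736); tables generated by a script, checked by the kernel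
-/

set_option autoImplicit false
set_option Elab.async false

namespace Cfsg.Agent.H736.Co3

open Cfsg.Lie Cfsg.Agent.ChevalleyStructure.XColumns

/-- the matrices of the root vectors -/
def es8 : List Sp := [[(8, 1, -1), (9, 0, 1)], [(8, 2, -1), (10, 0, 1)], [(8, 3, -1), (11, 0, 1)], [(8, 4, -1), (12, 0, 1)],
  [(8, 5, -1), (13, 0, 1)], [(8, 6, -1), (14, 0, 1)], [(8, 7, -1), (15, 0, 1)], [(7, 0, 1), (8, 15, -1)],
  [(6, 0, -1), (8, 14, 1)], [(5, 0, 1), (8, 13, -1)], [(4, 0, -1), (8, 12, 1)], [(3, 0, 1), (8, 11, -1)],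
  [(2, 0, -1), (8, 10, 1)], [(1, 0, 1), (8, 9, -1)], [], [], [], [], [], [], [], [], [], [], [], [], [], [],
  [], [], [], [], [], [], [], [], [], [], [], [], [], [], [], [], [], [], [], [], [], [], [], [], [], [], [],
  [], [], [], [], [], [], [], [], [], [], [], [], [], [], [], [], [], [], [], [], [], [], [],
  [(9, 2, -1), (10, 1, 1)], [(9, 3, -1), (11, 1, 1)], [(10, 3, -1), (11, 2, 1)], [(9, 4, -1), (12, 1, 1)],
  [(10, 4, -1), (12, 2, 1)], [(11, 4, -1), (12, 3, 1)], [(9, 5, -1), (13, 1, 1)], [(10, 5, -1), (13, 2, 1)],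
  [(11, 5, -1), (13, 3, 1)], [(12, 5, -1), (13, 4, 1)], [(9, 6, -1), (14, 1, 1)], [(10, 6, -1), (14, 2, 1)],
  [(11, 6, -1), (14, 3, 1)], [(12, 6, -1), (14, 4, 1)], [(13, 6, -1), (14, 5, 1)], [(9, 7, -1), (15, 1, 1)],
  [(10, 7, -1), (15, 2, 1)], [(11, 7, -1), (15, 3, 1)], [(12, 7, -1), (15, 4, 1)], [(13, 7, -1), (15, 5, 1)],
  [(14, 7, -1), (15, 6, 1)], [(7, 1, 1), (9, 15, -1)], [(7, 2, 1), (10, 15, -1)], [(7, 3, 1), (11, 15, -1)],
  [(7, 4, 1), (12, 15, -1)], [(7, 5, 1), (13, 15, -1)], [(7, 6, 1), (14, 15, -1)], [(6, 1, 1), (9, 14, -1)],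
  [(6, 2, 1), (10, 14, -1)], [(6, 3, 1), (11, 14, -1)], [(6, 4, 1), (12, 14, -1)], [(6, 5, 1), (13, 14, -1)],
  [(5, 1, 1), (9, 13, -1)], [(5, 2, 1), (10, 13, -1)], [(5, 3, 1), (11, 13, -1)], [(5, 4, 1), (12, 13, -1)],
  [(4, 1, 1), (9, 12, -1)], [(4, 2, 1), (10, 12, -1)], [(4, 3, 1), (11, 12, -1)], [(3, 1, 1), (9, 11, -1)],
  [(3, 2, 1), (10, 11, -1)], [(2, 1, 1), (9, 10, -1)], [(1, 2, 1), (10, 9, -1)], [(2, 3, 1), (11, 10, -1)],
  [(1, 3, 1), (11, 9, -1)], [(3, 4, 1), (12, 11, -1)], [(2, 4, 1), (12, 10, -1)], [(1, 4, 1), (12, 9, -1)],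
  [(4, 5, 1), (13, 12, -1)], [(3, 5, 1), (13, 11, -1)], [(2, 5, 1), (13, 10, -1)], [(1, 5, 1), (13, 9, -1)],
  [(5, 6, 1), (14, 13, -1)], [(4, 6, 1), (14, 12, -1)], [(3, 6, 1), (14, 11, -1)], [(2, 6, 1), (14, 10, -1)],
  [(1, 6, 1), (14, 9, -1)], [(6, 7, 1), (15, 14, -1)], [(5, 7, 1), (15, 13, -1)], [(4, 7, 1), (15, 12, -1)],
  [(3, 7, 1), (15, 11, -1)], [(2, 7, 1), (15, 10, -1)], [(1, 7, 1), (15, 9, -1)], [(6, 15, 1), (7, 14, -1)],
  [(5, 15, 1), (7, 13, -1)], [(4, 15, 1), (7, 12, -1)], [(3, 15, 1), (7, 11, -1)], [(2, 15, 1), (7, 10, -1)],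
  [(1, 15, 1), (7, 9, -1)], [(5, 14, 1), (6, 13, -1)], [(4, 14, 1), (6, 12, -1)], [(3, 14, 1), (6, 11, -1)],
  [(2, 14, 1), (6, 10, -1)], [(1, 14, 1), (6, 9, -1)], [(4, 13, 1), (5, 12, -1)], [(3, 13, 1), (5, 11, -1)],
  [(2, 13, 1), (5, 10, -1)], [(1, 13, 1), (5, 9, -1)], [(3, 12, 1), (4, 11, -1)], [(2, 12, 1), (4, 10, -1)],
  [(1, 12, 1), (4, 9, -1)], [(2, 11, 1), (3, 10, -1)], [(1, 11, 1), (3, 9, -1)], [(1, 10, 1), (2, 9, -1)], [],
  [], [], [], [], [], [], [], [], [], [], [], [], [], [], [], [], [], [], [], [], [], [], [], [], [], [], [],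
  [], [], [], [], [], [], [], [], [], [], [], [], [], [], [], [], [], [], [], [], [], [], [], [], [], [], [],
  [], [], [], [], [], [], [], [], [], [(0, 1, 1), (9, 8, -1)], [(0, 2, -1), (10, 8, 1)],
  [(0, 3, 1), (11, 8, -1)], [(0, 4, -1), (12, 8, 1)], [(0, 5, 1), (13, 8, -1)], [(0, 6, -1), (14, 8, 1)],
  [(0, 7, 1), (15, 8, -1)], [(0, 15, 1), (7, 8, -1)], [(0, 14, 1), (6, 8, -1)], [(0, 13, 1), (5, 8, -1)],
  [(0, 12, 1), (4, 8, -1)], [(0, 11, 1), (3, 8, -1)], [(0, 10, 1), (2, 8, -1)], [(0, 9, 1), (1, 8, -1)]]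

/-- twice the matrices of the simple coroots -/
def hs8 : List Sp := [
  [(0, 0, 1), (1, 1, -1), (2, 2, -1), (3, 3, -1), (4, 4, -1), (5, 5, -1), (6, 6, -1), (7, 7, 1), (8, 8, -1), (9, 9, 1), (10, 10, 1), (11, 11, 1), (12, 12, 1), (13, 13, 1), (14, 14, 1), (15, 15, -1)],
  [(6, 6, 2), (7, 7, 2), (14, 14, -2), (15, 15, -2)], [(6, 6, 2), (7, 7, -2), (14, 14, -2), (15, 15, 2)],
  [(5, 5, 2), (6, 6, -2), (13, 13, -2), (14, 14, 2)], [(4, 4, 2), (5, 5, -2), (12, 12, -2), (13, 13, 2)],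
  [(3, 3, 2), (4, 4, -2), (11, 11, -2), (12, 12, 2)], [(2, 2, 2), (3, 3, -2), (10, 10, -2), (11, 11, 2)],
  [(1, 1, 2), (2, 2, -2), (9, 9, -2), (10, 10, 2)]]

/-- the exponents of the characters of the torus -/
def ex8 : List (List ℤ) := [[0, -1, -1, -1, -1, -1, -1, 0, -1, 0, 0, 0, 0, 0, 0, -1], [0, 0, 0, 0, 0, 0, 1, 1, 0, 0, 0, 0, 0, 0, -1, -1],
  [0, 0, 0, 0, 0, 0, 1, -1, 0, 0, 0, 0, 0, 0, -1, 1], [0, 0, 0, 0, 0, 1, -1, 0, 0, 0, 0, 0, 0, -1, 1, 0],
  [0, 0, 0, 0, 1, -1, 0, 0, 0, 0, 0, 0, -1, 1, 0, 0], [0, 0, 0, 1, -1, 0, 0, 0, 0, 0, 0, -1, 1, 0, 0, 0],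
  [0, 0, 1, -1, 0, 0, 0, 0, 0, 0, -1, 1, 0, 0, 0, 0], [0, 1, -1, 0, 0, 0, 0, 0, 0, -1, 1, 0, 0, 0, 0, 0]]

/-- the tables of `D8` -/
def T8 : Tb := ⟨8, 1766739224991715727024124678689119760916462163036957429508856753288134655, es8, hs8⟩

instance : NeZero T8.m := ⟨by decide⟩

def rws8 : List Tb.Rw := [
  ⟨0, 239, 883314821845904021463758718625403430930068276778860608296283028169162752, 768, 3, [(8, 1, -1), (9, 0, 1)]⟩,
  ⟨1, 238, 1324917877522948543985801847954944063900632720132360514944604524033081344, 1280, 5, [(8, 2, -1), (10, 0, 1)]⟩,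
  ⟨2, 237, 1545556339662353142159858522832644669326546847289481098604055761623449600, 2304, 9, [(8, 3, -1), (11, 0, 1)]⟩,
  ⟨3, 236, 1655549439706999507420440606411541398062871436348051836973442003692945408, 4352, 17, [(8, 4, -1), (12, 0, 1)]⟩,
  ⟨4, 235, 1709893731488164758058279815405966906046805017047150862293000533068218368, 8448, 33, [(8, 5, -1), (13, 0, 1)]⟩,
  ⟨5, 234, 1735761430075213285783927223477263246032320364195636933685755636965441536, 16640, 65, [(8, 6, -1), (14, 0, 1)]⟩,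
  ⟨6, 233, 1746088748317300701209939849259539479584356795934098710552615504740089856, 33024, 129, [(8, 7, -1), (15, 0, 1)]⟩,
  ⟨7, 232, 1746087063372055972672862103164100402666856640591745282226860035357540352, 384, 32769, [(7, 0, 1), (8, 15, -1)]⟩,
  ⟨8, 231, 1735709142573771696736570466714641307959373147287104759696694695170146304, 320, 16385, [(6, 0, -1), (8, 14, 1)]⟩,
  ⟨9, 230, 1709813743559890996056457286104334263248228472510672621413269411423322112, 288, 8193, [(5, 0, 1), (8, 13, -1)]⟩,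
  ⟨10, 229, 1655455530379104867042199649933060665980059208892987559087666836325531648, 272, 4097, [(4, 0, -1), (8, 12, 1)]⟩,
  ⟨11, 228, 1545455465619802011578300540668349248789493083692225728090628541472833536, 264, 2049, [(3, 0, 1), (8, 11, -1)]⟩,
  ⟨12, 227, 1324813520711284937593249077601462407536019407252064820237025647597191168, 260, 1025, [(2, 0, -1), (8, 10, 1)]⟩,
  ⟨13, 226, 883208723572474500442001730427283689194338527969276561337549750429286400, 258, 513, [(1, 0, 1), (8, 9, -1)]⟩,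
  ⟨78, 161, 1325240526152071394348735164578003969432376472152064888186444196874301440, 1536, 6, [(9, 2, -1), (10, 1, 1)]⟩,
  ⟨79, 160, 1104382901695953674153229946228237813479048176027703229911462220367144960, 2560, 10, [(9, 3, -1), (11, 1, 1)]⟩,
  ⟨80, 159, 662670264821947752258608900416888704885038985998202931902029945378969600, 3072, 12, [(10, 3, -1), (11, 2, 1)]⟩,
  ⟨81, 158, 993951477944395491900440377211870827505580743200158966688793911827112960, 4608, 18, [(9, 4, -1), (12, 1, 1)]⟩,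
  ⟨82, 157, 552238841224808628908224663368773885258421990871319283897239622542955520, 5120, 20, [(10, 4, -1), (12, 2, 1)]⟩,
  ⟨83, 156, 331381217154738555968732774939638112367288236775568206611276802283277312, 6144, 24, [(11, 4, -1), (12, 3, 1)]⟩,
  ⟨84, 155, 938730547911484131701010713111374599108072055841971325627636024023720448, 8704, 34, [(9, 5, -1), (13, 1, 1)]⟩,
  ⟨85, 154, 497017912633120514382045689988526981399815244910264929786290283713925632, 9216, 36, [(10, 5, -1), (13, 2, 1)]⟩,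
  ⟨86, 153, 276160291445495901946352001984561748160059445047990122518078139731544576, 10240, 40, [(11, 5, -1), (13, 3, 1)]⟩,
  ⟨87, 152, 165728874127971686344822300993392793177857715475718303726277760936576512, 12288, 48, [(12, 5, -1), (13, 4, 1)]⟩,
  ⟨88, 151, 911109736993746027018195764878903161667448662648949893450134293797937408, 16896, 66, [(9, 6, -1), (14, 1, 1)]⟩,
  ⟨89, 150, 469397126398197930487946842415859759398258251184718694956016762416533760, 17408, 68, [(10, 6, -1), (14, 2, 1)]⟩,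
  ⟨90, 149, 248539554576130211230744173894694482470554839499039008524910313649211648, 18432, 72, [(11, 6, -1), (14, 3, 1)]⟩,
  ⟨91, 148, 138108235989324324509521187645860953227036418196335450621484191621055744, 20480, 80, [(12, 6, -1), (14, 4, 1)]⟩,
  ⟨92, 147, 82887515149615210003950539934291460423306182438851283178993818634552064, 24576, 96, [(13, 6, -1), (14, 5, 1)]⟩,
  ⟨93, 146, 897281759192331383271353723702862787797335710718515218838094164897308800, 33280, 130, [(9, 7, -1), (15, 1, 1)]⟩,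
  ⟨94, 145, 455569964767047735400581115963451671367286029415724199101413899480076416, 33792, 132, [(10, 7, -1), (15, 2, 1)]⟩,
  ⟨95, 144, 234714025285507590679226885514080661795014910755993950956651447486515328, 34816, 136, [(11, 7, -1), (15, 3, 1)]⟩,
  ⟨96, 143, 124285971379750508569997321180505400465779683328905006826141057053492352, 36864, 144, [(12, 7, -1), (15, 4, 1)]⟩,
  ⟨97, 142, 69071779902127245216376224803914087335331771178471329398490440998650496, 40960, 160, [(13, 7, -1), (15, 5, 1)]⟩,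
  ⟨98, 141, 41464424276439592458547658965803395059416318297721932833050605257785728, 49152, 192, [(14, 7, -1), (15, 6, 1)]⟩,
  ⟨99, 140, 890377513656473699464720147405461370411247385679102597133235178583367744, 640, 32770, [(7, 1, 1), (9, 15, -1)]⟩,
  ⟨100, 139, 448664904961682225229240489366423727108504980755915585593369000853639232, 1152, 32772, [(7, 2, 1), (10, 15, -1)]⟩,
  ⟨101, 138, 227807336864070049649270603103794764198789669980902463025165219598960704, 2176, 32776, [(7, 3, 1), (11, 15, -1)]⟩,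
  ⟨102, 137, 117376025315200845458926991635863531397189815280803969882899461563221056, 4224, 32784, [(7, 4, 1), (12, 15, -1)]⟩,
  ⟨103, 136, 62155314544364649025381941146838018354933790864921805625852542828151360, 8320, 32800, [(7, 5, 1), (13, 15, -1)]⟩,
  ⟨104, 135, 34534849182311705006499453397468224277693579735501279025848438986113344, 16512, 32832, [(7, 6, 1), (14, 15, -1)]⟩,
  ⟨105, 134, 886902155375244901399030237086171124474488440683226259684255373106094112, 576, 16386, [(6, 1, 1), (9, 14, -1)]⟩,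
  ⟨106, 133, 445190362850717875823026897916646346182404913020224651224224351627251744, 1088, 16388, [(6, 2, 1), (10, 14, -1)]⟩,
  ⟨107, 132, 224334427093633274778905451798751940213821086720725751956888488765556768, 2112, 16392, [(6, 3, 1), (11, 14, -1)]⟩,
  ⟨108, 131, 113906380225812875200555263282549120119234257421408610801450376086291488, 4160, 16400, [(6, 4, 1), (12, 14, -1)]⟩,
  ⟨109, 130, 58692198817062529918959764646736859146385943975928997079499077067014688, 8256, 16416, [(6, 5, 1), (13, 14, -1)]⟩,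
  ⟨110, 129, 885162893257971410919095575170483787659880491705386196939797959543889936, 544, 8194, [(5, 1, 1), (9, 13, -1)]⟩,
  ⟨111, 128, 443451125416259906131808400886877750313676854750342110357011402123120656, 1056, 8196, [(5, 2, 1), (10, 13, -1)]⟩,
  ⟨112, 127, 222595239024732198266178006364840563408665898589753183903628770565949456, 2080, 8200, [(5, 3, 1), (11, 13, -1)]⟩,
  ⟨113, 126, 112167290887630127568134548647501800424750091225309109048667499747476496, 4128, 8208, [(5, 4, 1), (12, 13, -1)]⟩,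
  ⟨114, 125, 884293215706035740545714214040135595988229155406044719888244203756462088, 528, 4098, [(4, 1, 1), (9, 12, -1)]⟩,
  ⟨115, 124, 442581449305547481431678210032002675319819417090210522412564065276137480, 1040, 4100, [(4, 2, 1), (10, 12, -1)]⟩,
  ⟨116, 123, 221725565796465234069846255712747924106425723980265203856804215796271112, 2064, 4104, [(4, 3, 1), (11, 12, -1)]⟩,
  ⟨117, 122, 883858374356452168655164428466596860511391031655962421881426431989260292, 520, 2050, [(3, 1, 1), (9, 11, -1)]⟩,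
  ⟨118, 121, 442146608110382968443535400616058047482654575182597198612692906906488836, 1032, 2052, [(3, 2, 1), (10, 11, -1)]⟩,
  ⟨119, 120, 883640953424295284539211242083837248933650954387238894050626747268866050, 516, 1026, [(2, 1, 1), (9, 10, -1)]⟩,
  ⟨120, 119, 441820476712147642269605621041918624466825477193619447025313373634433025, 1026, 516, [(1, 2, 1), (10, 9, -1)]⟩,
  ⟨121, 118, 221073304055191484221767700308029022245945792333268242289563510637856770, 2052, 1032, [(2, 3, 1), (11, 10, -1)]⟩,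
  ⟨122, 117, 220964593589113042163791107116649215127847757913990605470356607997315073, 2050, 520, [(1, 3, 1), (11, 9, -1)]⟩,
  ⟨123, 116, 110862782743813558132516151698779793082129087134279679519232853752808452, 4104, 2064, [(3, 4, 1), (12, 11, -1)]⟩,
  ⟨124, 115, 110645362197704321272580405710005535757240694442901695105939501735871490, 4100, 1040, [(2, 4, 1), (12, 10, -1)]⟩,
  ⟨125, 114, 110536651886044938117010788676219873206431199765787126602569105906205697, 4098, 528, [(1, 4, 1), (12, 9, -1)]⟩,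
  ⟨126, 113, 56083641120146357607017663845493869677826934579298750036654937079874056, 8208, 4128, [(4, 5, 1), (13, 12, -1)]⟩,
  ⟨127, 112, 55648806204596752367731017548864650687519726198519205150472472446960132, 8200, 2080, [(3, 5, 1), (13, 11, -1)]⟩,
  ⟨128, 111, 55431388540932976011593711762873147991083132059571911120538924851724802, 8196, 1056, [(2, 5, 1), (13, 10, -1)]⟩,
  ⟨129, 110, 55322679670496838529275265004561240108563286342275018337685160058749441, 8194, 544, [(1, 5, 1), (13, 9, -1)]⟩,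
  ⟨130, 109, 29345926629786547345129125819778798815946202883912737235570203576795408, 16416, 8256, [(5, 6, 1), (14, 13, -1)]⟩,
  ⟨131, 108, 28476458271053122665607739653585681181041491263314131222752975548088584, 16400, 4160, [(4, 6, 1), (14, 12, -1)]⟩,
  ⟨132, 107, 28041722086221846306627824155825793668032504200180106413184708545380612, 16392, 2112, [(3, 6, 1), (14, 11, -1)]⟩,
  ⟨133, 106, 27824353788114963128981569965702058783513291710804535544895858750292226, 16388, 1088, [(2, 6, 1), (14, 10, -1)]⟩,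
  ⟨134, 105, 27715669600494346435379288093329989351107416095347086732377868485034241, 16386, 576, [(1, 6, 1), (14, 9, -1)]⟩,
  ⟨135, 104, 17255182037236865282773055728021626312484504607255217698860121269928096, 32832, 16512, [(6, 7, 1), (15, 14, -1)]⟩,
  ⟨136, 103, 15529375212013826727824904650517750087599724007835759935135001471778960, 32800, 8320, [(5, 7, 1), (15, 13, -1)]⟩,
  ⟨137, 102, 14666436215366253200253070337709386834391980440710217641204665921929352, 32784, 4224, [(4, 7, 1), (15, 12, -1)]⟩,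
  ⟨138, 101, 14234964711583781453266577792020916653932876798271112613578097425088644, 32776, 2176, [(3, 7, 1), (15, 11, -1)]⟩,
  ⟨139, 100, 14019228754004472811468763747317747962098036751123171350151026133401730, 32772, 1152, [(2, 7, 1), (15, 10, -1)]⟩,
  ⟨140, 99, 13911360736648304777342800745830562043696400292721073582338789245681793, 32770, 640, [(1, 7, 1), (15, 9, -1)]⟩,
  ⟨141, 98, 10379579492538896622874003308977411853928179873078369229891627586175072, 192, 49152, [(6, 15, 1), (7, 14, -1)]⟩,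
  ⟨142, 97, 8640662930950566806871930325702507841399571066771492487188224325730384, 160, 40960, [(5, 15, 1), (7, 13, -1)]⟩,
  ⟨143, 96, 7771204641090060199376141911436092703775523563195277394643914986635336, 144, 36864, [(4, 15, 1), (7, 12, -1)]⟩,
  ⟨144, 95, 7336475494195466371275602253343947105750383428457447376631816475656260, 136, 34816, [(3, 15, 1), (7, 11, -1)]⟩,
  ⟨145, 94, 7119110920544126870862132439287417186076019888805877712405681003315266, 132, 33792, [(2, 15, 1), (7, 10, -1)]⟩,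
  ⟨146, 93, 7010428633680132472029119225982888614194740586245079176643356915679297, 130, 33280, [(1, 15, 1), (7, 9, -1)]⟩,
  ⟨147, 92, 5176731033363691870719848132207721255498677474399440382406424411390000, 96, 24576, [(5, 14, 1), (6, 13, -1)]⟩,
  ⟨148, 91, 4313802105589036415173611398581036368381458767112477143597387855249448, 80, 20480, [(4, 14, 1), (6, 12, -1)]⟩,
  ⟨149, 90, 3882337639743247199066494347070259839088753143314091657023183879094308, 72, 18432, [(3, 14, 1), (6, 11, -1)]⟩,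
  ⟨150, 89, 3666605406619482234501463987454199583745279028685275336550936678449186, 68, 17408, [(2, 14, 1), (6, 10, -1)]⟩,
  ⟨151, 88, 3558739290019936495144768263074361468801980249923112443228444360130593, 66, 16896, [(1, 14, 1), (6, 9, -1)]⟩,
  ⟨152, 87, 2588168056960415676644096623509789025824834240824988506124807359479832, 48, 12288, [(4, 13, 1), (5, 12, -1)]⟩,
  ⟨153, 86, 2156802321832955340843705018692133529914542502602061119050367584878612, 40, 10240, [(3, 13, 1), (5, 11, -1)]⟩,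
  ⟨154, 85, 1941119454266083554769715550591420176021671278289120548066853622562834, 36, 9216, [(2, 13, 1), (5, 10, -1)]⟩,
  ⟨155, 84, 1833278020482058604129163303446578678941203135296845071804657856069649, 34, 8704, [(1, 13, 1), (5, 9, -1)]⟩,
  ⟨156, 83, 1294078263591839402107753023501979937312583212505635167348479336497164, 24, 6144, [(3, 12, 1), (4, 11, -1)]⟩,
  ⟨157, 82, 1078398278470428119832123832313389302304344681997697059151682735554570, 20, 5120, [(2, 12, 1), (4, 10, -1)]⟩,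
  ⟨158, 81, 970558285909648842442582008901038479139174958345942270798968786894857, 18, 4608, [(1, 12, 1), (4, 9, -1)]⟩,
  ⟨159, 80, 647038822957875532887352992688054980318922648234430508386078575280134, 12, 3072, [(2, 11, 1), (3, 10, -1)]⟩,
  ⟨160, 79, 539198984816155157904239263755868681192843385241050691332204755927045, 10, 2560, [(1, 11, 1), (3, 9, -1)]⟩,
  ⟨161, 78, 323519385742391131644680308767656551350778783338092955706700465684483, 6, 1536, [(1, 10, 1), (2, 9, -1)]⟩,
  ⟨226, 13, 4798497362162623803400450693815925310345484181502, 513, 258, [(0, 1, 1), (9, 8, -1)]⟩,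
  ⟨227, 12, 3860750318412214819903910327079475514637619310589, 1025, 260, [(0, 2, -1), (10, 8, 1)]⟩,
  ⟨228, 11, 2295750568537670065006564714125002361082009106427, 2049, 264, [(0, 3, 1), (11, 8, -1)]⟩,
  ⟨229, 10, 645484096430916396450455472247633286248395848695, 4097, 272, [(0, 4, -1), (12, 8, 1)]⟩,
  ⟨230, 9, 85818931183680341061635097126412485161314762223, 8193, 288, [(0, 5, 1), (13, 8, -1)]⟩,
  ⟨231, 8, 5533415958529634256512524198039836003619880671, 16385, 320, [(0, 6, -1), (14, 8, 1)]⟩,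
  ⟨232, 7, 175618368438468588233649725239520912155328319, 32769, 384, [(0, 7, 1), (15, 8, -1)]⟩,
  ⟨233, 6, 2744037006851071691301929504624066164719423, 129, 33024, [(0, 15, 1), (7, 8, -1)]⟩,
  ⟨234, 5, 42195013518805285836316972771339409522399, 65, 16640, [(0, 14, 1), (6, 8, -1)]⟩,
  ⟨235, 4, 1276059535295529623078087660725749087727, 33, 8448, [(0, 13, 1), (5, 8, -1)]⟩,
  ⟨236, 3, 74447482028704147457465508290719775735, 17, 4352, [(0, 12, 1), (4, 8, -1)]⟩,
  ⟨237, 2, 8063801856823504082175814379817924603, 9, 2304, [(0, 11, 1), (3, 8, -1)]⟩,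
  ⟨238, 1, 1705751935788753726560310585300873213, 5, 1280, [(0, 10, 1), (2, 8, -1)]⟩,
  ⟨239, 0, 852875967894527979043671756168486910, 3, 768, [(0, 9, 1), (1, 8, -1)]⟩]

theorem T8_1 : rws8.all (fun p => Tb.Rw.ok T8 chevE8 p) = true := Fk.allOk_of _ _ ChevFast.E8.cartan (by decide +kernel)

theorem T8_2 : rws8.all (fun p => rws8.all fun q => Tb.pairOk p q) = true := Fk.allPr_of (by decide +kernel)

theorem T8_3 : Tb.okRest T8 240 rws8 = true := by (delta Cfsg.Agent.H736.Co3.Tb.okRest Cfsg.Agent.H736.Co3.Tb.E; rewrite [H90F.ld_fun]; decide +kernel)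

theorem T8_ok : T8.Ok chevE8 :=
  Tb.ok_of T8 chevE8 T8_1 T8_2 T8_3 fun r _ =>
    (Cfsg.Agent.ChevalleyStructure.RootVec.row_pairwise Cfsg.Agent.ChevalleyStructure.RootVecTab.checked_E8 r).imp ne_of_lt

end Cfsg.Agent.H736.Co3
end

-- part: H13/Co3/Def
section
set_option linter.all false
open scoped Cfsg.Agent.FastGrp

/-!
# S1920, case B: the configuration (helper13)

`P` is the 2-group with `H = N_G(P)`; `N0 = 4 ∘ 2^{1+4}` (order 64) covers `N`; `ψ : H → S₆` has kernel `N0 · O(H)`.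
-/

set_option autoImplicit false

open Subgroup

namespace Cfsg.Agent.H13.Co3

variable {G : Type*} [Group G]

/-- **The configuration of case B.** -/
structure CB (P N0 : Subgroup G) (z s : G) (ψ : ↥(normalizer (P : Set G)) →* Equiv.Perm (Fin 6)) : Prop where
  P_two : IsPGroup 2 P
  zP : z ∈ P
  PN : P ≤ N0
  NH : N0 ≤ normalizer (P : Set G)
  N_two : IsPGroup 2 N0
  card : Nat.card N0 = 64
  sN : s ∈ N0
  s_sq : s * s = z
  z_sq : z * z = 1
  z_ne : z ≠ 1
  s_cen : ∀ n ∈ N0, n * s = s * n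
  sq : ∀ n ∈ N0, n * n = 1 ∨ n * n = z
  comm : ∀ n ∈ N0, ∀ m ∈ N0, n * m = m * n ∨ n * m = z * (m * n)
  cen : ∀ n ∈ N0, (∀ m ∈ N0, n * m = m * n) → n ∈ zpowers s
  z_cen : ∀ h ∈ normalizer (P : Set G), h * z = z * h
  surj : Function.Surjective ψ
  psi_N : ∀ n (hn : n ∈ N0), ψ ⟨n, NH hn⟩ = 1
  ker_card : ∃ m, Odd m ∧ Nat.card ψ.ker = 64 * m
  ker_solv : Group.IsSolvable ψ.ker
  /-- the odd part of the kernel commutes with `P` -/
  ker_eq : ∀ h : ↥(normalizer (P : Set G)), ψ h = 1 → ∃ n ∈ N0, ∃ o : G, (h : G) = n * o ∧ Odd (orderOf o)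
  /-- `A₆` is induced by `C_G(N0)` -/
  even : ∀ π : Equiv.Perm (Fin 6), Equiv.Perm.sign π = 1 →
    ∃ h : ↥(normalizer (P : Set G)), (∀ n ∈ N0, (h : G) * n = n * h) ∧ ψ h = π
  /-- everything is induced by `N_H(N0)` -/
  frat : ∀ π : Equiv.Perm (Fin 6), ∃ h : ↥(normalizer (P : Set G)), (h : G) ∈ normalizer (N0 : Set G) ∧ ψ h = π
  /-- an element normalising `N0` inverts `s` exactly when it induces an odd permutation -/
  inv_s : ∀ h : ↥(normalizer (P : Set G)), (h : G) ∈ normalizer (N0 : Set G) →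
    (Equiv.Perm.sign (ψ h) = 1 ↔ (h : G) * s = s * h)

namespace CB

variable {P N0 : Subgroup G} {z s : G} {ψ : ↥(normalizer (P : Set G)) →* Equiv.Perm (Fin 6)}

/-- **KEY (*)**: every `g` with `[g, N0] ≤ ⟨z⟩` lies in `H = N_G(P)`. -/
theorem key (C : CB P N0 z s ψ) {g : G} (hg : ∀ n ∈ N0, g * n = n * g ∨ g * n = z * (n * g)) :
    g ∈ normalizer (P : Set G) := by
  have hz : g * z = z * g := by
    rcases hg z (C.PN C.zP) with h | h
    · exact h
    · exfalso
      have h1 : g * z = g := by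
        rw [h, ← mul_assoc, C.z_sq, one_mul]
      exact C.z_ne (by simpa using h1)
  have hP : ∀ p ∈ P, g * p * g⁻¹ ∈ P := by
    intro p hp
    rcases hg p (C.PN hp) with h | h
    · rw [h, mul_inv_cancel_right]; exact hp
    · rw [h]
      have : z * (p * g) * g⁻¹ = z * p := by group
      rw [this]
      exact mul_mem C.zP hp
  rw [mem_normalizer_iff]
  intro p
  refine ⟨hP p, fun h => ?_⟩
  -- `g⁻¹` has the same property
  have hg' : ∀ q ∈ P, g⁻¹ * q * g ∈ P := by
    intro q hq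
    rcases hg q (C.PN hq) with h | h
    · have : g⁻¹ * q * g = q := by
        rw [mul_assoc, ← h]; group
      rw [this]; exact hq
    · have h2 : q * g = z * (g * q) := by
        rw [h, ← mul_assoc, C.z_sq, one_mul]
      have : g⁻¹ * q * g = z * q := by
        rw [mul_assoc, h2, ← mul_assoc z g q, ← hz]; group
      rw [this]
      exact mul_mem C.zP hq
  have := hg' _ h
  have e : g⁻¹ * (g * p * g⁻¹) * g = p := by group
  rwa [e] at this

end CB

end Cfsg.Agent.H13.Co3
end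

-- part: H738/C3/Setup
section
prune_inst 0x4053000000140020000000592110020440400019000230001f9400440050657220002270044201f040208a20420300000011000c00200000000000400411c01a080aa4200b348010426009f80b086000000000000000000000000000000041004000000000
set_option linter.all false
open scoped Cfsg.Agent.FastGrp

-- part: H738/C3/Sym
section
/-!
# 2-groups of symplectic type with centre of order 4 (S1920, helper738)

`sym` : `[Q, Q] ≤ <z>` and `x ^ 2 ∈ <z>` (`z` the involution of `Z(Q)`).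
-/

set_option autoImplicit false

open Subgroup

namespace Cfsg.Agent.H738.C3.Sym

open Cfsg.Agent.ClassificationK.SymplStructure

variable {Q : Type*} [Group Q] [Finite Q] {K R : Subgroup Q} {z : Q}

theorem pow4 {Q : Type*} [Group Q] (x : Q) : x ^ 4 = x * x * (x * x) := by
  simp only [pow_succ, pow_zero, one_mul, mul_assoc]

/-- the subgroup `{k ∈ K | k ^ 4 = 1}` -/
theorem four_mul (h : KR K R z) (hzz : z * z = 1) (hzc : ∀ x : Q, z * x = x * z) {x y : Q} (hx : x ∈ K) (hy : y ∈ K)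
    (hx4 : x * x * (x * x) = 1) (hy4 : y * y * (y * y) = 1) : x * y * (x * y) * (x * y * (x * y)) = 1 := by
  have e1 : x * y * (x * y) = x * x * (y * y) ∨ x * y * (x * y) = x * x * (y * y) * z := by
    rcases h.comm y hy x hx with h1 | h1
    · left
      calc x * y * (x * y) = x * (y * x) * y := by group
        _ = x * (x * y) * y := by rw [h1]
        _ = x * x * (y * y) := by group
    · right
      calc x * y * (x * y) = x * (y * x) * y := by group
        _ = x * (x * y * z) * y := by rw [h1]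
        _ = x * x * y * (z * y) := by group
        _ = x * x * y * (y * z) := by rw [hzc]
        _ = x * x * (y * y) * z := by group
  have hxx := h.sq x hx
  have hyy := h.sq y hy
  have hc : (x * x) * (y * y) = (y * y) * (x * x) := by
    have h1 := ((h.mem_K (y * y)).1 (h.le hyy)) (x * x) hxx
    exact h1
  have e2 : x * x * (y * y) * (x * x * (y * y)) = 1 := by
    calc x * x * (y * y) * (x * x * (y * y)) = x * x * ((y * y) * (x * x)) * (y * y) := by group
      _ = x * x * ((x * x) * (y * y)) * (y * y) := by rw [hc]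
      _ = (x * x * (x * x)) * (y * y * (y * y)) := by group
      _ = 1 := by rw [hx4, hy4, mul_one]
  rcases e1 with e1 | e1
  · rw [e1]; exact e2
  · rw [e1]
    calc x * x * (y * y) * z * (x * x * (y * y) * z) = x * x * (y * y) * (z * (x * x * (y * y))) * z := by group
      _ = x * x * (y * y) * ((x * x * (y * y)) * z) * z := by rw [hzc]
      _ = x * x * (y * y) * (x * x * (y * y)) * (z * z) := by group
      _ = 1 := by rw [e2, hzz, mul_one]

/-- in a cyclic group the elements with `x ^ 4 = 1` are in the subgroup of order 4 -/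
theorem mem_of_four {R Z : Subgroup Q} (hc : IsCyclic R) (hZ : Z ≤ R) (h4 : Nat.card Z = 4) {x : Q} (hx : x ∈ R)
    (hx4 : x ^ 4 = 1) : x ∈ Z := by
  classical
  have := Fintype.ofFinite R
  have h1 : (Finset.univ.filter (fun a : R => a ^ 4 = 1)).card ≤ 4 := IsCyclic.card_pow_eq_one_le (by norm_num)
  let f : Z → R := fun a => ⟨a, hZ a.2⟩
  have hf : Function.Injective f := fun a b hab => Subtype.ext (congrArg (fun r : R => (r : Q)) hab)
  have := Fintype.ofFinite Z
  have h2 : (Finset.univ.image f) ⊆ Finset.univ.filter (fun a : R => a ^ 4 = 1) := by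
    intro r hr
    rw [Finset.mem_image] at hr
    obtain ⟨a, -, rfl⟩ := hr
    rw [Finset.mem_filter]
    refine ⟨Finset.mem_univ _, ?_⟩
    have h3 : a ^ 4 = 1 := by rw [← h4]; exact pow_card_eq_one'
    have h4 : (a : Q) ^ 4 = 1 := congrArg Subtype.val h3
    exact Subtype.ext h4
  have h3 : (Finset.univ.image f).card = 4 := by
    rw [Finset.card_image_of_injective _ hf, Finset.card_univ, ← Nat.card_eq_fintype_card, h4]
  have h4' := Finset.eq_of_subset_of_card_le h2 (by rw [h3]; exact h1)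
  have h5 : (⟨x, hx⟩ : R) ∈ Finset.univ.filter (fun a : R => a ^ 4 = 1) := by
    rw [Finset.mem_filter]
    exact ⟨Finset.mem_univ _, Subtype.ext hx4⟩
  rw [← h4', Finset.mem_image] at h5
  obtain ⟨a, -, ha⟩ := h5
  have h6 : (a : Q) = x := congrArg (fun r : R => (r : Q)) ha
  rw [← h6]
  exact a.2

theorem top_of (hQ : Cfsg.IsOfSymplecticType Q) (hZ : Nat.card (center Q) = 4) (hz : orderOf z = 2)
    (hzc : z ∈ center Q) (h : KR K R z) : ∀ y : Q, y ∈ K := by
  classical
  have : Fact (Nat.Prime 2) := ⟨Nat.prime_two⟩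
  by_contra hcon
  push Not at hcon
  have hzz : z * z = 1 := h.zz hz
  have hz1 : z ≠ 1 := by
    rintro rfl
    rw [orderOf_one] at hz
    omega
  have hzcc : ∀ x : Q, z * x = x * z := fun x => (mem_center_iff.1 hzc x).symm
  have hZR : center Q ≤ R := fun x hx => h.cent x fun y _ => mem_center_iff.1 hx y
  have hR4 : 4 ≤ Nat.card R := by
    rw [← hZ]
    exact Nat.card_le_card_of_injective (fun a : center Q => (⟨a, hZR a.2⟩ : R))
      (fun a b hab => Subtype.ext (congrArg (fun r : R => (r : Q)) hab))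
  -- `Ω₂(R) = Z(Q)`
  have hfour : ∀ x ∈ R, x * x * (x * x) = 1 → ∀ q : Q, x * q = q * x := by
    intro x hx h4 q
    have h5 : x ^ 4 = 1 := by rw [pow4, h4]
    exact (mem_center_iff.1 (mem_of_four h.cyc hZR hZ hx h5) q).symm
  have hRn : R.Normal := by
    have := h.charR
    infer_instance
  -- `y ∉ K`, `y² ∈ K`
  have hKn : K.Normal := by
    have := h.charK
    infer_instance
  obtain ⟨y, hyK, hyy⟩ : ∃ y : Q, y ∉ K ∧ y * y ∈ K := by
    obtain ⟨x, hx⟩ := hcon
    obtain ⟨k, hk⟩ := hQ.1 x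
    -- the last power outside `K`
    have hP : ∃ n, x ^ 2 ^ n ∈ K := ⟨k, by rw [hk]; exact one_mem _⟩
    have h0 : Nat.find hP ≠ 0 := by
      intro h0
      have := Nat.find_spec hP
      rw [h0, pow_zero, pow_one] at this
      exact hx this
    refine ⟨x ^ 2 ^ (Nat.find hP - 1), Nat.find_min hP (by omega), ?_⟩
    have h1 := Nat.find_spec hP
    rw [← pow_add, ← two_mul, ← pow_succ']
    rwa [Nat.sub_add_cancel (Nat.one_le_iff_ne_zero.2 h0)]
  obtain ⟨c, hc, hgen⟩ := h.exists_gen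
  -- `y c y⁻¹ = c z`
  have hyc : y * c * y⁻¹ = c * z := by
    have h1 : y * c * y⁻¹ ∈ R := hRn.conj_mem c hc y
    have h2 : y * (y * c * y⁻¹) * y⁻¹ = c := by
      have h3 := (h.mem_K (y * y)).1 hyy c hc
      calc y * (y * c * y⁻¹) * y⁻¹ = (y * y) * c * (y * y)⁻¹ := by group
        _ = c * (y * y) * (y * y)⁻¹ := by rw [h3]
        _ = c := by group
    set t := y * c * y⁻¹ * c⁻¹ with ht
    have htR : t ∈ R := mul_mem h1 (inv_mem hc)
    have h3 : y * t * y⁻¹ = t⁻¹ := by
      calc y * t * y⁻¹ = (y * (y * c * y⁻¹) * y⁻¹) * (y * c * y⁻¹)⁻¹ := by rw [ht]; group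
        _ = c * (y * c * y⁻¹)⁻¹ := by rw [h2]
        _ = t⁻¹ := by rw [ht]; group
    -- `t² = 1`
    have h4 : t * t = 1 := by
      by_contra h5
      -- a power of `t` of order 4
      have hP : ∃ n, t ^ 2 ^ n * t ^ 2 ^ n * (t ^ 2 ^ n * t ^ 2 ^ n) = 1 := by
        obtain ⟨k, hk⟩ := hQ.1 t
        exact ⟨k, by rw [hk]; simp⟩
      set n := Nat.find hP with hn
      have h6 := Nat.find_spec hP
      set u := t ^ 2 ^ n with hu
      have huR : u ∈ R := pow_mem htR _
      have h7 : u * u ≠ 1 := by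
        intro h8
        rcases Nat.eq_zero_or_pos n with h9 | h9
        · rw [hu, h9, pow_zero, pow_one] at h8
          exact h5 h8
        · have h10 := Nat.find_min hP (m := n - 1) (by omega)
          apply h10
          have h11 : t ^ 2 ^ (n - 1) * t ^ 2 ^ (n - 1) = u := by
            rw [hu, ← pow_add, ← two_mul, ← pow_succ', Nat.sub_add_cancel h9]
          rw [h11]
          exact h8
      have h8 : y * u * y⁻¹ = u⁻¹ := by
        rw [hu, ← conj_pow, h3, inv_pow]
      have h9 := hfour u huR h6 y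
      rw [← h9, mul_inv_cancel_right] at h8
      apply h7
      exact mul_eq_one_iff_eq_inv.2 h8
    rcases h.uniq t htR h4 with h5 | h5
    · exfalso
      apply hyK
      rw [h.mem_K]
      intro r hr
      obtain ⟨i, rfl⟩ := hgen r hr
      have h6 : y * c = c * y := by
        rw [ht, mul_inv_eq_one, mul_inv_eq_iff_eq_mul] at h5
        exact h5
      exact ((show Commute y c from h6).zpow_right i).symm
    · rw [ht, mul_inv_eq_iff_eq_mul] at h5
      rw [h5, hzcc]
  -- the action of `y` on `R`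
  have hyR : ∀ {v : Q}, v * c * v⁻¹ = c * z → ∀ r ∈ R, v * r * v⁻¹ = r ∨ v * r * v⁻¹ = r * z := by
    intro v hv r hr
    obtain ⟨i, rfl⟩ := hgen r hr
    have h1 : v * c ^ i * v⁻¹ = c ^ i * z ^ i := by
      rw [← conj_zpow, hv, (show Commute c z from (hzcc c).symm).mul_zpow]
    rw [h1]
    rcases Int.even_or_odd i with ⟨j, rfl⟩ | ⟨j, rfl⟩
    · left
      have : z ^ (j + j) = 1 := by
        rw [← two_mul, zpow_mul]
        have : z ^ (2 : ℤ) = 1 := by rw [zpow_ofNat, pow_two, hzz]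
        rw [this, one_zpow]
      rw [this, mul_one]
    · right
      have : z ^ (2 * j + 1) = z := by
        rw [zpow_add_one, zpow_mul]
        have : z ^ (2 : ℤ) = 1 := by rw [zpow_ofNat, pow_two, hzz]
        rw [this, one_zpow, one_mul]
      rw [this]
  -- the action of `y` on `K`
  have hyKact : ∀ x ∈ K, y * x * y⁻¹ = x ∨ y * x * y⁻¹ = x * z := by
    intro x hx
    obtain ⟨r, hr, hxr⟩ := h.sqR hQ hz hzc hR4 hx
    have hxrc : r * x = x * r := (h.mem_K x).1 hx r hr
    set e := x * r⁻¹ with he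
    have hee : e * e = 1 := by
      have h1 : x * r⁻¹ = r⁻¹ * x := by
        rw [eq_inv_mul_iff_mul_eq, ← mul_assoc, hxrc, mul_inv_cancel_right]
      calc e * e = x * (r⁻¹ * x) * r⁻¹ := by rw [he]; group
        _ = x * (x * r⁻¹) * r⁻¹ := by rw [h1]
        _ = (x * x) * (r * r)⁻¹ := by group
        _ = 1 := by rw [hxr, mul_inv_cancel]
    have heK : e ∈ K := mul_mem hx (inv_mem (h.le hr))
    have h2 : y * e * y⁻¹ * e⁻¹ ∈ R := h.comm' y e heK
    set ρ := y * e * y⁻¹ * e⁻¹ with hρ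
    have h3 : y * e * y⁻¹ = ρ * e := by rw [hρ]; group
    have h4 : ρ * e = e * ρ := (h.mem_K e).1 heK ρ h2
    have h5 : ρ * ρ = 1 := by
      have h6 : (y * e * y⁻¹) * (y * e * y⁻¹) = 1 := by
        calc (y * e * y⁻¹) * (y * e * y⁻¹) = y * (e * e) * y⁻¹ := by group
          _ = 1 := by rw [hee]; group
      rw [h3] at h6
      calc ρ * ρ = (ρ * ρ) * (e * e) := by rw [hee, mul_one]
        _ = ρ * (ρ * e) * e := by group
        _ = ρ * (e * ρ) * e := by rw [h4]
        _ = (ρ * e) * (ρ * e) := by group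
        _ = 1 := h6
    have hye : y * e * y⁻¹ = e ∨ y * e * y⁻¹ = e * z := by
      rcases h.uniq ρ h2 h5 with h6 | h6
      · left; rw [h3, h6, one_mul]
      · right; rw [h3, h6, hzcc]
    have hxe : x = e * r := by rw [he]; group
    have h7 : y * x * y⁻¹ = (y * e * y⁻¹) * (y * r * y⁻¹) := by rw [hxe]; group
    rw [h7]
    rcases hye with h8 | h8 <;> rcases hyR hyc r hr with h9 | h9
    · left; rw [h8, h9, hxe]
    · right; rw [h8, h9, hxe]; group
    · right
      rw [h8, h9]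
      calc e * z * r = e * (z * r) := by group
        _ = e * (r * z) := by rw [hzcc]
        _ = (e * r) * z := by group
        _ = x * z := by rw [← hxe]
    · left
      rw [h8, h9, hxe]
      calc e * z * (r * z) = e * (z * r) * z := by group
        _ = e * (r * z) * z := by rw [hzcc]
        _ = e * r * (z * z) := by group
        _ = e * r := by rw [hzz, mul_one]
  -- the subgroup `K₁`
  let K1 : Subgroup Q :=
    { carrier := {x | x ∈ K ∧ x * x * (x * x) = 1}
      mul_mem' := fun {a b} ha hb => ⟨mul_mem ha.1 hb.1, four_mul h hzz hzcc ha.1 hb.1 ha.2 hb.2⟩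
      one_mem' := ⟨one_mem _, by simp⟩
      inv_mem' := fun {a} ha => ⟨inv_mem ha.1, by
        have : a⁻¹ * a⁻¹ * (a⁻¹ * a⁻¹) = (a * a * (a * a))⁻¹ := by group
        rw [this, ha.2, inv_one]⟩ }
  have hK1K : ∀ x ∈ K, ∃ e ∈ K1, ∃ r ∈ R, x = e * r := by
    intro x hx
    obtain ⟨r, hr, hxr⟩ := h.sqR hQ hz hzc hR4 hx
    have hxrc : r * x = x * r := (h.mem_K x).1 hx r hr
    have h1 : x * r⁻¹ = r⁻¹ * x := by
      rw [eq_inv_mul_iff_mul_eq, ← mul_assoc, hxrc, mul_inv_cancel_right]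
    have hee : x * r⁻¹ * (x * r⁻¹) = 1 := by
      calc x * r⁻¹ * (x * r⁻¹) = x * (r⁻¹ * x) * r⁻¹ := by group
        _ = x * (x * r⁻¹) * r⁻¹ := by rw [h1]
        _ = (x * x) * (r * r)⁻¹ := by group
        _ = 1 := by rw [hxr, mul_inv_cancel]
    exact ⟨x * r⁻¹, ⟨mul_mem hx (inv_mem (h.le hr)), by rw [hee, mul_one]⟩, r, hr, by group⟩
  -- an element commuting with `K₁` and `R` is in `R`
  have hcent : ∀ v : Q, (∀ x ∈ K1, v * x = x * v) → (v * c = c * v) → v ∈ R := by
    intro v h1 h2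
    apply h.cent
    intro x hx
    obtain ⟨e, he, r, hr, rfl⟩ := hK1K x hx
    obtain ⟨i, rfl⟩ := hgen r hr
    have h3 : v * c ^ i = c ^ i * v := (show Commute v c from h2).zpow_right i
    rw [mul_assoc, ← h3, ← mul_assoc, ← h1 e he, mul_assoc]
  -- the element `k`
  have hzK1 : z ∈ K1 := ⟨h.le h.zR, by rw [hzz, mul_one]⟩
  obtain ⟨k, hk⟩ := Cfsg.Agent.ClassificationK.SymplDual.exists_comm_iff (K := K1) (ζ := ⟨z, hzK1⟩)
    (fun h1 => hz1 (congrArg Subtype.val h1)) (Subtype.ext hzz) (fun x => Subtype.ext (hzcc x).symm)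
    (by
      intro x x'
      rcases h.comm x x.2.1 x' x'.2.1 with h1 | h1
      · exact Or.inl (Subtype.ext h1)
      · exact Or.inr (Subtype.ext h1))
    (fun x => if y * (x : Q) = x * y then 0 else 1)
    (by
      intro x x'
      have key : ∀ w : Q, w ≠ w * z := fun w hw => hz1 (mul_eq_left.1 hw.symm)
      have conj_iff : ∀ w : Q, y * w = w * y ↔ y * w * y⁻¹ = w := fun w => by rw [mul_inv_eq_iff_eq_mul]
      have e0 : y * ((x : Q) * x') * y⁻¹ = (y * x * y⁻¹) * (y * x' * y⁻¹) := by group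
      have z11 : (1 : ZMod 2) + 1 = 0 := Cfsg.Agent.ClassificationK.SymplDual.z11
      simp only [coe_mul, conj_iff]
      rcases hyKact x x.2.1 with h1 | h1 <;> rcases hyKact x' x'.2.1 with h2 | h2
      · rw [if_pos (by rw [e0, h1, h2]), if_pos h1, if_pos h2, add_zero]
      · rw [if_neg (by rw [e0, h1, h2, ← mul_assoc]; exact (key _).symm), if_pos h1,
          if_neg (by rw [h2]; exact (key _).symm), zero_add]
      · rw [if_neg (by
            rw [e0, h1, h2]
            have : (x : Q) * z * x' = x * x' * z := by rw [mul_assoc, hzcc, ← mul_assoc]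
            rw [this]
            exact (key _).symm), if_neg (by rw [h1]; exact (key _).symm), if_pos h2, add_zero]
      · rw [if_pos (by
            rw [e0, h1, h2]
            calc (x : Q) * z * (x' * z) = x * (z * x') * z := by group
              _ = x * (x' * z) * z := by rw [hzcc]
              _ = x * x' * (z * z) := by group
              _ = x * x' := by rw [hzz, mul_one]), if_neg (by rw [h1]; exact (key _).symm),
          if_neg (by rw [h2]; exact (key _).symm), z11])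
    (by
      intro x hx
      rw [if_pos]
      -- `x` is central in `K₁`, so in `R`
      have hxR : (x : Q) ∈ R := by
        apply hcent x
        · intro e he
          exact (congrArg Subtype.val (mem_center_iff.1 hx ⟨e, he⟩)).symm
        · exact ((h.mem_K x).1 x.2.1 c hc).symm
      exact (hfour x hxR x.2.2 y).symm)
  have hk' : ∀ x ∈ K1, (y * x = x * y ↔ (k : Q) * x = x * k) := by
    intro x hx
    have h1 := hk ⟨x, hx⟩
    have h2 : (⟨x, hx⟩ : K1) = ⟨x, hx⟩ := rfl
    constructor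
    · intro h3
      exact congrArg Subtype.val (h1.1 (if_pos h3))
    · intro h3
      by_contra h4
      have h5 := h1.2 (Subtype.ext h3)
      rw [if_neg h4] at h5
      exact absurd h5 one_ne_zero
  -- `y₁ = k y` commutes with `K₁`
  have hkR : ∀ r ∈ R, (k : Q) * r * (k : Q)⁻¹ = r := by
    intro r hr
    rw [mul_inv_eq_iff_eq_mul]
    exact ((h.mem_K k).1 k.2.1 r hr).symm
  set y1 := (k : Q) * y with hy1
  have hy1K : ∀ x ∈ K1, y1 * x = x * y1 := by
    intro x hx
    rw [← mul_inv_eq_iff_eq_mul]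
    have e0 : y1 * x * y1⁻¹ = k * (y * x * y⁻¹) * (k : Q)⁻¹ := by rw [hy1]; group
    rw [e0]
    have hyx : (y * x * y⁻¹ = x) ↔ ((k : Q) * x * (k : Q)⁻¹ = x) := by
      rw [mul_inv_eq_iff_eq_mul, mul_inv_eq_iff_eq_mul]
      exact hk' x hx
    have hkx : (k : Q) * x * (k : Q)⁻¹ = x ∨ (k : Q) * x * (k : Q)⁻¹ = x * z := by
      rcases h.comm k k.2.1 x hx.1 with h1 | h1
      · left; rw [h1]; group
      · right
        rw [h1, mul_inv_eq_iff_eq_mul, mul_assoc, mul_assoc, hzcc]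
    rcases hyKact x hx.1 with h1 | h1
    · rw [h1]
      exact hyx.1 h1
    · rcases hkx with h2 | h2
      · exfalso
        have := hyx.2 h2
        rw [h1] at this
        exact hz1 (mul_eq_left.1 this)
      · rw [h1]
        calc (k : Q) * (x * z) * (k : Q)⁻¹ = k * (x * z) * (k : Q)⁻¹ := rfl
          _ = (k * x) * (z * (k : Q)⁻¹) := by group
          _ = (k * x) * ((k : Q)⁻¹ * z) := by rw [hzcc]
          _ = (k * x * (k : Q)⁻¹) * z := by group
          _ = x * (z * z) := by rw [h2]; group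
          _ = x := by rw [hzz, mul_one]
  have hy1c : y1 * c * y1⁻¹ = c * z := by
    have e0 : y1 * c * y1⁻¹ = k * (y * c * y⁻¹) * (k : Q)⁻¹ := by rw [hy1]; group
    rw [e0, hyc]
    exact hkR _ (mul_mem hc h.zR)
  -- `y₁² ∈ R` is a square
  have hy11 : y1 * y1 ∈ R := by
    apply hcent
    · intro x hx
      have h1 : Commute y1 x := hy1K x hx
      exact h1.mul_left h1
    · rw [← mul_inv_eq_iff_eq_mul]
      calc y1 * y1 * c * (y1 * y1)⁻¹ = y1 * (y1 * c * y1⁻¹) * y1⁻¹ := by group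
        _ = y1 * (c * z) * y1⁻¹ := by rw [hy1c]
        _ = (y1 * c) * (z * y1⁻¹) := by group
        _ = (y1 * c) * (y1⁻¹ * z) := by rw [hzcc]
        _ = (y1 * c * y1⁻¹) * z := by group
        _ = c * (z * z) := by rw [hy1c]; group
        _ = c := by rw [hzz, mul_one]
  obtain ⟨s, hsR, hss⟩ : ∃ s ∈ R, s * s = z := by
    -- an element of order 4 of `Z(Q)`
    have hcy : IsCyclic (center Q) := hQ.2 _ inferInstance inferInstance
    obtain ⟨g, hg⟩ := hcy.exists_ofOrder_eq_natCard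
    rw [hZ] at hg
    have h1 : orderOf (g : Q) = 4 := by rw [Subgroup.orderOf_coe]; exact hg
    refine ⟨g, hZR g.2, ?_⟩
    have h2 : (g : Q) * g * (g * g) = 1 := by
      rw [← pow4, ← h1, pow_orderOf_eq_one]
    rcases h.uniq (g * g) (mul_mem (hZR g.2) (hZR g.2)) h2 with h3 | h3
    · exfalso
      have h4 : orderOf (g : Q) ∣ 2 := orderOf_dvd_of_pow_eq_one (by rw [pow_two]; exact h3)
      rw [h1] at h4
      omega
    · exact h3
  obtain ⟨y2, hy2K, hy2c, hy22⟩ : ∃ y2 : Q, (∀ x ∈ K1, y2 * x = x * y2) ∧ y2 * c * y2⁻¹ = c * z ∧ y2 * y2 = 1 := by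
    obtain ⟨m, hm⟩ := hgen _ hy11
    have hme : Even m := by
      by_contra ho
      rw [Int.not_even_iff_odd] at ho
      obtain ⟨j, rfl⟩ := ho
      have h1 : y1 * c ^ (2 * j + 1) * y1⁻¹ = c ^ (2 * j + 1) * z ^ (2 * j + 1) := by
        rw [← conj_zpow, hy1c, (show Commute c z from (hzcc c).symm).mul_zpow]
      have h2 : z ^ (2 * j + 1) = z := by
        rw [zpow_add_one, zpow_mul]
        have : z ^ (2 : ℤ) = 1 := by rw [zpow_ofNat, pow_two, hzz]
        rw [this, one_zpow, one_mul]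
      rw [h2, hm] at h1
      have h3 : y1 * (y1 * y1) * y1⁻¹ = y1 * y1 := by group
      rw [h3] at h1
      exact hz1 (mul_eq_left.1 h1.symm)
    obtain ⟨j, rfl⟩ := hme
    set d := c ^ j with hd
    have hdR : d ∈ R := zpow_mem hc j
    have hdd : y1 * y1 = d * d := by rw [← hm, hd, ← zpow_add]
    have hRK1 : ∀ r ∈ R, ∀ x ∈ K1, r * x = x * r := fun r hr x hx => (h.mem_K x).1 hx.1 r hr
    have hRc : ∀ r ∈ R, r * c = c * r := fun r hr => (h.mem_K c).1 (h.le hc) r hr
    -- `(y₁ r)` for `r ∈ R`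
    have hgenl : ∀ r ∈ R, (∀ x ∈ K1, y1 * r * x = x * (y1 * r)) ∧ (y1 * r) * c * (y1 * r)⁻¹ = c * z := by
      intro r hr
      constructor
      · intro x hx
        rw [mul_assoc, hRK1 r hr x hx, ← mul_assoc, hy1K x hx, mul_assoc]
      · calc (y1 * r) * c * (y1 * r)⁻¹ = y1 * (r * c) * r⁻¹ * y1⁻¹ := by group
          _ = y1 * (c * r) * r⁻¹ * y1⁻¹ := by rw [hRc r hr]
          _ = y1 * c * y1⁻¹ := by group
          _ = c * z := hy1c
    have e1 : ∀ r : Q, y1 * r * (y1 * r) = (y1 * y1) * (y1⁻¹ * r * y1) * r := fun r => by group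
    have hy1inv : ∀ r ∈ R, y1⁻¹ * r * y1 = r ∨ y1⁻¹ * r * y1 = r * z := by
      intro r hr
      rcases hyR hy1c r hr with h1 | h1
      · left
        rw [mul_inv_eq_iff_eq_mul] at h1
        rw [mul_assoc, ← h1]; group
      · right
        rw [mul_inv_eq_iff_eq_mul] at h1
        have h2 : y1 * (r * z) = r * y1 := by
          rw [← mul_assoc, h1, mul_assoc, mul_assoc, ← mul_assoc z, hzcc y1, mul_assoc, hzz, mul_one]
        rw [mul_assoc, ← h2]; group
    rcases hy1inv d⁻¹ (inv_mem hdR) with h1 | h1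
    · refine ⟨y1 * d⁻¹, (hgenl _ (inv_mem hdR)).1, (hgenl _ (inv_mem hdR)).2, ?_⟩
      rw [e1, h1, hdd]; group
    · refine ⟨y1 * (d⁻¹ * s), (hgenl _ (mul_mem (inv_mem hdR) hsR)).1, (hgenl _ (mul_mem (inv_mem hdR) hsR)).2, ?_⟩
      have hs4 : s * s * (s * s) = 1 := by rw [hss, hzz]
      have hsy : ∀ q : Q, s * q = q * s := hfour s hsR hs4
      rw [e1]
      have h2 : y1⁻¹ * (d⁻¹ * s) * y1 = d⁻¹ * z * s := by
        calc y1⁻¹ * (d⁻¹ * s) * y1 = y1⁻¹ * d⁻¹ * (s * y1) := by group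
          _ = y1⁻¹ * d⁻¹ * (y1 * s) := by rw [hsy]
          _ = (y1⁻¹ * d⁻¹ * y1) * s := by group
          _ = d⁻¹ * z * s := by rw [h1]
      rw [h2, hdd]
      calc d * d * (d⁻¹ * z * s) * (d⁻¹ * s) = d * (z * (s * d⁻¹)) * s := by group
        _ = d * (z * (d⁻¹ * s)) * s := by rw [hsy]
        _ = d * ((z * d⁻¹) * s) * s := by group
        _ = d * ((d⁻¹ * z) * s) * s := by rw [hzcc]
        _ = z * (s * s) := by group
        _ = 1 := by rw [hss, hzz]
  -- the characteristic subgroup `V = {1, z, y₂, z y₂}`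
  let S : Set Q := {v | v * v = 1 ∧ (∀ x ∈ K, x * x * (x * x) = 1 → v * x = x * v) ∧ ∀ r ∈ R, v * (r * r) = r * r * v}
  have hS : ∀ v, v ∈ S ↔ v = 1 ∨ v = z ∨ v = y2 ∨ v = z * y2 := by
    have hy2R : ∀ r ∈ R, y2 * (r * r) = r * r * y2 := by
      intro r hr
      rw [← mul_inv_eq_iff_eq_mul]
      have e0 : y2 * (r * r) * y2⁻¹ = (y2 * r * y2⁻¹) * (y2 * r * y2⁻¹) := by group
      rw [e0]
      rcases hyR hy2c r hr with h1 | h1
      · rw [h1]
      · rw [h1]
        calc r * z * (r * z) = r * (z * r) * z := by group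
          _ = r * (r * z) * z := by rw [hzcc]
          _ = r * r * (z * z) := by group
          _ = r * r := by rw [hzz, mul_one]
    intro v
    constructor
    · rintro ⟨h1, h2, h3⟩
      have hvK1 : ∀ x ∈ K1, v * x = x * v := fun x hx => h2 x hx.1 hx.2
      have h4 : v * c * v⁻¹ * c⁻¹ ∈ R := mul_mem (hRn.conj_mem c hc v) (inv_mem hc)
      have h5 : v * c * v⁻¹ * c⁻¹ * (v * c * v⁻¹ * c⁻¹) = 1 := by
        have h6 : (v * c * v⁻¹) * c⁻¹ = c⁻¹ * (v * c * v⁻¹) := by
          have := (h.mem_K (v * c * v⁻¹)).1 (h.le (hRn.conj_mem c hc v)) c⁻¹ (inv_mem hc)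
          exact this.symm
        have h7 : (v * c * v⁻¹) * (v * c * v⁻¹) = c * c := by
          calc (v * c * v⁻¹) * (v * c * v⁻¹) = v * (c * c) * v⁻¹ := by group
            _ = (c * c) * v * v⁻¹ := by rw [h3 c hc]
            _ = c * c := by group
        calc v * c * v⁻¹ * c⁻¹ * (v * c * v⁻¹ * c⁻¹) = (v * c * v⁻¹) * (c⁻¹ * (v * c * v⁻¹)) * c⁻¹ := by group
          _ = (v * c * v⁻¹) * ((v * c * v⁻¹) * c⁻¹) * c⁻¹ := by rw [h6]
          _ = ((v * c * v⁻¹) * (v * c * v⁻¹)) * (c * c)⁻¹ := by group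
          _ = 1 := by rw [h7, mul_inv_cancel]
      rcases h.uniq _ h4 h5 with h6 | h6
      · -- `v` commutes with `c`
        have h7 : v * c = c * v := by
          rw [mul_inv_eq_one, mul_inv_eq_iff_eq_mul] at h6
          exact h6
        rcases h.uniq v (hcent v hvK1 h7) h1 with h8 | h8
        · exact Or.inl h8
        · exact Or.inr (Or.inl h8)
      · have h7 : v * c * v⁻¹ = c * z := by
          rw [mul_inv_eq_iff_eq_mul] at h6
          rw [h6, hzcc]
        -- `v y₂ ∈ R`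
        have h8 : v * y2 ∈ R := by
          apply hcent
          · intro x hx
            rw [mul_assoc, hy2K x hx, ← mul_assoc, hvK1 x hx, mul_assoc]
          · rw [← mul_inv_eq_iff_eq_mul]
            calc v * y2 * c * (v * y2)⁻¹ = v * (y2 * c * y2⁻¹) * v⁻¹ := by group
              _ = v * (c * z) * v⁻¹ := by rw [hy2c]
              _ = (v * c) * (z * v⁻¹) := by group
              _ = (v * c) * (v⁻¹ * z) := by rw [hzcc]
              _ = (v * c * v⁻¹) * z := by group
              _ = c * (z * z) := by rw [h7]; group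
              _ = c := by rw [hzz, mul_one]
        set ρ := v * y2 with hρ
        have hvρ : v = ρ * y2 := by rw [hρ, mul_assoc, hy22, mul_one]
        have h9 : ρ * (y2 * ρ * y2⁻¹) = 1 := by
          have hy2i : y2⁻¹ = y2 := inv_eq_of_mul_eq_one_left hy22
          calc ρ * (y2 * ρ * y2⁻¹) = (ρ * y2) * (ρ * y2) := by rw [hy2i]; group
            _ = 1 := by rw [← hvρ]; exact h1
        rcases hyR hy2c ρ h8 with h10 | h10
        · rw [h10] at h9
          rcases h.uniq ρ h8 h9 with h11 | h11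
          · right; right; left; rw [hvρ, h11, one_mul]
          · right; right; right; rw [hvρ, h11]
        · exfalso
          rw [h10, ← mul_assoc] at h9
          have h11 : ρ * ρ = z := by
            have : ρ * ρ = z⁻¹ := mul_eq_one_iff_eq_inv.1 h9
            rw [this]
            exact inv_eq_of_mul_eq_one_left hzz
          have h12 := hfour ρ h8 (by rw [h11, hzz]) y2
          rw [← h12, mul_inv_cancel_right] at h10
          exact hz1 (mul_eq_left.1 h10.symm)
    · rintro (rfl | rfl | rfl | rfl)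
      · refine ⟨by simp, fun x _ _ => by simp, fun r _ => by simp⟩
      · exact ⟨hzz, fun x _ _ => hzcc x, fun r _ => hzcc _⟩
      · exact ⟨hy22, fun x hx hx4 => hy2K x ⟨hx, hx4⟩, hy2R⟩
      · refine ⟨?_, fun x hx hx4 => ?_, fun r hr => ?_⟩
        · calc z * y2 * (z * y2) = z * (y2 * z) * y2 := by group
            _ = z * (z * y2) * y2 := by rw [← hzcc y2]
            _ = (z * z) * (y2 * y2) := by group
            _ = 1 := by rw [hzz, hy22, mul_one]
        · rw [mul_assoc, hy2K x ⟨hx, hx4⟩, ← mul_assoc, hzcc, mul_assoc]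
        · rw [mul_assoc, hy2R r hr, ← mul_assoc, hzcc, mul_assoc]
  have hzy : z * y2 = y2 * z := hzcc y2
  let V : Subgroup Q :=
    { carrier := S
      mul_mem' := by
        intro a b ha hb
        rw [hS] at ha hb ⊢
        rcases ha with rfl | rfl | rfl | rfl <;> rcases hb with rfl | rfl | rfl | rfl
        · left; simp
        · right; left; simp
        · right; right; left; simp
        · right; right; right; simp
        · right; left; simp
        · left; exact hzz
        · right; right; right; rfl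
        · right; right; left; rw [← mul_assoc, hzz, one_mul]
        · right; right; left; simp
        · right; right; right; exact hzy.symm
        · left; exact hy22
        · right; left; rw [hzy, ← mul_assoc, hy22, one_mul]
        · right; right; right; simp
        · right; right; left; rw [mul_assoc, ← hzy, ← mul_assoc, hzz, one_mul]
        · right; left; rw [mul_assoc, hy22, mul_one]
        · left
          calc z * y2 * (z * y2) = z * (y2 * z) * y2 := by group
            _ = z * (z * y2) * y2 := by rw [hzy]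
            _ = (z * z) * (y2 * y2) := by group
            _ = 1 := by rw [hzz, hy22, mul_one]
      one_mem' := (hS 1).2 (Or.inl rfl)
      inv_mem' := by
        intro a ha
        have : a⁻¹ = a := inv_eq_of_mul_eq_one_left ha.1
        rw [this]
        exact ha }
  have hVc : V.Characteristic := by
    rw [characteristic_iff_le_comap]
    intro σ v hv
    have hv' : v ∈ S := hv
    have hKσ : ∀ x ∈ K, σ.symm x ∈ K := by
      intro x hx
      have h1 := characteristic_iff_le_comap.1 h.charK σ.symm hx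
      exact h1
    have hRσ : ∀ x ∈ R, σ.symm x ∈ R := by
      intro x hx
      have h1 := characteristic_iff_le_comap.1 h.charR σ.symm hx
      exact h1
    show σ v ∈ S
    refine ⟨?_, ?_, ?_⟩
    · rw [← map_mul, hv'.1, map_one]
    · intro x hx hx4
      have h1 := hv'.2.1 (σ.symm x) (hKσ x hx) (by rw [← map_mul, ← map_mul, hx4, map_one])
      have h2 := congrArg σ h1
      rwa [map_mul, map_mul, MulEquiv.apply_symm_apply] at h2
    · intro r hr
      have h1 := hv'.2.2 (σ.symm r) (hRσ r hr)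
      have h2 := congrArg σ h1
      simp only [map_mul, MulEquiv.apply_symm_apply] at h2
      exact h2
  have hVab : IsMulCommutative V := by
    refine ⟨⟨fun a b => Subtype.ext ?_⟩⟩
    have ha : (a : Q) * a = 1 := a.2.1
    have hb : (b : Q) * b = 1 := b.2.1
    have hab : (a : Q) * b * (a * b) = 1 := (V.mul_mem a.2 b.2).1
    show (a : Q) * b = b * a
    have h1 : ((a : Q) * b)⁻¹ = a * b := inv_eq_of_mul_eq_one_left hab
    rw [mul_inv_rev, inv_eq_of_mul_eq_one_left ha, inv_eq_of_mul_eq_one_left hb] at h1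
    exact h1.symm
  have hVcy := hQ.2 V hVc hVab
  have hzV : z ∈ V := (hS z).2 (Or.inr (Or.inl rfl))
  have hyV : y2 ∈ V := (hS y2).2 (Or.inr (Or.inr (Or.inl rfl)))
  have hy21 : y2 ≠ 1 := by
    rintro rfl
    rw [one_mul, inv_one, mul_one] at hy2c
    exact hz1 (mul_eq_left.1 hy2c.symm)
  have hy2z : y2 ≠ z := by
    intro h1
    rw [h1, hzcc, mul_inv_cancel_right] at hy2c
    exact hz1 (mul_eq_left.1 hy2c.symm)
  apply hy2z
  exact Cfsg.Agent.S1755.eq_of_orderOf_two_mem hVcy hyV hzV (orderOf_eq_prime (by rw [pow_two]; exact hy22) hy21) hz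

/-- **A 2-group of symplectic type with centre of order 4** -/
theorem sym (hQ : Cfsg.IsOfSymplecticType Q) (hZ : Nat.card (center Q) = 4) :
    ∃ z ∈ center Q, orderOf z = 2 ∧ (∀ x y : Q, x * y * x⁻¹ * y⁻¹ ∈ zpowers z) ∧ ∀ x : Q, x * x ∈ zpowers z := by
  classical
  have : Fact (Nat.Prime 2) := ⟨Nat.prime_two⟩
  obtain ⟨⟨z, hzc⟩, hz⟩ := exists_prime_orderOf_dvd_card' (G := center Q) 2 (by rw [hZ]; norm_num)
  rw [← Subgroup.orderOf_coe] at hz
  have hz' : orderOf z = 2 := hz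
  obtain ⟨K, R, h⟩ := exists_KR hQ hz' hzc
  have htop := top_of hQ hZ hz' hzc h
  have hzz : z * z = 1 := h.zz hz'
  have hzcc : ∀ x : Q, z * x = x * z := fun x => (mem_center_iff.1 hzc x).symm
  have hRc : ∀ r ∈ R, r ∈ center Q := by
    intro r hr
    rw [mem_center_iff]
    intro q
    exact ((h.mem_K q).1 (htop q) r hr).symm
  have hZR : center Q ≤ R := fun x hx => h.cent x fun y _ => mem_center_iff.1 hx y
  have hR4 : 4 ≤ Nat.card R := by
    rw [← hZ]
    exact Nat.card_le_card_of_injective (fun a : center Q => (⟨a, hZR a.2⟩ : R))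
      (fun a b hab => Subtype.ext (congrArg (fun r : R => (r : Q)) hab))
  refine ⟨z, hzc, hz', ?_, ?_⟩
  · intro x y
    rcases h.comm x (htop x) y (htop y) with h1 | h1
    · rw [h1]
      have : y * x * x⁻¹ * y⁻¹ = 1 := by group
      rw [this]
      exact one_mem _
    · rw [h1]
      have : y * x * z * x⁻¹ * y⁻¹ = z := by
        calc y * x * z * x⁻¹ * y⁻¹ = y * x * (z * (x⁻¹ * y⁻¹)) := by group
          _ = y * x * ((x⁻¹ * y⁻¹) * z) := by rw [hzcc]
          _ = z := by group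
      rw [this]
      exact mem_zpowers z
  · intro x
    obtain ⟨r, hr, hxr⟩ := h.sqR hQ hz' hzc hR4 (htop x)
    rw [hxr]
    have h4 : r * r * (r * r) = 1 := by
      have h1 : (⟨r, hRc r hr⟩ : center Q) ^ 4 = 1 := by rw [← hZ]; exact pow_card_eq_one'
      have h2 : r ^ 4 = 1 := congrArg Subtype.val h1
      rw [← pow4]; exact h2
    rcases h.uniq (r * r) (mul_mem hr hr) h4 with h1 | h1
    · rw [h1]; exact one_mem _
    · rw [h1]; exact mem_zpowers z

end Cfsg.Agent.H738.C3.Sym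
end

-- part: H738/C3/Engine
section
/-!
# S1920, case B: the engine (helper738)

`N0` is the 2-group of order 64 (`N0 / <z>` elementary abelian), `Act z N0 g` : `[g, N0] ≤ <z>`;
`Conf` : the configuration, `Conf.comm_two` : every 2-subgroup of `G` normalized by `{g | Act z N0 g}` commutes with the
elements of odd order of `C_G(N0)`; `Conf.comm_char2` : the same for the subgroups of characteristic 2.
-/

set_option autoImplicit false

open Subgroup

namespace Cfsg.Agent.H738.C3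

variable {G : Type*} [Group G]

/-- `[g, N0] ≤ <z>` -/
def Act (z : G) (N0 : Subgroup G) (g : G) : Prop := ∀ a ∈ N0, g * a * g⁻¹ * a⁻¹ ∈ zpowers z

/-- the configuration of case B -/
structure Conf (z : G) (N0 : Subgroup G) : Prop where
  ord : orderOf z = 2
  mem : z ∈ N0
  card : Nat.card N0 = 64
  comm : ∀ a ∈ N0, Act z N0 a
  sq : ∀ a ∈ N0, a * a ∈ zpowers z
  kill : ∀ W : Subgroup G, IsPGroup 2 W → (∀ w ∈ W, Act z N0 w) →
    (∀ g, Act z N0 g → ∀ w ∈ W, g * w * g⁻¹ ∈ W) → ∀ c, (∀ a ∈ N0, c * a = a * c) → ∀ w ∈ W, c * w = w * c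

variable {z : G} {N0 : Subgroup G}

theorem mem_zp (hz : orderOf z = 2) {x : G} (h : x ∈ zpowers z) : x = 1 ∨ x = z := by
  obtain ⟨k, rfl⟩ := mem_zpowers_iff.1 h
  rcases Int.even_or_odd k with ⟨j, rfl⟩ | ⟨j, rfl⟩
  · left
    have hz2 : z ^ 2 = 1 := by rw [← hz, pow_orderOf_eq_one]
    have : z ^ (j + j) = (z ^ 2) ^ j := by rw [← zpow_natCast, ← zpow_mul]; congr 1; push_cast; ring
    rw [this, hz2, one_zpow]
  · right
    have hz2 : z ^ 2 = 1 := by rw [← hz, pow_orderOf_eq_one]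
    have : z ^ (2 * j + 1) = (z ^ 2) ^ j * z := by
      rw [zpow_add_one, zpow_mul]
      norm_cast
    rw [this, hz2, one_zpow, one_mul]

theorem Act.comm_z (hz : orderOf z = 2) (hzN : z ∈ N0) {g : G} (h : Act z N0 g) : g * z = z * g := by
  rcases mem_zp hz (h z hzN) with h1 | h1
  · rw [mul_inv_eq_one, mul_inv_eq_iff_eq_mul] at h1
    exact h1
  · exfalso
    have h2 : g * z * g⁻¹ = 1 := by
      have hzz : z * z = 1 := by rw [← pow_two, ← hz, pow_orderOf_eq_one]
      rw [mul_inv_eq_iff_eq_mul, hzz] at h1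
      exact h1
    have h3 : z = 1 := by
      rw [mul_inv_eq_one] at h2
      exact mul_left_cancel (h2.trans (mul_one g).symm)
    rw [h3, orderOf_one] at hz
    omega

theorem Act.one : Act z N0 (1 : G) := by
  intro a _
  simp

theorem Act.mul (hz : orderOf z = 2) (hzN : z ∈ N0) {g h : G} (hg : Act z N0 g) (hh : Act z N0 h) :
    Act z N0 (g * h) := by
  intro a ha
  have e : g * h * a * (g * h)⁻¹ * a⁻¹ = (g * (h * a * h⁻¹ * a⁻¹) * g⁻¹) * (g * a * g⁻¹ * a⁻¹) := by group
  rw [e]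
  refine mul_mem ?_ (hg a ha)
  rcases mem_zp hz (hh a ha) with h1 | h1
  · rw [h1, mul_one, mul_inv_cancel]
    exact one_mem _
  · rw [h1, hg.comm_z hz hzN, mul_inv_cancel_right]
    exact mem_zpowers z

theorem Act.inv (hz : orderOf z = 2) (hzN : z ∈ N0) {g : G} (hg : Act z N0 g) : Act z N0 g⁻¹ := by
  intro a ha
  have h0 := hg a ha
  have hgz := hg.comm_z hz hzN
  have e : g⁻¹ * a * g⁻¹⁻¹ * a⁻¹ = g⁻¹ * (g * a * g⁻¹ * a⁻¹)⁻¹ * g := by group
  rw [e]
  rcases mem_zp hz h0 with h1 | h1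
  · rw [h1]
    simp
  · rw [h1]
    have e2 : g⁻¹ * z⁻¹ * g = z⁻¹ := by
      have : z⁻¹ * g = g * z⁻¹ := by
        rw [inv_mul_eq_iff_eq_mul, ← mul_assoc, ← hgz, mul_inv_cancel_right]
      rw [mul_assoc, this, inv_mul_cancel_left]
    rw [e2]
    exact inv_mem (mem_zpowers z)

/-- an element of `C(N0)` -/
theorem act_of_comm {c : G} (h : ∀ a ∈ N0, c * a = a * c) : Act z N0 c := by
  intro a ha
  rw [h a ha, mul_inv_cancel_right, mul_inv_cancel]
  exact one_mem _

namespace Conf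

variable (C : Conf z N0)

include C

theorem isPGroup : IsPGroup 2 N0 := IsPGroup.of_card (n := 6) (by rw [C.card]; norm_num)

/-- **The engine**: a 2-subgroup normalized by all the `g` with `[g, N0] ≤ <z>` commutes with the elements of odd order of
`C(N0)`. -/
theorem comm_two [Finite G] {Q : Subgroup G} (hQ : IsPGroup 2 Q)
    (hn : ∀ g, Act z N0 g → ∀ w ∈ Q, g * w * g⁻¹ ∈ Q) {c : G} (hc : ∀ a ∈ N0, c * a = a * c)
    (ho : Odd (orderOf c)) : ∀ w ∈ Q, c * w = w * c := by
  have : Fact (Nat.Prime 2) := ⟨Nat.prime_two⟩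
  let W : Subgroup G :=
    { carrier := {w | w ∈ Q ∧ Act z N0 w}
      mul_mem' := fun {a b} ha hb => ⟨mul_mem ha.1 hb.1, ha.2.mul C.ord C.mem hb.2⟩
      one_mem' := ⟨one_mem _, Act.one⟩
      inv_mem' := fun {a} ha => ⟨inv_mem ha.1, ha.2.inv C.ord C.mem⟩ }
  have hWQ : W ≤ Q := fun w hw => hw.1
  have hW2 : IsPGroup 2 W := hQ.to_le hWQ
  have hWc : ∀ w ∈ W, c * w = w * c := by
    refine C.kill W hW2 (fun w hw => hw.2) ?_ c hc
    intro g hg w hw
    exact ⟨hn g hg w hw.1, (hg.mul C.ord C.mem hw.2).mul C.ord C.mem (hg.inv C.ord C.mem)⟩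
  have hco : (Nat.card (zpowers c)).Coprime 2 := by
    rw [Nat.card_zpowers]
    exact Nat.coprime_two_right.2 ho
  have key := S0028.result (G := G) 2 N0 (zpowers c) Q C.isPGroup hco hQ
    (by
      intro a ha
      rw [mem_centralizer_iff]
      rintro _ ⟨k, rfl⟩
      have : Commute c a := hc a ha
      exact (this.zpow_left k))
    (by
      intro a ha
      rw [mem_normalizer_iff]
      intro w
      constructor
      · exact hn a (C.comm a ha) w
      · intro hw
        have h1 := hn a⁻¹ ((C.comm a ha).inv C.ord C.mem) _ hw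
        have e : a⁻¹ * (a * w * a⁻¹) * a⁻¹⁻¹ = w := by group
        rwa [e] at h1)
    (by
      rw [zpowers_le, mem_normalizer_iff]
      intro w
      have hA : Act z N0 c := act_of_comm hc
      constructor
      · exact hn c hA w
      · intro hw
        have h1 := hn c⁻¹ (hA.inv C.ord C.mem) _ hw
        have e : c⁻¹ * (c * w * c⁻¹) * c⁻¹⁻¹ = w := by group
        rwa [e] at h1)
    (by
      rintro w ⟨hwQ, hwN⟩
      have hwW : w ∈ W := by
        refine ⟨hwQ, act_of_comm fun a ha => ?_⟩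
        exact (mem_centralizer_iff.1 hwN a ha).symm
      rw [mem_centralizer_iff]
      rintro _ ⟨k, rfl⟩
      have : Commute c w := hWc w hwW
      exact this.zpow_left k)
  intro w hw
  exact (mem_centralizer_iff.1 (key (mem_zpowers c)) w hw).symm

/-- no normalized subgroup of characteristic 2 contains an element `≠ 1` of odd order of `C(N0)` -/
theorem not_char2 [Finite G] {M Q : Subgroup G} (hM : ∀ g, Act z N0 g → ∀ m ∈ M, g * m * g⁻¹ ∈ M)
    (hQ : IsPGroup 2 Q) (hn : ∀ g, Act z N0 g → ∀ w ∈ Q, g * w * g⁻¹ ∈ Q)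
    (hMQ : ∀ m ∈ M, ∀ q ∈ Q, m * q * m⁻¹ ∈ Q)
    (hch : ∀ m ∈ M, (∀ q ∈ Q, m * q = q * m) → m ∈ Q) {c : G} (hc : ∀ a ∈ N0, c * a = a * c)
    (ho : Odd (orderOf c)) (hcM : c ∈ M) : c = 1 := by
  have h1 := C.comm_two hQ hn hc ho
  have h2 : c ∈ Q := hch c hcM h1
  obtain ⟨k, hk⟩ := hQ ⟨c, h2⟩
  have hk' : c ^ 2 ^ k = 1 := congrArg Subtype.val hk
  have h6 : orderOf c ∣ 1 := by
    have h7 : (orderOf c).Coprime (2 ^ k) := (Nat.coprime_two_right.2 ho).pow_right k
    exact h7 ▸ Nat.dvd_gcd dvd_rfl (orderOf_dvd_of_pow_eq_one hk')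
  exact orderOf_eq_one_iff.1 (Nat.dvd_one.1 h6)

/-- **`C(z)` is not of characteristic 2** -/
theorem not_char2_cent [Finite G] {c : G} (hc : ∀ a ∈ N0, c * a = a * c) (ho : Odd (orderOf c)) (hc1 : c ≠ 1) :
    ¬ IsOfCharacteristicTwo ↥(centralizer ({z} : Set G)) := by
  intro h
  have : Fact (Nat.Prime 2) := ⟨Nat.prime_two⟩
  apply hc1
  let Z := centralizer ({z} : Set G)
  have hcore : IsPGroup 2 ↥(pCore 2 ↥Z) := Lib.Cores.pCore_isPGroup 2
  have hchr : (pCore 2 ↥Z).Normal := Lib.Cores.pCore_normal 2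
  have hnA : ∀ g, Act z N0 g → g ∈ Z := fun g hg => mem_centralizer_singleton_iff.2 (hg.comm_z C.ord C.mem)
  refine C.not_char2 (M := Z) (Q := (pCore 2 ↥Z).map Z.subtype) ?_ (hcore.map _) ?_ ?_ ?_ hc ho
    (mem_centralizer_singleton_iff.2 (hc z C.mem))
  · intro g hg m hm
    exact mul_mem (mul_mem (hnA g hg) hm) (inv_mem (hnA g hg))
  · rintro g hg _ ⟨w, hw, rfl⟩
    exact ⟨(⟨g, hnA g hg⟩ * w * ⟨g, hnA g hg⟩⁻¹ :), hchr.conj_mem w hw _, rfl⟩
  · rintro m hm _ ⟨w, hw, rfl⟩
    exact ⟨(⟨m, hm⟩ * w * ⟨m, hm⟩⁻¹ :), hchr.conj_mem w hw _, rfl⟩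
  · intro m hm hq
    refine ⟨⟨m, hm⟩, h ?_, rfl⟩
    rw [mem_centralizer_iff]
    intro q hq'
    exact Subtype.ext (hq _ ⟨q, hq', rfl⟩).symm

end Conf

end Cfsg.Agent.H738.C3
end

-- part: H738/C3/Setup
section
/-!
# S1920: the data inside `G` (helper738)

`X = H`, `f : X → B = H / O(H)`, `N ⊴ B` of order 64, `B / N ≅ S₆`; `Lift f N M` : the Sylow 2-subgroup `M` of `f⁻¹(N)`.
-/

set_option autoImplicit false

open Subgroup Equiv

namespace Cfsg.Agent.H738.C3

theorem exists_kl : ∀ i j : Fin 6, ∃ k l : Fin 6, k ≠ i ∧ k ≠ j ∧ l ≠ i ∧ l ≠ j ∧ k ≠ l := by decide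

/-- the centralizer of `A₆` in `S₆` -/
theorem cent_alt_six (d : Perm (Fin 6)) (h : ∀ a ∈ alternatingGroup (Fin 6), a * d = d * a) : d = 1 := by
  by_contra hd
  obtain ⟨i, hi⟩ : ∃ i, d i ≠ i := by
    by_contra hcon
    push Not at hcon
    exact hd (Equiv.ext hcon)
  obtain ⟨k, l, hk, hk', hl, hl', hkl⟩ := exists_kl i (d i)
  have hc : Equiv.swap i k * Equiv.swap i l ∈ alternatingGroup (Fin 6) := by
    rw [Perm.mem_alternatingGroup, Perm.sign_mul, Perm.sign_swap hk.symm, Perm.sign_swap hl.symm]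
    rfl
  have h1 := congrArg (fun σ : Perm (Fin 6) => σ i) (h _ hc)
  simp only [Perm.mul_apply] at h1
  rw [Equiv.swap_apply_of_ne_of_ne hi hl'.symm, Equiv.swap_apply_of_ne_of_ne hi hk'.symm, Equiv.swap_apply_left,
    Equiv.swap_apply_of_ne_of_ne hl hkl.symm] at h1
  exact hl (d.injective h1.symm)

/-- no nontrivial 2-subgroup of `S₆` is normalized by `A₆` -/
theorem two_perm_six (D : Subgroup (Perm (Fin 6))) (h2 : IsPGroup 2 D)
    (hn : ∀ a ∈ alternatingGroup (Fin 6), ∀ d ∈ D, a * d * a⁻¹ ∈ D) : ∀ d ∈ D, d = 1 := by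
  have : Fact (Nat.Prime 2) := ⟨Nat.prime_two⟩
  have h6 : IsSimpleGroup (alternatingGroup (Fin 6)) := alternatingGroup.isSimpleGroup (by simp)
  -- `D ∩ A₆ = 1`
  have hDA : ∀ d ∈ D, d ∈ alternatingGroup (Fin 6) → d = 1 := by
    have hN : (D.subgroupOf (alternatingGroup (Fin 6))).Normal := by
      constructor
      intro d hd a
      exact hn a a.2 d hd
    rcases hN.eq_bot_or_eq_top with h | h
    · intro d hd hdA
      have h1 : (⟨d, hdA⟩ : alternatingGroup (Fin 6)) ∈ D.subgroupOf (alternatingGroup (Fin 6)) := hd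
      rw [h, mem_bot] at h1
      exact congrArg Subtype.val h1
    · exfalso
      have hle : alternatingGroup (Fin 6) ≤ D := subgroupOf_eq_top.1 h
      have h3 : IsPGroup 2 (alternatingGroup (Fin 6)) := h2.to_le hle
      obtain ⟨n, hn⟩ := h3.exists_card_eq
      have h4 : Nat.card (alternatingGroup (Fin 6)) = 360 := by
        rw [nat_card_alternatingGroup]; simp [Nat.factorial]
      have h5 : (3 : ℕ) ∣ 2 ^ n := by rw [← hn, h4]; norm_num
      have h6 := (Nat.prime_three).dvd_of_dvd_pow h5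
      omega
  intro d hd
  apply cent_alt_six
  intro a ha
  have h1 : a * d * a⁻¹ * d⁻¹ ∈ D := mul_mem (hn a ha d hd) (inv_mem hd)
  have h2 : a * d * a⁻¹ * d⁻¹ ∈ alternatingGroup (Fin 6) := by
    have h3 : d * a⁻¹ * d⁻¹ ∈ alternatingGroup (Fin 6) :=
      (inferInstance : (alternatingGroup (Fin 6)).Normal).conj_mem _ (inv_mem ha) d
    have e : a * d * a⁻¹ * d⁻¹ = a * (d * a⁻¹ * d⁻¹) := by group
    rw [e]
    exact mul_mem ha h3
  have h4 := hDA _ h1 h2
  rw [mul_inv_eq_one, mul_inv_eq_iff_eq_mul] at h4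
  exact h4

section lift

variable {X B : Type*} [Group X] [Group B]

/-- `M` is a Sylow 2-subgroup of `f⁻¹(N)`, mapped isomorphically onto the 2-group `N` -/
structure Lift (f : X →* B) (N : Subgroup B) (M : Subgroup X) : Prop where
  two : IsPGroup 2 M
  map : M.map f = N
  norm : (normalizer (M : Set X)).map f = ⊤

theorem inj_two {f : X →* B} (hk : (Nat.card f.ker).Coprime 2) {x : X} (h2 : ∃ n, x ^ 2 ^ n = 1) (hx : f x = 1) :
    x = 1 := by
  obtain ⟨n, hn⟩ := h2
  have h1 : orderOf x ∣ 2 ^ n := orderOf_dvd_of_pow_eq_one hn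
  have h3 : orderOf (⟨x, hx⟩ : f.ker) ∣ Nat.card f.ker := orderOf_dvd_natCard _
  rw [← Subgroup.orderOf_coe] at h3
  have h4 : orderOf x ∣ 1 := by
    have h5 : (Nat.card f.ker).Coprime (2 ^ n) := hk.pow_right n
    exact h5 ▸ Nat.dvd_gcd h3 h1
  exact orderOf_eq_one_iff.1 (Nat.dvd_one.1 h4)

/-- existence of the lift over a normal 2-subgroup -/
theorem exists_lift [Finite X] {f : X →* B} (hf : Function.Surjective f) (hk : (Nat.card f.ker).Coprime 2)
    {N : Subgroup B} [hN : N.Normal] (h2 : IsPGroup 2 N) {P : Subgroup X} (hP : IsPGroup 2 P)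
    (hPn : P.Normal) (hPN : P.map f ≤ N) : ∃ M : Subgroup X, P ≤ M ∧ Lift f N M := by
  have : Fact (Nat.Prime 2) := ⟨Nat.prime_two⟩
  have hB : Finite B := Finite.of_surjective f hf
  set C := N.comap f with hC
  have hCn : C.Normal := inferInstance
  have hPC : P ≤ C := by
    rw [hC, ← map_le_iff_le_comap]
    exact hPN
  have hPC2 : IsPGroup 2 (P.subgroupOf C) := by
    have e := (subgroupOfEquivOfLe hPC)
    exact hP.of_equiv e.symm
  obtain ⟨S, hS⟩ := hPC2.exists_le_sylow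
  set M : Subgroup X := (S : Subgroup C).map C.subtype with hM
  have hM2 : IsPGroup 2 M := S.isPGroup'.map _
  have hMC : M ≤ C := map_subtype_le _
  have hPM : P ≤ M := by
    intro p hp
    exact ⟨⟨p, hPC hp⟩, hS hp, rfl⟩
  -- the order of `M`
  have hmap : M.map f = N := by
    apply le_antisymm
    · rw [map_le_iff_le_comap]
      exact hMC
    · -- the index of `f(M)` in `N` is odd and a power of two
      have h1 : (M.map f) ≤ N := by
        rw [map_le_iff_le_comap]
        exact hMC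
      let g : C →* N := f.subgroupComap N
      have hg : Function.Surjective g := f.subgroupComap_surjective_of_surjective N hf
      have h3 : ((S : Subgroup C).map g).index ∣ (S : Subgroup C).index := index_map_dvd _ hg
      have h4 : ¬ 2 ∣ (S : Subgroup C).index := S.not_dvd_index
      have h5 : ((S : Subgroup C).map g).index ∣ Nat.card N := index_dvd_card _
      obtain ⟨n, hn⟩ := h2.exists_card_eq
      rw [hn] at h5
      obtain ⟨k, -, hk'⟩ := (Nat.dvd_prime_pow Nat.prime_two).1 h5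
      have h6 : k = 0 := by
        by_contra h0
        apply h4
        refine dvd_trans ?_ h3
        rw [hk']
        exact dvd_pow_self 2 h0
      rw [h6, pow_zero] at hk'
      have h7 : (S : Subgroup C).map g = ⊤ := index_eq_one.1 hk'
      intro n hn
      have h8 : (⟨n, hn⟩ : N) ∈ (S : Subgroup C).map g := by rw [h7]; exact mem_top _
      obtain ⟨s, hs, hsn⟩ := h8
      exact ⟨s, ⟨s, hs, rfl⟩, congrArg Subtype.val hsn⟩
  refine ⟨M, hPM, hM2, hmap, ?_⟩
  have h1 := Sylow.normalizer_sup_eq_top S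
  have h2 := congrArg (Subgroup.map f) h1
  rw [Subgroup.map_sup, ← MonoidHom.range_eq_map, MonoidHom.range_eq_top.2 hf] at h2
  have h3 : C.map f = N := map_comap_eq_self_of_surjective hf N
  rw [h3] at h2
  rw [eq_top_iff, ← h2]
  apply sup_le le_rfl
  calc N = M.map f := hmap.symm
    _ ≤ _ := Subgroup.map_mono le_normalizer

end lift

end Cfsg.Agent.H738.C3
end
end

-- part: H738/C3/Tools
section
set_option linter.all false
open scoped Cfsg.Agent.FastGrp

/-!
# S1920, case B: tools for the rows (helper738)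

`CB.conf` : `Conf z N0`; `CB.exists_five` : an element of order 5 commuting with `N0` which is in the kernel of no map to a
small group ...; `Conf.kill_quot` : no subgroup `K ∋ y` with a quotient in which the image of some `n ∈ N0 ∩ K` is an involution
with centralizer of characteristic 2.
-/

set_option autoImplicit false

open Subgroup Equiv

namespace Cfsg.Agent.H738.C3

variable {G : Type*} [Group G]

section cb

open Cfsg.Agent.H13.Co3

variable {P N0 : Subgroup G} {z s : G} {ψ : ↥(normalizer (P : Set G)) →* Equiv.Perm (Fin 6)}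

theorem orderOf_z (C : CB P N0 z s ψ) : orderOf z = 2 :=
  orderOf_eq_prime (by rw [pow_two]; exact C.z_sq) C.z_ne

theorem act_iff (C : CB P N0 z s ψ) {g : G} :
    Act z N0 g ↔ ∀ n ∈ N0, g * n = n * g ∨ g * n = z * (n * g) := by
  constructor
  · intro h n hn
    rcases mem_zp (orderOf_z C) (h n hn) with h1 | h1
    · left
      rw [mul_inv_eq_one, mul_inv_eq_iff_eq_mul] at h1
      exact h1
    · right
      rw [mul_inv_eq_iff_eq_mul, mul_inv_eq_iff_eq_mul] at h1
      rw [h1, mul_assoc]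
  · intro h n hn
    rcases h n hn with h1 | h1
    · rw [h1, mul_inv_cancel_right, mul_inv_cancel]
      exact one_mem _
    · rw [h1]
      have e : z * (n * g) * g⁻¹ * n⁻¹ = z := by group
      rw [e]
      exact mem_zpowers z

theorem act_N (C : CB P N0 z s ψ) {n : G} (hn : n ∈ N0) : Act z N0 n := by
  rw [act_iff C]
  intro m hm
  exact C.comm n hn m hm

/-- a 2-subgroup of `{g | [g, N0] ≤ <z>}` normalized by this set is in `N0` -/
theorem le_N0 [Finite G] (C : CB P N0 z s ψ) {W : Subgroup G} (hW : IsPGroup 2 W) (hWA : ∀ w ∈ W, Act z N0 w)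
    (hn : ∀ g, Act z N0 g → ∀ w ∈ W, g * w * g⁻¹ ∈ W) : W ≤ N0 := by
  classical
  have : Fact (Nat.Prime 2) := ⟨Nat.prime_two⟩
  have hAH : ∀ g, Act z N0 g → g ∈ normalizer (P : Set G) := fun g hg => C.key ((act_iff C).1 hg)
  have hWH : W ≤ normalizer (P : Set G) := fun w hw => hAH w (hWA w hw)
  -- the image in `S₆`
  have hD : ∀ d ∈ (W.subgroupOf (normalizer (P : Set G))).map ψ, d = 1 := by
    apply two_perm_six
    · exact (hW.of_equiv (subgroupOfEquivOfLe hWH).symm).map _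
    · rintro a ha _ ⟨w, hw, rfl⟩
      obtain ⟨h, hh, rfl⟩ := C.even a (Perm.mem_alternatingGroup.1 ha)
      have hhA : Act z N0 (h : G) := act_of_comm hh
      refine ⟨h * w * h⁻¹, ?_, by rw [map_mul, map_mul, map_inv]⟩
      exact hn _ hhA _ hw
  have hker : ∀ w (hw : w ∈ W), ψ ⟨w, hWH hw⟩ = 1 := fun w hw => hD _ ⟨⟨w, hWH hw⟩, hw, rfl⟩
  -- `N0 W` is a 2-subgroup of the kernel
  have hnN : N0 ≤ normalizer (W : Set G) := by
    intro a ha
    rw [mem_normalizer_iff]
    intro w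
    constructor
    · exact hn a (act_N C ha) w
    · intro h1
      have h2 := hn a⁻¹ (act_N C (inv_mem ha)) _ h1
      have e : a⁻¹ * (a * w * a⁻¹) * a⁻¹⁻¹ = w := by group
      rwa [e] at h2
  have hsup : IsPGroup 2 (N0 ⊔ W : Subgroup G) := IsPGroup.to_sup_of_normal_right' C.N_two hW hnN
  have hsupH : N0 ⊔ W ≤ normalizer (P : Set G) := sup_le C.NH hWH
  have hsupk : (N0 ⊔ W).subgroupOf (normalizer (P : Set G)) ≤ ψ.ker := by
    have h1 : N0 ⊔ W ≤ ψ.ker.map (normalizer (P : Set G)).subtype := by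
      apply sup_le
      · intro a ha
        exact ⟨⟨a, C.NH ha⟩, C.psi_N a ha, rfl⟩
      · intro w hw
        exact ⟨⟨w, hWH hw⟩, hker w hw, rfl⟩
    rintro ⟨x, hx⟩ hx'
    obtain ⟨y, hy, hyx⟩ := h1 hx'
    have : y = ⟨x, hx⟩ := Subtype.ext hyx
    rw [← this]
    exact hy
  obtain ⟨m, hm, hcard⟩ := C.ker_card
  have h2 : Nat.card ↥(N0 ⊔ W) ∣ 64 * m := by
    rw [← hcard, ← Nat.card_congr (subgroupOfEquivOfLe hsupH).toEquiv]
    exact card_dvd_of_le hsupk
  obtain ⟨k, hk⟩ := hsup.exists_card_eq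
  have h3 : 2 ^ k ∣ 64 := by
    rw [hk] at h2
    exact (Nat.Coprime.pow_left k (Nat.coprime_two_left.2 hm)).dvd_of_dvd_mul_right h2
  have h4 : N0 = N0 ⊔ W := by
    apply Subgroup.eq_of_le_of_card_ge le_sup_left
    rw [hk, C.card]
    exact Nat.le_of_dvd (by norm_num) h3
  rw [h4]
  exact le_sup_right

/-- **The configuration `Conf` from `CB`.** -/
theorem conf [Finite G] (C : CB P N0 z s ψ) : Conf z N0 where
  ord := orderOf_z C
  mem := C.PN C.zP
  card := C.card
  comm := fun a ha => act_N C ha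
  sq := by
    intro a ha
    rcases C.sq a ha with h | h
    · rw [h]; exact one_mem _
    · rw [h]; exact mem_zpowers z
  kill := by
    intro W hW hWA hn c hc w hw
    exact hc w (le_N0 C hW hWA hn hw)

/-- elements of odd prime order of `C(N0)` -/
theorem exists_prime [Finite G] (C : CB P N0 z s ψ) {p : ℕ} (hp : p.Prime) (π : Equiv.Perm (Fin 6))
    (hs : Equiv.Perm.sign π = 1) (ho : orderOf π = p) : ∃ y : G, orderOf y = p ∧ ∀ a ∈ N0, y * a = a * y := by
  obtain ⟨h, hh, hψ⟩ := C.even π hs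
  have h1 : p ∣ orderOf (h : G) := by
    rw [Subgroup.orderOf_coe, ← ho, ← hψ]
    exact orderOf_map_dvd ψ h
  have h0 : orderOf (h : G) ≠ 0 := (orderOf_pos _).ne'
  refine ⟨(h : G) ^ (orderOf (h : G) / p), ?_, ?_⟩
  · exact orderOf_pow_orderOf_div h0 h1
  · intro a ha
    exact ((show Commute (h : G) a from hh a ha).pow_left _)

theorem exists_five [Finite G] (C : CB P N0 z s ψ) : ∃ y : G, orderOf y = 5 ∧ ∀ a ∈ N0, y * a = a * y := by
  have : Fact (Nat.Prime 5) := ⟨by norm_num⟩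
  refine exists_prime C (by norm_num) (c[0, 1, 2, 3, 4] : Equiv.Perm (Fin 6)) (by decide +kernel) ?_
  have h1 : (c[0, 1, 2, 3, 4] : Equiv.Perm (Fin 6)) ^ 5 = 1 := by decide +kernel
  exact orderOf_eq_prime h1 (by decide +kernel)

/-- `64` divides the order of the centralizer of an element of order 5 -/
theorem exists_five_dvd [Finite G] (C : CB P N0 z s ψ) :
    ∃ y : G, orderOf y = 5 ∧ 64 ∣ Nat.card ↥(centralizer ({y} : Set G)) := by
  obtain ⟨y, hy, hc⟩ := exists_five C
  refine ⟨y, hy, ?_⟩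
  rw [← C.card]
  apply card_dvd_of_le
  intro a ha
  rw [mem_centralizer_singleton_iff]
  exact (hc a ha).symm

/-- `2 ^ 10` divides the order of `G`, and of the centralizer of `z` -/
theorem dvd_card_cent [Finite G] (C : CB P N0 z s ψ) : 2 ^ 10 * 45 ∣ Nat.card ↥(centralizer ({z} : Set G)) := by
  have h1 : Nat.card ↥(normalizer (P : Set G)) = Nat.card ψ.ker * 720 := by
    have h2 := ψ.ker.card_mul_index
    rw [← h2, index_ker, MonoidHom.range_eq_top.2 C.surj, card_top]
    congr 1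
    rw [Nat.card_eq_fintype_card, Fintype.card_perm, Fintype.card_fin]
    rfl
  obtain ⟨m, -, hcard⟩ := C.ker_card
  have h3 : normalizer (P : Set G) ≤ centralizer ({z} : Set G) := by
    intro h hh
    rw [mem_centralizer_singleton_iff]
    exact C.z_cen h hh
  refine dvd_trans ?_ (card_dvd_of_le h3)
  rw [h1, hcard]
  exact ⟨m, by ring⟩

theorem dvd_card [Finite G] (C : CB P N0 z s ψ) : 2 ^ 10 * 45 ∣ Nat.card G :=
  (dvd_card_cent C).trans (Subgroup.card_subgroup_dvd_card _)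

end cb

/-- **No subgroup `K ∋ y` with a quotient in which the centralizer of the image of an element of `N0` is of characteristic
2**. -/
theorem Conf.kill_quot [Finite G] {z : G} {N0 : Subgroup G} (C : Conf z N0) {K : Subgroup G} {S : Type*} [Group S]
    (f : ↥K →* S) (hf : Function.Surjective f) (hker : IsPGroup 2 f.ker)
    (hK : ∀ g, Act z N0 g → ∀ k ∈ K, g * k * g⁻¹ ∈ K)
    (hKf : ∀ g (hg : Act z N0 g) (k : ↥K), f k = 1 → f ⟨g * k * g⁻¹, hK g hg k k.2⟩ = 1)
    (hz : ∀ h : z ∈ K, f ⟨z, h⟩ = 1) {n : G} (hn : n ∈ N0) (hnK : n ∈ K)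
    (hchar : IsOfCharacteristicTwo ↥(centralizer ({f ⟨n, hnK⟩} : Set S))) {y : G} (hy : y ∈ K) (hy1 : y ≠ 1)
    (ho : Odd (orderOf y)) (hyN : ∀ a ∈ N0, y * a = a * y) : False := by
  classical
  have : Fact (Nat.Prime 2) := ⟨Nat.prime_two⟩
  set Z := centralizer ({f ⟨n, hnK⟩} : Set S) with hZ
  have hcore : IsPGroup 2 ↥(pCore 2 ↥Z) := Lib.Cores.pCore_isPGroup 2
  have hcn : (pCore 2 ↥Z).Normal := Lib.Cores.pCore_normal 2
  have hchr : (pCore 2 ↥Z).Characteristic := Lib.Cores.pCore_characteristic 2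
  -- the induced automorphisms of `S`
  have hind : ∀ g, Act z N0 g → ∃ α : S ≃* S, ∀ (k : G) (hk : k ∈ K) (hk' : g * k * g⁻¹ ∈ K), α (f ⟨k, hk⟩) = f ⟨g * k * g⁻¹, hk'⟩ := by
    intro g hg
    have hg' : Act z N0 g⁻¹ := hg.inv C.ord C.mem
    let c : ↥K →* ↥K :=
      { toFun := fun k => ⟨g * k * g⁻¹, hK g hg k k.2⟩
        map_one' := by apply Subtype.ext; simp
        map_mul' := fun a b => by apply Subtype.ext; simp only [coe_mul]; group }
    let c' : ↥K →* ↥K :=
      { toFun := fun k => ⟨g⁻¹ * k * g⁻¹⁻¹, hK g⁻¹ hg' k k.2⟩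
        map_one' := by apply Subtype.ext; simp
        map_mul' := fun a b => by apply Subtype.ext; simp only [coe_mul]; group }
    have hcc : ∀ k, c' (c k) = k := fun k => Subtype.ext (by
      show g⁻¹ * (g * k * g⁻¹) * g⁻¹⁻¹ = k
      group)
    have hcc' : ∀ k, c (c' k) = k := fun k => Subtype.ext (by
      show g * (g⁻¹ * k * g⁻¹⁻¹) * g⁻¹ = k
      group)
    let a : S →* S := f.liftOfRightInverse (Function.surjInv hf) (Function.rightInverse_surjInv hf)
      ⟨f.comp c, by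
        intro k hk
        exact hKf g hg k hk⟩
    let b : S →* S := f.liftOfRightInverse (Function.surjInv hf) (Function.rightInverse_surjInv hf)
      ⟨f.comp c', by
        intro k hk
        exact hKf g⁻¹ hg' k hk⟩
    have ha : ∀ k, a (f k) = f (c k) := fun k =>
      MonoidHom.liftOfRightInverse_comp_apply f _ _ _ k
    have hb : ∀ k, b (f k) = f (c' k) := fun k =>
      MonoidHom.liftOfRightInverse_comp_apply f _ _ _ k
    refine ⟨{ toFun := a, invFun := b, left_inv := ?_, right_inv := ?_, map_mul' := map_mul a }, ?_⟩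
    · intro x
      obtain ⟨k, rfl⟩ := hf x
      rw [ha, hb, hcc]
    · intro x
      obtain ⟨k, rfl⟩ := hf x
      rw [hb, ha, hcc']
    · intro k hk hk'
      exact ha ⟨k, hk⟩
  -- `α` fixes `f n`
  have hfix : ∀ g (hg : Act z N0 g) (α : S ≃* S), (∀ (k : G) (hk : k ∈ K) (hk' : g * k * g⁻¹ ∈ K), α (f ⟨k, hk⟩) = f ⟨g * k * g⁻¹, hk'⟩) →
      α (f ⟨n, hnK⟩) = f ⟨n, hnK⟩ := by
    intro g hg α hα
    have h1 : g * n * g⁻¹ ∈ K := hK g hg n hnK
    rw [hα n hnK h1]
    rcases mem_zp C.ord (hg n hn) with h2 | h2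
    · rw [mul_inv_eq_one] at h2
      congr 1
      exact Subtype.ext h2
    · rw [mul_inv_eq_iff_eq_mul] at h2
      have hzK : z ∈ K := by
        have : z = g * n * g⁻¹ * n⁻¹ := by rw [h2]; group
        rw [this]
        exact mul_mem h1 (inv_mem hnK)
      have e : (⟨g * n * g⁻¹, h1⟩ : ↥K) = ⟨z, hzK⟩ * ⟨n, hnK⟩ := Subtype.ext h2
      rw [e, map_mul, hz hzK, one_mul]
  -- `M` and `Q`
  let M : Subgroup G := (Z.comap f).map K.subtype
  let Q : Subgroup G := (((pCore 2 ↥Z).map Z.subtype).comap f).map K.subtype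
  have hmemM : ∀ (k : G) (hk : k ∈ K), k ∈ M ↔ f ⟨k, hk⟩ ∈ Z := by
    intro k hk
    constructor
    · rintro ⟨x, hx, hxk⟩
      have : x = ⟨k, hk⟩ := Subtype.ext hxk
      rw [← this]; exact hx
    · intro h
      exact ⟨⟨k, hk⟩, h, rfl⟩
  have hmemQ : ∀ (k : G) (hk : k ∈ K), k ∈ Q ↔ f ⟨k, hk⟩ ∈ (pCore 2 ↥Z).map Z.subtype := by
    intro k hk
    constructor
    · rintro ⟨x, hx, hxk⟩
      have : x = ⟨k, hk⟩ := Subtype.ext hxk
      rw [← this]; exact hx
    · intro h
      exact ⟨⟨k, hk⟩, h, rfl⟩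
  have hMK : M ≤ K := map_subtype_le _
  have hQK : Q ≤ K := map_subtype_le _
  have hαZ : ∀ α : S ≃* S, α (f ⟨n, hnK⟩) = f ⟨n, hnK⟩ → Z.map α.toMonoidHom = Z := by
    intro α hα
    ext x
    rw [hZ, mem_centralizer_singleton_iff]
    constructor
    · rintro ⟨w, hw, rfl⟩
      have hw' := mem_centralizer_singleton_iff.1 hw
      have h1 := congrArg α hw'
      rw [map_mul, map_mul, hα] at h1
      exact h1
    · intro hx
      refine ⟨α.symm x, ?_, α.apply_symm_apply x⟩
      rw [SetLike.mem_coe, mem_centralizer_singleton_iff]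
      apply α.injective
      rw [map_mul, map_mul, hα, α.apply_symm_apply]
      exact hx
  have hαQ : ∀ α : S ≃* S, α (f ⟨n, hnK⟩) = f ⟨n, hnK⟩ → ∀ x ∈ (pCore 2 ↥Z).map Z.subtype,
      α x ∈ (pCore 2 ↥Z).map Z.subtype := by
    rintro α hα _ ⟨w, hw, rfl⟩
    have hmap := hαZ α hα
    let β : ↥Z ≃* ↥Z := (Z.equivMapOfInjective α.toMonoidHom α.injective).trans (MulEquiv.subgroupCongr hmap)
    refine ⟨β w, ?_, rfl⟩
    have h1 := characteristic_iff_le_comap.1 hchr β hw
    exact h1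
  refine hy1 (C.not_char2 (M := M) (Q := Q) ?_ ?_ ?_ ?_ ?_ hyN ho ?_)
  · intro g hg m hm
    obtain ⟨α, hα⟩ := hind g hg
    have hmK := hMK hm
    rw [hmemM _ (hK g hg m hmK), ← hα m hmK]
    have h1 := (hmemM m hmK).1 hm
    have h2 : α (f ⟨m, hmK⟩) ∈ Z.map α.toMonoidHom := ⟨_, h1, rfl⟩
    rwa [hαZ α (hfix g hg α hα)] at h2
  · -- `Q` is a 2-group
    apply IsPGroup.map
    exact IsPGroup.comap_of_ker_isPGroup (hcore.map _) f hker
  · intro g hg w hw
    obtain ⟨α, hα⟩ := hind g hg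
    have hwK := hQK hw
    rw [hmemQ _ (hK g hg w hwK), ← hα w hwK]
    exact hαQ α (hfix g hg α hα) _ ((hmemQ w hwK).1 hw)
  · intro m hm q hq
    have hmK := hMK hm
    have hqK := hQK hq
    rw [hmemQ _ (mul_mem (mul_mem hmK hqK) (inv_mem hmK))]
    have e : (⟨m * q * m⁻¹, mul_mem (mul_mem hmK hqK) (inv_mem hmK)⟩ : ↥K) = ⟨m, hmK⟩ * ⟨q, hqK⟩ * ⟨m, hmK⟩⁻¹ := rfl
    rw [e, map_mul, map_mul, map_inv]
    obtain ⟨w, hw, hwq⟩ := (hmemQ q hqK).1 hq
    rw [← hwq]
    exact ⟨(⟨f ⟨m, hmK⟩, (hmemM m hmK).1 hm⟩ * w * ⟨f ⟨m, hmK⟩, (hmemM m hmK).1 hm⟩⁻¹ :), hcn.conj_mem w hw _, rfl⟩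
  · intro m hm hcomm
    have hmK := hMK hm
    rw [hmemQ _ hmK]
    have h1 : (⟨f ⟨m, hmK⟩, (hmemM m hmK).1 hm⟩ : ↥Z) ∈ centralizer (pCore 2 ↥Z : Set ↥Z) := by
      rw [mem_centralizer_iff]
      intro q hq
      obtain ⟨k, hk⟩ := hf (q : S)
      have hkQ : (k : G) ∈ Q := by
        rw [hmemQ _ k.2]
        exact ⟨q, hq, hk.symm⟩
      have h2 := hcomm k hkQ
      apply Subtype.ext
      show (q : S) * f ⟨m, hmK⟩ = f ⟨m, hmK⟩ * q
      rw [← hk, ← map_mul, ← map_mul]
      congr 1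
      exact Subtype.ext h2.symm
    exact ⟨_, hchar h1, rfl⟩
  · rw [hmemM y hy, hZ, mem_centralizer_singleton_iff, ← map_mul, ← map_mul]
    congr 1
    exact Subtype.ext (hyN n hn)

end Cfsg.Agent.H738.C3
end

-- part: H415/C3/Kit
section
set_option linter.all false
open scoped Cfsg.Agent.FastGrp

/-!
# S1920, case B: the kit for the classical groups (helper415)

`Kit N0 A E z s x r ψ` : `A = {g | [g, N0] ≤ ⟨z⟩}`, `E ≤ C_G(N0)` perfect with `ψ(E) = A₆`, `x ∈ E` a 5-element, `r`.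
* `exists_kit` : the configuration `CB` gives a kit;
* `Kit.T1` : an element of `A` commuting with `E` commutes with `s`;
* `Kit.T3` : commuting perfect subgroups of `A`;
* `Kit.T4` : 2-elements of `C_G(N0)` in the kernel lie in `⟨s⟩`; `Kit.T4E` : 2-elements of `C_G(N0) ∩ C_G(E)` lie in `⟨s⟩`;
* `Kit.T5` : no `Z₄ × Z₄` in `C_G(N0)` meeting `⟨s⟩` trivially;
* `Kit.T7` : no even element of `A` conjugates `x` to `r x r⁻¹`.
-/

set_option autoImplicit false

open Subgroup Equiv.Perm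
open scoped commutatorElement

namespace Cfsg.Agent.H415.C3

/-- the 5-cycle `(0 1 2 3 4)` -/
def c5 : Equiv.Perm (Fin 6) := Equiv.swap (0 : Fin 6) 1 * Equiv.swap (1 : Fin 6) 2 * Equiv.swap (2 : Fin 6) 3 * Equiv.swap (3 : Fin 6) 4

/-- the 4-cycle `(1 2 4 3)` -/
def d4 : Equiv.Perm (Fin 6) := Equiv.swap (1 : Fin 6) 2 * Equiv.swap (2 : Fin 6) 4 * Equiv.swap (4 : Fin 6) 3

theorem sign_c5 : Equiv.Perm.sign c5 = 1 := by decide

theorem sign_d4 : Equiv.Perm.sign d4 = -1 := by decide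

theorem c5_pow : c5 ^ 5 = 1 := by decide

theorem c5_ne : c5 ≠ 1 := by decide

theorem d4_conj : d4 * c5 * d4⁻¹ = c5 ^ 2 := by decide

theorem odd_of_conj : ∀ σ : Equiv.Perm (Fin 6), σ * c5 = c5 ^ 2 * σ → Equiv.Perm.sign σ = -1 := by (set_option synthInstance.maxSize 9000 in open scoped Cfsg.Agent.Lib.FastPerm in decide +kernel)

/-- the element `(0 1 2)` -/
def c3 : Equiv.Perm (Fin 6) := Equiv.swap (0 : Fin 6) 1 * Equiv.swap (1 : Fin 6) 2

/-- the element `(1 2 3 4 5)` -/
def e5 : Equiv.Perm (Fin 6) := Equiv.swap (1 : Fin 6) 2 * Equiv.swap (2 : Fin 6) 3 * Equiv.swap (3 : Fin 6) 4 * Equiv.swap (4 : Fin 6) 5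

theorem sign_c3 : Equiv.Perm.sign c3 = 1 := by decide

theorem sign_e5 : Equiv.Perm.sign e5 = 1 := by decide

theorem eq_one_of_comm : ∀ σ : Equiv.Perm (Fin 6), σ * c3 = c3 * σ → σ * e5 = e5 * σ → σ = 1 := by (set_option synthInstance.maxSize 9000 in open scoped Cfsg.Agent.Lib.FastPerm in decide +kernel)

variable {G : Type*} [Group G]

/-- **The kit.** -/
structure Kit (N0 A E : Subgroup G) (z s x r : G) (ψ : ↥A →* Equiv.Perm (Fin 6)) : Prop where
  mem_A : ∀ g, g ∈ A ↔ ∀ n ∈ N0, g * n = n * g ∨ g * n = z * (n * g)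
  N_two : IsPGroup 2 N0
  card : Nat.card N0 = 64
  sN : s ∈ N0
  s_sq : s * s = z
  z_sq : z * z = 1
  z_ne : z ≠ 1
  s_cen : ∀ n ∈ N0, n * s = s * n
  sq : ∀ n ∈ N0, n * n = 1 ∨ n * n = z
  comm : ∀ n ∈ N0, ∀ m ∈ N0, n * m = m * n ∨ n * m = z * (m * n)
  cen : ∀ n ∈ N0, (∀ m ∈ N0, n * m = m * n) → n ∈ zpowers s
  N_ker : ∀ n (h : n ∈ A), n ∈ N0 → ψ ⟨n, h⟩ = 1
  ker_card : ∃ m, Odd m ∧ Nat.card ψ.ker = 64 * m
  ker_solv : Group.IsSolvable ψ.ker
  even : ∀ g : ↥A, Equiv.Perm.sign (ψ g) = 1 ↔ (g : G) * s = s * g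
  E_perf : ⁅E, E⁆ = E
  E_comm : ∀ e ∈ E, ∀ n ∈ N0, e * n = n * e
  E_img : ∀ π : Equiv.Perm (Fin 6), Equiv.Perm.sign π = 1 → ∃ e ∈ E, ∀ h : e ∈ A, ψ ⟨e, h⟩ = π
  xE : x ∈ E
  x_five : ∃ k, x ^ 5 ^ k = 1
  psi_x : ∀ h : x ∈ A, ψ ⟨x, h⟩ = c5
  rN : r ∈ normalizer (N0 : Set G)
  rE : r ∈ normalizer (E : Set G)
  r_s : r * s = s⁻¹ * r
  psi_r : ∀ h : r * x * r⁻¹ ∈ A, ψ ⟨r * x * r⁻¹, h⟩ = c5 ^ 2

namespace Kit

variable {N0 A E : Subgroup G} {z s x r : G} {ψ : ↥A →* Equiv.Perm (Fin 6)}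

theorem comm_mem (K : Kit N0 A E z s x r ψ) {g : G} (h : ∀ n ∈ N0, g * n = n * g) : g ∈ A :=
  (K.mem_A g).2 fun n hn => Or.inl (h n hn)

theorem E_A (K : Kit N0 A E z s x r ψ) : E ≤ A := fun e he => K.comm_mem (K.E_comm e he)

theorem N_A (K : Kit N0 A E z s x r ψ) : N0 ≤ A := fun n hn => (K.mem_A n).2 fun m hm => K.comm n hn m hm

theorem z_mem (K : Kit N0 A E z s x r ψ) : z ∈ N0 := K.s_sq ▸ mul_mem K.sN K.sN

theorem z_comm (K : Kit N0 A E z s x r ψ) {g : G} (hg : g ∈ A) : g * z = z * g := by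
  rcases (K.mem_A g).1 hg z K.z_mem with h | h
  · exact h
  · exfalso
    have h1 : g * z = g := by
      rw [h, ← mul_assoc, K.z_sq, one_mul]
    exact K.z_ne (by simpa using h1)

theorem s_ne (K : Kit N0 A E z s x r ψ) : s * s ≠ 1 := by
  rw [K.s_sq]; exact K.z_ne

theorem s_inv (K : Kit N0 A E z s x r ψ) : s⁻¹ = z * s := by
  rw [inv_eq_iff_mul_eq_one, ← mul_assoc, K.z_comm (K.N_A K.sN), mul_assoc, K.s_sq, K.z_sq]

theorem s_four (K : Kit N0 A E z s x r ψ) : s ^ 4 = 1 := by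
  rw [show 4 = 2 * 2 by norm_num, pow_mul, pow_two s, K.s_sq, pow_two, K.z_sq]

/-- a permutation commuting with `A₆` is trivial -/
theorem psi_one (K : Kit N0 A E z s x r ψ) {g : ↥A} (h : ∀ e (he : e ∈ E), (g : G) * e = e * g) : ψ g = 1 := by
  obtain ⟨a, ha, ha'⟩ := K.E_img c3 sign_c3
  obtain ⟨b, hb, hb'⟩ := K.E_img e5 sign_e5
  refine eq_one_of_comm _ ?_ ?_
  · rw [← ha' (K.E_A ha), ← map_mul, ← map_mul]
    exact congrArg ψ (Subtype.ext (h a ha))
  · rw [← hb' (K.E_A hb), ← map_mul, ← map_mul]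
    exact congrArg ψ (Subtype.ext (h b hb))

/-- **T1** -/
theorem T1 (K : Kit N0 A E z s x r ψ) {g : G} (hg : g ∈ A) (h : ∀ e ∈ E, g * e = e * g) : g * s = s * g := by
  have h1 : ψ ⟨g, hg⟩ = 1 := K.psi_one (g := ⟨g, hg⟩) h
  exact (K.even ⟨g, hg⟩).1 (by rw [h1, Equiv.Perm.sign_one])

/-- elements commuting with `N0` are even -/
theorem even_of_comm (K : Kit N0 A E z s x r ψ) {g : G} (h : ∀ n ∈ N0, g * n = n * g) (hg : g ∈ A) :
    Equiv.Perm.sign (ψ ⟨g, hg⟩) = 1 := (K.even ⟨g, hg⟩).2 (h s K.sN)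

/-- the 2-subgroups of the kernel have order at most 64 -/
theorem two_le [Finite G] (K : Kit N0 A E z s x r ψ) (W : Subgroup ↥A) (hW : IsPGroup 2 W) (hk : W ≤ ψ.ker) :
    Nat.card W ∣ 64 := by
  obtain ⟨m, hm, hc⟩ := K.ker_card
  have h1 : Nat.card W ∣ 64 * m := by
    rw [← hc]; exact Subgroup.card_dvd_of_le hk
  obtain ⟨k, hk⟩ := (IsPGroup.iff_card (p := 2)).1 hW
  rw [hk] at h1 ⊢
  exact (Nat.Coprime.pow_left k (Nat.coprime_two_left.2 hm)).dvd_of_dvd_mul_right h1

/-- **T4** : a 2-element of `C_G(N0)` in the kernel lies in `⟨s⟩`. -/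
theorem T4 [Finite G] (K : Kit N0 A E z s x r ψ) {g : G} (h : ∀ n ∈ N0, g * n = n * g) {k : ℕ} (hk : g ^ 2 ^ k = 1)
    (h1 : ψ ⟨g, K.comm_mem h⟩ = 1) : g ∈ zpowers s := by
  -- the subgroup generated by `N0` and `g`
  have hgc : zpowers g ≤ centralizer (N0 : Set G) := by
    rw [zpowers_le, mem_centralizer_iff]
    intro n hn
    exact (h n hn).symm
  let W : Subgroup G := N0 ⊔ zpowers g
  have hWA : W ≤ A := sup_le K.N_A (by rw [zpowers_le]; exact K.comm_mem h)
  have hnorm : N0 ≤ normalizer (zpowers g : Set G) := by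
    intro n hn
    rw [mem_normalizer_iff]
    intro y
    constructor
    · intro hy
      have : n * y * n⁻¹ = y := by
        rw [mem_centralizer_iff.1 (hgc hy) n hn, mul_inv_cancel_right]
      rwa [this]
    · intro hy
      have h2 := mem_centralizer_iff.1 (hgc hy) n hn
      have : n * y * n⁻¹ = y := by
        have h3 : n * (n * y * n⁻¹) * n⁻¹ = n * y * n⁻¹ := by
          rw [h2, mul_inv_cancel_right]
        have h4 := mul_right_cancel (mul_left_cancel (by simpa only [mul_assoc] using h3 :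
          n * ((n * y * n⁻¹) * n⁻¹) = n * (y * n⁻¹)))
        exact h4
      rwa [this] at hy
  have hW2 : IsPGroup 2 W := by
    have hg2 : IsPGroup 2 (zpowers g) := by
      rw [IsPGroup.iff_card]
      have h2 : orderOf g ∣ 2 ^ k := orderOf_dvd_of_pow_eq_one hk
      obtain ⟨j, -, hj⟩ := (Nat.dvd_prime_pow Nat.prime_two).1 h2
      exact ⟨j, by rw [Nat.card_zpowers, hj]⟩
    exact IsPGroup.to_sup_of_normal_right' K.N_two hg2 hnorm
  have hWk : (W.subgroupOf A) ≤ ψ.ker := by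
    have h2 : W ≤ (ψ.ker).map A.subtype := by
      refine sup_le (fun n hn => ?_) ?_
      · exact ⟨⟨n, K.N_A hn⟩, K.N_ker n (K.N_A hn) hn, rfl⟩
      · rw [zpowers_le]
        exact ⟨⟨g, K.comm_mem h⟩, h1, rfl⟩
    intro w hw
    obtain ⟨w', hw', hww⟩ := h2 (mem_subgroupOf.1 hw)
    have : w' = w := Subtype.ext hww
    exact this ▸ hw'
  have hcard : Nat.card W ∣ 64 := by
    have h2 := K.two_le (W.subgroupOf A) (hW2.of_equiv (subgroupOfEquivOfLe hWA).symm) hWk
    rwa [Nat.card_congr (subgroupOfEquivOfLe hWA).toEquiv] at h2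
  have hNW : N0 = W := by
    refine Subgroup.eq_of_le_of_card_ge le_sup_left ?_
    rw [K.card]
    exact Nat.le_of_dvd (by norm_num) hcard
  have hgN : g ∈ N0 := by
    rw [hNW]
    exact (le_sup_right : zpowers g ≤ W) (mem_zpowers g)
  exact K.cen g hgN h

/-- **T4E** : a 2-element of `C_G(N0) ∩ C_G(E)` lies in `⟨s⟩`. -/
theorem T4E [Finite G] (K : Kit N0 A E z s x r ψ) {g : G} (h : ∀ n ∈ N0, g * n = n * g) {k : ℕ} (hk : g ^ 2 ^ k = 1)
    (hE : ∀ e ∈ E, g * e = e * g) : g ∈ zpowers s :=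
  K.T4 h hk (K.psi_one (g := ⟨g, K.comm_mem h⟩) hE)

/-- perfect subgroups of the kernel are trivial -/
theorem perfect_ker (K : Kit N0 A E z s x r ψ) (R : Subgroup G) (hR : ⁅R, R⁆ = R) (hRA : R ≤ A)
    (h : ∀ g (hg : g ∈ R), ψ ⟨g, hRA hg⟩ = 1) : R = ⊥ := by
  have h1 : R ≤ (ψ.ker).map A.subtype := fun g hg => ⟨⟨g, hRA hg⟩, h g hg, rfl⟩
  have h2 : Group.IsSolvable ((ψ.ker).map A.subtype) := by
    have := K.ker_solv
    exact Group.isSolvable_of_isSolvable_injective
      (f := ((ψ.ker).equivMapOfInjective A.subtype A.subtype_injective).symm.toMonoidHom)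
      ((ψ.ker).equivMapOfInjective A.subtype A.subtype_injective).symm.injective
  have h3 : Group.IsSolvable R := Group.isSolvable_of_isSolvable_injective (Subgroup.inclusion_injective h1)
  by_contra hne
  have h4 : Nontrivial R := (Subgroup.nontrivial_iff_ne_bot R).2 hne
  have h5 : commutator ↥R < ⊤ := Group.IsSolvable.commutator_lt_top_of_nontrivial _
  apply h5.ne
  have h6 : (commutator ↥R).map R.subtype = R := by
    rw [commutator_def, Subgroup.map_commutator]
    simp only [← MonoidHom.range_eq_map, Subgroup.range_subtype]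
    exact hR
  refine Subgroup.map_injective R.subtype_injective ?_
  rw [h6, ← MonoidHom.range_eq_map, Subgroup.range_subtype]

/-- **T3** : `R₁`, `R₂` commuting perfect subgroups of `A`, `E ≤ R₁ R₂`: one of them is trivial. -/
theorem T3 (K : Kit N0 A E z s x r ψ) (R₁ R₂ : Subgroup G) (h₁ : ⁅R₁, R₁⁆ = R₁) (h₂ : ⁅R₂, R₂⁆ = R₂)
    (hA₁ : R₁ ≤ A) (hA₂ : R₂ ≤ A) (hc : ∀ a ∈ R₁, ∀ b ∈ R₂, a * b = b * a)
    (hE : ∀ e ∈ E, ∃ a ∈ R₁, ∃ b ∈ R₂, e = a * b) : R₁ = ⊥ ∨ R₂ = ⊥ := by
  by_contra hcon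
  push Not at hcon
  obtain ⟨hn₁, hn₂⟩ := hcon
  -- an element of `R₁` which is not in the kernel
  have e₁ : ∃ a, ∃ ha : a ∈ R₁, ψ ⟨a, hA₁ ha⟩ ≠ 1 := by
    by_contra hcon
    push Not at hcon
    exact hn₁ (K.perfect_ker R₁ h₁ hA₁ hcon)
  have e₂ : ∃ a, ∃ ha : a ∈ R₂, ψ ⟨a, hA₂ ha⟩ ≠ 1 := by
    by_contra hcon
    push Not at hcon
    exact hn₂ (K.perfect_ker R₂ h₂ hA₂ hcon)
  -- the images are normal in `A₆` and commute
  let S₁ : Subgroup (Equiv.Perm (Fin 6)) := (R₁.subgroupOf A).map ψ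
  let S₂ : Subgroup (Equiv.Perm (Fin 6)) := (R₂.subgroupOf A).map ψ
  have hS : ∀ a ∈ S₁, ∀ b ∈ S₂, a * b = b * a := by
    rintro _ ⟨a, ha, rfl⟩ _ ⟨b, hb, rfl⟩
    rw [← map_mul, ← map_mul]
    exact congrArg ψ (Subtype.ext (hc a (mem_subgroupOf.1 ha) b (mem_subgroupOf.1 hb)))
  have hgen : ∀ π : Equiv.Perm (Fin 6), Equiv.Perm.sign π = 1 → ∃ a ∈ S₁, ∃ b ∈ S₂, π = a * b := by
    intro π hπ
    obtain ⟨e, he, heπ⟩ := K.E_img π hπ
    obtain ⟨a, ha, b, hb, hab⟩ := hE e he
    refine ⟨ψ ⟨a, hA₁ ha⟩, ⟨⟨a, hA₁ ha⟩, mem_subgroupOf.2 ha, rfl⟩, ψ ⟨b, hA₂ hb⟩,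
      ⟨⟨b, hA₂ hb⟩, mem_subgroupOf.2 hb, rfl⟩, ?_⟩
    rw [← heπ (K.E_A he), ← map_mul]
    exact congrArg ψ (Subtype.ext hab)
  -- an element of both is central, so trivial
  have hint : ∀ a ∈ S₁, (∀ b ∈ S₁, a * b = b * a) → a = 1 := by
    intro a ha hab
    refine eq_one_of_comm a ?_ ?_
    · obtain ⟨u, hu, v, hv, huv⟩ := hgen c3 sign_c3
      rw [huv, ← mul_assoc, hab u hu, mul_assoc, hS a ha v hv, mul_assoc]
    · obtain ⟨u, hu, v, hv, huv⟩ := hgen e5 sign_e5
      rw [huv, ← mul_assoc, hab u hu, mul_assoc, hS a ha v hv, mul_assoc]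
  -- `S₁` is normal in `A₆`
  have hnorm : ∀ π : Equiv.Perm (Fin 6), Equiv.Perm.sign π = 1 → ∀ a ∈ S₁, π * a * π⁻¹ ∈ S₁ := by
    intro π hπ a ha
    obtain ⟨u, hu, v, hv, rfl⟩ := hgen π hπ
    have : u * v * a * (u * v)⁻¹ = u * a * u⁻¹ := by
      rw [mul_assoc u v a, ← hS a ha v hv]
      group
    rw [this]
    exact mul_mem (mul_mem hu ha) (inv_mem hu)
  -- simplicity of `A₆`
  have hsimple : IsSimpleGroup (alternatingGroup (Fin 6)) := alternatingGroup.isSimpleGroup (by simp)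
  let T : Subgroup (alternatingGroup (Fin 6)) := S₁.subgroupOf (alternatingGroup (Fin 6))
  have hT : T.Normal := by
    refine ⟨fun a ha g => ?_⟩
    rw [mem_subgroupOf] at ha ⊢
    exact hnorm g (mem_alternatingGroup.1 g.2) a ha
  rcases hsimple.eq_bot_or_eq_top_of_normal T hT with h | h
  · -- `S₁ ∩ A₆` trivial
    obtain ⟨a, ha, hψ⟩ := e₁
    -- elements of `R₁` are products of commutators, so even
    have hev : ∀ g (hg : g ∈ R₁), Equiv.Perm.sign (ψ ⟨g, hA₁ hg⟩) = 1 := by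
      have hle : R₁ ≤ ((Equiv.Perm.sign.comp ψ).ker).map A.subtype := by
        rw [← h₁, commutator_le]
        intro u hu v hv
        refine ⟨⁅(⟨u, hA₁ hu⟩ : ↥A), (⟨v, hA₁ hv⟩ : ↥A)⁆, ?_, rfl⟩
        rw [SetLike.mem_coe, MonoidHom.mem_ker, map_commutatorElement]
        rw [commutatorElement_eq_one_iff_mul_comm]
        exact mul_comm _ _
      intro g hg
      obtain ⟨w, hw, hwg⟩ := hle hg
      have : w = ⟨g, hA₁ hg⟩ := Subtype.ext hwg
      rw [← this]
      exact hw
    apply hψ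
    have h1 : (⟨ψ ⟨a, hA₁ ha⟩, mem_alternatingGroup.2 (hev a ha)⟩ : alternatingGroup (Fin 6)) ∈ T := by
      rw [mem_subgroupOf]
      exact ⟨⟨a, hA₁ ha⟩, mem_subgroupOf.2 ha, rfl⟩
    rw [h, Subgroup.mem_bot] at h1
    exact congrArg Subtype.val h1
  · -- `A₆ ≤ S₁`: then `S₂` centralises `A₆`
    obtain ⟨b, hb, hψ⟩ := e₂
    apply hψ
    have hmem : ∀ π : Equiv.Perm (Fin 6), Equiv.Perm.sign π = 1 → π ∈ S₁ := by
      intro π hπ
      have h1 : (⟨π, mem_alternatingGroup.2 hπ⟩ : alternatingGroup (Fin 6)) ∈ T := by rw [h]; trivial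
      exact mem_subgroupOf.1 h1
    have hb2 : ψ ⟨b, hA₂ hb⟩ ∈ S₂ := ⟨⟨b, hA₂ hb⟩, mem_subgroupOf.2 hb, rfl⟩
    exact eq_one_of_comm _ (hS _ (hmem _ sign_c3) _ hb2).symm (hS _ (hmem _ sign_e5) _ hb2).symm

/-- **T7** : no even element of `A` conjugates `x` to `r x r⁻¹`. -/
theorem T7 (K : Kit N0 A E z s x r ψ) {g : G} (hg : g ∈ A) (hs : g * s = s * g) : g * x * g⁻¹ ≠ r * x * r⁻¹ := by
  intro h
  have hx : x ∈ A := K.E_A K.xE
  have hrx : r * x * r⁻¹ ∈ A := K.E_A (((mem_normalizer_iff.1 K.rE) x).1 K.xE)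
  have h1 : ψ ⟨g, hg⟩ * c5 = c5 ^ 2 * ψ ⟨g, hg⟩ := by
    have h2 : (⟨g, hg⟩ : ↥A) * ⟨x, hx⟩ = (⟨r * x * r⁻¹, hrx⟩ : ↥A) * ⟨g, hg⟩ := by
      refine Subtype.ext ?_
      change g * x = r * x * r⁻¹ * g
      rw [← h]; group
    rw [← K.psi_x hx, ← map_mul, h2, map_mul, K.psi_r hrx, K.psi_x hx]
  have h2 := odd_of_conj _ h1
  rw [(K.even ⟨g, hg⟩).2 hs] at h2
  exact absurd h2 (by decide)

end Kit

end Cfsg.Agent.H415.C3
end

-- part: H415/C3/KitOf
section
set_option linter.all false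
open scoped Cfsg.Agent.FastGrp

/-!
# S1920, case B: the kit of a configuration (helper415)

`exists_kit` : the configuration `CB` gives a `Kit`.
-/

set_option autoImplicit false

open Subgroup Equiv.Perm
open scoped commutatorElement

namespace Cfsg.Agent.H415.C3

open Cfsg.Agent.H13.Co3 (CB)

variable {G : Type*} [Group G]

/-- the derived series of a subgroup -/
def der (H : Subgroup G) : ℕ → Subgroup G
  | 0 => H
  | k + 1 => ⁅der H k, der H k⁆

theorem der_succ_le (H : Subgroup G) (k : ℕ) : der H (k + 1) ≤ der H k := commutator_le_self _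

theorem der_le (H : Subgroup G) (k : ℕ) : der H k ≤ H := by
  induction k with
  | zero => exact le_rfl
  | succ k ih => exact (der_succ_le H k).trans ih

theorem der_stable [Finite G] (H : Subgroup G) : ∃ k, ⁅der H k, der H k⁆ = der H k := by
  by_contra hcon
  push Not at hcon
  have h1 : ∀ k, Nat.card (der H k) + k ≤ Nat.card H := by
    intro k
    induction k with
    | zero => exact le_rfl
    | succ k ih =>
      have h2 : der H (k + 1) < der H k := lt_of_le_of_ne (der_succ_le H k) (hcon k)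
      have h3 : Nat.card (der H (k + 1)) < Nat.card (der H k) := by
        refine lt_of_le_of_ne (Subgroup.card_le_of_le h2.le) fun h => h2.ne ?_
        exact Subgroup.eq_of_le_of_card_ge h2.le h.ge
      omega
  have h4 := h1 (Nat.card H + 1)
  omega

theorem der_normalizer {H : Subgroup G} {r : G} (hr : r ∈ normalizer (H : Set G)) (k : ℕ) :
    r ∈ normalizer (der H k : Set G) := by
  induction k with
  | zero => exact hr
  | succ k ih =>
    have h1 : ∀ K : Subgroup G, r ∈ normalizer (K : Set G) ↔ K.map (MulAut.conj r).toMonoidHom = K := by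
      intro K
      rw [mem_normalizer_iff]
      constructor
      · intro h
        ext y
        constructor
        · rintro ⟨w, hw, rfl⟩
          exact (h w).1 hw
        · intro hy
          refine ⟨r⁻¹ * y * r, ?_, ?_⟩
          · rw [SetLike.mem_coe, h]
            have : r * (r⁻¹ * y * r) * r⁻¹ = y := by group
            rwa [this]
          · change r * (r⁻¹ * y * r) * r⁻¹ = y
            group
      · intro h y
        constructor
        · intro hy
          rw [← h]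
          exact ⟨y, hy, rfl⟩
        · intro hy
          rw [← h] at hy
          obtain ⟨w, hw, hwy⟩ := hy
          have : w = y := by
            have h2 : r * w * r⁻¹ = r * y * r⁻¹ := hwy
            exact mul_left_cancel (mul_right_cancel h2)
          rwa [← this]
    rw [h1] at ih ⊢
    change (⁅der H k, der H k⁆).map _ = ⁅der H k, der H k⁆
    rw [map_commutator, ih]

/-- **The kit of a configuration.** -/
theorem exists_kit [Finite G] {P N0 : Subgroup G} {z s : G} {ψ : ↥(normalizer (P : Set G)) →* Equiv.Perm (Fin 6)}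
    (C : CB P N0 z s ψ) : ∃ (A E : Subgroup G) (x r : G) (φ : ↥A →* Equiv.Perm (Fin 6)), Kit N0 A E z s x r φ := by
  have hzN : z ∈ N0 := C.PN C.zP
  have hz : ∀ {g : G}, (∀ n ∈ N0, g * n = n * g ∨ g * n = z * (n * g)) → g * z = z * g := by
    intro g hg
    rcases hg z hzN with h | h
    · exact h
    · exfalso
      have h1 : g * z = g := by
        rw [h, ← mul_assoc, C.z_sq, one_mul]
      exact C.z_ne (by simpa using h1)
  have hzz : z⁻¹ = z := by rw [inv_eq_iff_mul_eq_one]; exact C.z_sq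
  -- the group `A`
  let A : Subgroup G :=
    { carrier := {g | ∀ n ∈ N0, g * n = n * g ∨ g * n = z * (n * g)}
      one_mem' := fun n _ => Or.inl (by rw [one_mul, mul_one])
      mul_mem' := by
        intro a b ha hb n hn
        have h3 := hz ha
        rcases ha n hn with h1 | h1 <;> rcases hb n hn with h2 | h2
        · left
          rw [mul_assoc, h2, ← mul_assoc, h1, mul_assoc]
        · right
          rw [mul_assoc, h2, ← mul_assoc, h3, mul_assoc, ← mul_assoc a n b, h1, mul_assoc]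
        · right
          rw [mul_assoc, h2, ← mul_assoc, h1, mul_assoc, mul_assoc]
        · left
          rw [mul_assoc, h2, ← mul_assoc, h3, mul_assoc, ← mul_assoc a n b, h1, mul_assoc, ← mul_assoc z z, C.z_sq,
            one_mul, mul_assoc]
      inv_mem' := by
        intro a ha n hn
        have h3 := hz ha
        have h4 : a⁻¹ * z = z * a⁻¹ := by
          rw [inv_mul_eq_iff_eq_mul, ← mul_assoc, h3, mul_inv_cancel_right]
        rcases ha n hn with h1 | h1
        · left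
          rw [inv_mul_eq_iff_eq_mul, ← mul_assoc, h1, mul_inv_cancel_right]
        · right
          rw [inv_mul_eq_iff_eq_mul, ← mul_assoc, h3, mul_assoc, ← mul_assoc a n, h1]
          rw [← mul_assoc z, ← mul_assoc z, C.z_sq, one_mul, mul_inv_cancel_right] }
  have hmemA : ∀ g, g ∈ A ↔ ∀ n ∈ N0, g * n = n * g ∨ g * n = z * (n * g) := fun g => Iff.rfl
  have hAP : A ≤ normalizer (P : Set G) := fun g hg => C.key hg
  let φ : ↥A →* Equiv.Perm (Fin 6) := ψ.comp (inclusion hAP)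
  have hφ : ∀ g (hg : g ∈ A), φ ⟨g, hg⟩ = ψ ⟨g, hAP hg⟩ := fun g hg => rfl
  have hcomm : ∀ {g : G}, (∀ n ∈ N0, g * n = n * g) → g ∈ A := fun h n hn => Or.inl (h n hn)
  have hNA : N0 ≤ A := fun n hn m hm => C.comm n hn m hm
  -- elements of `A` normalise `N0`
  have hAN : ∀ g ∈ A, g ∈ normalizer (N0 : Set G) := by
    have h1 : ∀ g ∈ A, ∀ n ∈ N0, g * n * g⁻¹ ∈ N0 := by
      intro g hg n hn
      rcases hg n hn with h | h
      · rw [h, mul_inv_cancel_right]; exact hn
      · rw [h, mul_assoc, mul_inv_cancel_right]; exact mul_mem hzN hn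
    intro g hg
    rw [mem_normalizer_iff]
    intro n
    refine ⟨h1 g hg n, fun h => ?_⟩
    have h2 := h1 g⁻¹ (inv_mem hg) _ h
    have : g⁻¹ * (g * n * g⁻¹) * g⁻¹⁻¹ = n := by group
    rwa [this] at h2
  -- the centraliser of `N0`
  let D : Subgroup G := centralizer (N0 : Set G)
  have hD : ∀ g, g ∈ D ↔ ∀ n ∈ N0, g * n = n * g := by
    intro g
    rw [mem_centralizer_iff]
    exact ⟨fun h n hn => (h n hn).symm, fun h n hn => (h n hn).symm⟩
  have hDA : D ≤ A := fun g hg => hcomm ((hD g).1 hg)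
  obtain ⟨k, hk⟩ := der_stable D
  have himg : ∀ k, alternatingGroup (Fin 6) ≤ ((der D k).subgroupOf A).map φ := by
    intro k
    induction k with
    | zero =>
      intro π hπ
      obtain ⟨h, hh, hψ⟩ := C.even π (mem_alternatingGroup.1 hπ)
      have h1 : (h : G) ∈ A := hcomm hh
      exact ⟨⟨h, h1⟩, mem_subgroupOf.2 ((hD _).2 hh), hψ⟩
    | succ k ih =>
      have h1 : ⁅(der D k).subgroupOf A, (der D k).subgroupOf A⁆ ≤ (der D (k + 1)).subgroupOf A := by
        rw [commutator_le]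
        intro a ha b hb
        rw [mem_subgroupOf] at ha hb ⊢
        exact commutator_mem_commutator ha hb
      refine le_trans ?_ (map_mono h1)
      rw [map_commutator]
      refine le_trans ?_ (commutator_mono ih ih)
      exact (commutator_alternatingGroup_eq_self (by simp)).ge
  -- the element `r`
  obtain ⟨r, hrN, hψr⟩ := C.frat d4
  have hrD : (r : G) ∈ normalizer (D : Set G) := by
    rw [mem_normalizer_iff] at hrN ⊢
    intro y
    constructor
    · intro hy
      rw [hD] at hy ⊢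
      intro n hn
      have h1 : (r : G)⁻¹ * n * r ∈ N0 := by
        rw [hrN]
        have : (r : G) * ((r : G)⁻¹ * n * r) * (r : G)⁻¹ = n := by group
        rw [this]; exact hn
      have h2 := hy _ h1
      calc (r : G) * y * (r : G)⁻¹ * n = r * (y * ((r : G)⁻¹ * n * r)) * (r : G)⁻¹ := by group
        _ = r * (((r : G)⁻¹ * n * r) * y) * (r : G)⁻¹ := by rw [h2]
        _ = _ := by group
    · intro hy
      rw [hD] at hy ⊢
      intro n hn
      have h1 := hy _ ((hrN n).1 hn)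
      have h2 : (r : G) * (y * n) * (r : G)⁻¹ = r * (n * y) * (r : G)⁻¹ := by
        calc (r : G) * (y * n) * (r : G)⁻¹ = (r * y * (r : G)⁻¹) * (r * n * (r : G)⁻¹) := by group
          _ = (r * n * (r : G)⁻¹) * (r * y * (r : G)⁻¹) := h1
          _ = _ := by group
      exact mul_left_cancel (mul_right_cancel h2)
  -- the order of `s`
  have hs4 : s ^ 4 = 1 := by
    rw [show 4 = 2 * 2 by norm_num, pow_mul, pow_two s, C.s_sq, pow_two, C.z_sq]
  have hsinv : s⁻¹ = s ^ 3 := by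
    rw [inv_eq_iff_mul_eq_one, ← pow_succ', hs4]
  have hrs : (r : G) * s = s⁻¹ * r := by
    have h1 : (r : G) * s * (r : G)⁻¹ ∈ N0 := ((mem_normalizer_iff.1 hrN) s).1 C.sN
    have h2 : ∀ m ∈ N0, (r : G) * s * (r : G)⁻¹ * m = m * ((r : G) * s * (r : G)⁻¹) := by
      intro m hm
      have h3 : (r : G)⁻¹ * m * r ∈ N0 := by
        rw [(mem_normalizer_iff.1 hrN)]
        have : (r : G) * ((r : G)⁻¹ * m * r) * (r : G)⁻¹ = m := by group
        rw [this]; exact hm
      have h4 := C.s_cen _ h3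
      calc (r : G) * s * (r : G)⁻¹ * m = r * (s * ((r : G)⁻¹ * m * r)) * (r : G)⁻¹ := by group
        _ = r * (((r : G)⁻¹ * m * r) * s) * (r : G)⁻¹ := by rw [h4]
        _ = _ := by group
    have h3 := C.cen _ h1 h2
    obtain ⟨i, hi⟩ := mem_powers_iff_mem_zpowers.2 h3
    have hi' : s ^ i = (r : G) * s * (r : G)⁻¹ := hi
    have h5 : ∀ j : ℕ, (s ^ j) = s ^ (j % 4) := by
      intro j
      conv_lhs => rw [← Nat.div_add_mod j 4, pow_add, pow_mul, hs4, one_pow, one_mul]
    have hsq : (r : G) * s * (r : G)⁻¹ * ((r : G) * s * (r : G)⁻¹) ≠ 1 := by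
      intro h
      apply C.z_ne
      rw [← C.s_sq]
      have : (r : G) * s * (r : G)⁻¹ * ((r : G) * s * (r : G)⁻¹) = r * (s * s) * (r : G)⁻¹ := by group
      rw [this] at h
      have h6 : (r : G) * (s * s) = r := mul_inv_eq_one.1 h
      simpa using h6
    have h7 : i % 4 < 4 := Nat.mod_lt _ (by norm_num)
    rw [h5] at hi'
    interval_cases hm : i % 4
    · exfalso; apply hsq; rw [← hi', pow_zero, one_mul]
    · exfalso
      have h8 : (r : G) * s = s * r := by
        rw [pow_one] at hi'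
        rw [← inv_mul_cancel_right ((r : G) * s) r]
        nth_rewrite 1 [← hi']
        rfl
      have h9 := (C.inv_s r hrN).2 h8
      rw [hψr, sign_d4] at h9
      exact absurd h9 (by decide)
    · exfalso; apply hsq; rw [← hi', ← pow_add]; exact hs4
    · rw [hsinv, hi']; group
  -- the element `x`
  obtain ⟨e, he, hφe⟩ := himg k (mem_alternatingGroup.2 sign_c5)
  have heE : (e : G) ∈ der D k := mem_subgroupOf.1 he
  obtain ⟨a, m, hm, hem⟩ := Nat.exists_eq_pow_mul_and_not_dvd (orderOf_pos (e : G)).ne' 5 (by norm_num)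
  have hcop : Nat.Coprime 5 m := (Nat.Prime.coprime_iff_not_dvd (by norm_num)).2 hm
  obtain ⟨u, hu1, hu2⟩ := Nat.chineseRemainder hcop 1 0
  have hx5 : ((e : G) ^ u) ^ 5 ^ a = 1 := by
    rw [← pow_mul]
    obtain ⟨w, hw⟩ := (Nat.modEq_zero_iff_dvd).1 hu2
    rw [hw, show m * w * 5 ^ a = (5 ^ a * m) * w by ring, ← hem, pow_mul, pow_orderOf_eq_one, one_pow]
  have hφx : φ (e ^ u) = c5 := by
    rw [map_pow, hφe]
    have h1 : c5 ^ 5 = 1 := c5_pow
    have h2 : u % 5 = 1 := hu1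
    rw [← Nat.div_add_mod u 5, pow_add, pow_mul, h1, one_pow, one_mul, h2, pow_one]
  refine ⟨A, der D k, (e : G) ^ u, (r : G), φ, ?_⟩
  exact
  { mem_A := hmemA
    N_two := C.N_two
    card := C.card
    sN := C.sN
    s_sq := C.s_sq
    z_sq := C.z_sq
    z_ne := C.z_ne
    s_cen := C.s_cen
    sq := C.sq
    comm := C.comm
    cen := C.cen
    N_ker := fun n h hn => C.psi_N n hn
    ker_card := by
      obtain ⟨m0, hm0, hc⟩ := C.ker_card
      have h1 : Nat.card φ.ker ∣ 64 * m0 := by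
        rw [← hc]
        have h2 : Nat.card φ.ker = Nat.card (φ.ker.map (inclusion hAP)) :=
          Nat.card_congr (φ.ker.equivMapOfInjective _ (inclusion_injective hAP)).toEquiv
        rw [h2]
        refine Subgroup.card_dvd_of_le ?_
        rintro _ ⟨y, hy, rfl⟩
        exact hy
      have h2 : 64 ∣ Nat.card φ.ker := by
        rw [← C.card, ← Nat.card_congr (subgroupOfEquivOfLe hNA).toEquiv]
        refine Subgroup.card_dvd_of_le ?_
        intro y hy
        exact C.psi_N _ (mem_subgroupOf.1 hy)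
      obtain ⟨m1, hm1⟩ := h2
      refine ⟨m1, ?_, hm1⟩
      rw [hm1] at h1
      exact hm0.of_dvd_nat (Nat.dvd_of_mul_dvd_mul_left (by norm_num) h1)
    ker_solv := by
      have := C.ker_solv
      have h3 : ∀ y : φ.ker, inclusion hAP y ∈ ψ.ker := fun y => y.2
      refine Group.isSolvable_of_isSolvable_injective
        (f := ((inclusion hAP).comp φ.ker.subtype).codRestrict ψ.ker h3) ?_
      intro y y' hyy
      have h4 := congrArg (fun w : ψ.ker => ((w : ↥(normalizer (P : Set G))) : G)) hyy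
      exact Subtype.ext (Subtype.ext h4)
    even := fun g => C.inv_s ⟨g, hAP g.2⟩ (hAN _ g.2)
    E_perf := hk
    E_comm := fun e he => (hD e).1 (der_le D k he)
    E_img := by
      intro π hπ
      obtain ⟨y, hy, hyπ⟩ := himg k (mem_alternatingGroup.2 hπ)
      exact ⟨y, mem_subgroupOf.1 hy, fun h => hyπ⟩
    xE := pow_mem heE u
    x_five := ⟨a, hx5⟩
    psi_x := fun h => hφx
    rN := hrN
    rE := der_normalizer hrD k
    r_s := hrs
    psi_r := by
      intro h
      have h1 : ((e : G) ^ u) ∈ normalizer (P : Set G) := pow_mem (hAP e.2) u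
      have h2 : (⟨(r : G) * (e : G) ^ u * (r : G)⁻¹, hAP h⟩ : ↥(normalizer (P : Set G))) =
          r * ⟨(e : G) ^ u, h1⟩ * r⁻¹ := rfl
      have h3 : ψ ⟨(e : G) ^ u, h1⟩ = c5 := hφx
      rw [hφ, h2, map_mul, map_mul, map_inv, hψr, h3, d4_conj] }

end Cfsg.Agent.H415.C3
end

-- part: H415/C3/LKit
section
set_option linter.all false

/-!
# S1920, case B: the lifted kit (helper415)

`V` over `K`, `Gh ≤ GL(V)`, `π : Gh → G` onto with kernel the scalars of `Gh`.
`LKit …` : the kit lifted to `Gh` (obtained from a `Kit` by `exists_lkit`, `H415/C3/Lift.lean`).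
* `LKit.T1` : `g ∈ Gh` commuting with `Eh`, `[g, n] ∈ K^* ⟨zh⟩` for `n ∈ Nh` ⇒ `[g, sh]` is a scalar;
* `LKit.T3` : `ρ₁ ρ₂ : Eh → Gh`, `e = ρ₁ e * ρ₂ e`, commuting images, commuting with `Nh`: `ρ₁` or `ρ₂` is trivial;
* `LKit.T4E` : a 2-element of `Gh` commuting with `Nh` and `Eh` is a scalar times a power of `sh`;
* `LKit.T5`, `LKit.T6`, `LKit.T7` are in `H415/C3/LKitTwo.lean`.
-/

set_option autoImplicit false

open Subgroup

namespace Cfsg.Agent.H415.C3

variable {G : Type*} [Group G] {K : Type*} [Field K] {V : Type*} [AddCommGroup V] [Module K V]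

/-- `g` is a scalar -/
def IsSc (g : V ≃ₗ[K] V) : Prop := ∃ c : K, ∀ v, g v = c • v

/-- **A linear lift** of `G`. -/
structure Lin (Gh : Subgroup (V ≃ₗ[K] V)) (π : ↥Gh →* G) : Prop where
  surj : Function.Surjective π
  ker : ∀ g : ↥Gh, π g = 1 ↔ IsSc (g : V ≃ₗ[K] V)

/-- **The lifted kit.** -/
structure LKit (Gh : Subgroup (V ≃ₗ[K] V)) (π : ↥Gh →* G) (N0 A E : Subgroup G) (z s x r : G)
    (Nh Eh : Subgroup (V ≃ₗ[K] V)) (zh sh xh rh : V ≃ₗ[K] V) : Prop where
  mem_Nh : ∀ g, g ∈ Nh ↔ ∃ h : g ∈ Gh, π ⟨g, h⟩ ∈ N0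
  Eh_le : Eh ≤ Gh
  Eh_perf : ⁅Eh, Eh⁆ = Eh
  Eh_mem : ∀ g ∈ Eh, ∀ h : g ∈ Gh, π ⟨g, h⟩ ∈ E
  Eh_surj : ∀ e ∈ E, ∃ g ∈ Eh, ∀ h : g ∈ Gh, π ⟨g, h⟩ = e
  Eh_comm : ∀ e ∈ Eh, ∀ n ∈ Nh, e * n = n * e
  zN : zh ∈ Nh
  sN : sh ∈ Nh
  pi_z : ∀ h : zh ∈ Gh, π ⟨zh, h⟩ = z
  pi_s : ∀ h : sh ∈ Gh, π ⟨sh, h⟩ = s
  z_sq : zh * zh = 1
  z_ne : ¬ IsSc zh
  z_comm : ∀ n ∈ Nh, zh * n = n * zh
  /-- commutators are `±1` or `±zh` -/
  comm : ∀ n ∈ Nh, ∀ m ∈ Nh, ∃ c : K, (c = 1 ∨ c = -1) ∧
    ((∀ v, (n * m) v = c • (m * n) v) ∨ (∀ v, (n * m) v = c • (zh * m * n) v))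
  /-- squares are scalars or scalars times `zh` -/
  sq : ∀ n ∈ Nh, ∃ c : K, c ≠ 0 ∧ ((∀ v, (n * n) v = c • v) ∨ (∀ v, (n * n) v = c • zh v))
  /-- the square of `sh` -/
  s_sq : ∃ c : K, c ≠ 0 ∧ ∀ v, (sh * sh) v = c • zh v
  /-- `sh` commutes with `Nh` up to sign -/
  s_comm : ∀ n ∈ Nh, (∀ v, (n * sh) v = (sh * n) v) ∨ (∀ v, (n * sh) v = - (sh * n) v)
  xE : xh ∈ Eh
  pi_x : ∀ h : xh ∈ Gh, π ⟨xh, h⟩ = x
  x_five : ∃ k, xh ^ 5 ^ k = 1
  rG : rh ∈ Gh
  pi_r : ∀ h : rh ∈ Gh, π ⟨rh, h⟩ = r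
  rN : rh ∈ normalizer (Nh : Set (V ≃ₗ[K] V))
  rE : rh ∈ normalizer (Eh : Set (V ≃ₗ[K] V))
  /-- `rh` inverts `sh` up to a scalar -/
  r_s : ∃ c : K, c ≠ 0 ∧ ∀ v, (rh * sh) v = c • (sh⁻¹ * rh) v

end Cfsg.Agent.H415.C3
end

-- part: H415/C3/Lift
section
prune_inst 0x4253044004162020000000012000020440000010200400000484005420d084660000220003c300514120088844038002003100000420000000a000000011c01a08028420293680d04160099000084000000000000000000000000000000000000000000000
set_option linter.all false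
open scoped Cfsg.Agent.FastGrp

/-!
# S1920, case B: the lifted kit exists (helper415)
-/

set_option autoImplicit false

open Subgroup
open scoped commutatorElement

namespace Cfsg.Agent.H415.C3

section Grp

variable {X : Type*} [Group X]

/-- elements commuting with `n` up to central elements: their commutators commute with `n` -/
theorem comm_of_central {a b n c d : X} (hc : ∀ h, c * h = h * c) (hd : ∀ h, d * h = h * d) (ha : a * n = c * (n * a))
    (hb : b * n = d * (n * b)) : ⁅a, b⁆ * n = n * ⁅a, b⁆ := by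
  have ha' : a⁻¹ * n = c⁻¹ * (n * a⁻¹) := by
    have h1 : n * a = c⁻¹ * (a * n) := by rw [ha, inv_mul_cancel_left]
    have hci : c⁻¹ * a⁻¹ = a⁻¹ * c⁻¹ := by
      rw [← mul_inv_rev, ← mul_inv_rev, hc]
    rw [inv_mul_eq_iff_eq_mul, ← mul_assoc, ← mul_assoc, (show a * c⁻¹ = c⁻¹ * a by
      rw [eq_inv_mul_iff_mul_eq, ← mul_assoc, hc, mul_inv_cancel_right]), mul_assoc c⁻¹ a n, ha, inv_mul_cancel_left,
      mul_inv_cancel_right]
  have hb' : b⁻¹ * n = d⁻¹ * (n * b⁻¹) := by
    rw [inv_mul_eq_iff_eq_mul, ← mul_assoc, ← mul_assoc, (show b * d⁻¹ = d⁻¹ * b by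
      rw [eq_inv_mul_iff_mul_eq, ← mul_assoc, hd, mul_inv_cancel_right]), mul_assoc d⁻¹ b n, hb, inv_mul_cancel_left,
      mul_inv_cancel_right]
  have hci : ∀ h, c⁻¹ * h = h * c⁻¹ := fun h => by
    rw [inv_mul_eq_iff_eq_mul, ← mul_assoc, hc, mul_inv_cancel_right]
  have hdi : ∀ h, d⁻¹ * h = h * d⁻¹ := fun h => by
    rw [inv_mul_eq_iff_eq_mul, ← mul_assoc, hd, mul_inv_cancel_right]
  calc ⁅a, b⁆ * n = a * b * a⁻¹ * (b⁻¹ * n) := by rw [commutatorElement_def]; group
    _ = a * b * a⁻¹ * (d⁻¹ * (n * b⁻¹)) := by rw [hb']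
    _ = d⁻¹ * (a * b * (a⁻¹ * n) * b⁻¹) := by rw [← mul_assoc _ d⁻¹, ← hdi]; group
    _ = d⁻¹ * (a * b * (c⁻¹ * (n * a⁻¹)) * b⁻¹) := by rw [ha']
    _ = d⁻¹ * (c⁻¹ * (a * (b * n) * a⁻¹ * b⁻¹)) := by rw [← mul_assoc (a * b) c⁻¹, ← hci]; group
    _ = d⁻¹ * (c⁻¹ * (a * (d * (n * b)) * a⁻¹ * b⁻¹)) := by rw [hb]
    _ = d⁻¹ * (c⁻¹ * (d * ((a * n) * b * a⁻¹ * b⁻¹))) := by rw [← mul_assoc a d, ← hd a]; group
    _ = d⁻¹ * (c⁻¹ * (d * ((c * (n * a)) * b * a⁻¹ * b⁻¹))) := by rw [ha]
    _ = d⁻¹ * (c⁻¹ * (d * c * (n * ⁅a, b⁆))) := by rw [commutatorElement_def]; group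
    _ = d⁻¹ * (c⁻¹ * (c * d * (n * ⁅a, b⁆))) := by rw [hc d]
    _ = n * ⁅a, b⁆ := by group

end Grp

variable {G : Type*} [Group G] {K : Type*} [Field K] {V : Type*} [AddCommGroup V] [Module K V]

theorem IsSc.central {g : V ≃ₗ[K] V} (hg : IsSc g) (h : V ≃ₗ[K] V) : g * h = h * g := by
  obtain ⟨c, hc⟩ := hg
  ext v
  change g (h v) = h (g v)
  rw [hc, hc, map_smul]

theorem IsSc.mul {g h : V ≃ₗ[K] V} (hg : IsSc g) (hh : IsSc h) : IsSc (g * h) := by
  obtain ⟨c, hc⟩ := hg
  obtain ⟨d, hd⟩ := hh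
  refine ⟨c * d, fun v => ?_⟩
  change g (h v) = _
  rw [hd, hc, smul_smul]

/-- a nonzero factor -/
theorem exists_ne_of_smul {g h : V ≃ₗ[K] V} {c : K} (hc : ∀ v, g v = c • h v) : ∃ d : K, d ≠ 0 ∧ ∀ v, g v = d • h v := by
  by_cases h0 : c = 0
  · refine ⟨1, one_ne_zero, fun v => ?_⟩
    have h1 : ∀ w, g w = 0 := fun w => by rw [hc, h0, zero_smul]
    have h2 : ∀ w : V, w = 0 := fun w => g.injective (by rw [h1 w, map_zero])
    rw [h2 (g v), h2 ((1 : K) • h v)]
  · exact ⟨c, h0, hc⟩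

/-- `g h⁻¹` is a scalar -/
theorem smul_of_isSc {g h : V ≃ₗ[K] V} (hs : IsSc (g * h⁻¹)) : ∃ c : K, c ≠ 0 ∧ ∀ v, g v = c • h v := by
  obtain ⟨c, hc⟩ := hs
  refine exists_ne_of_smul (c := c) fun v => ?_
  have h1 := hc (h v)
  have h2 : (g * h⁻¹) (h v) = g v := by
    change g (h.symm (h v)) = g v
    rw [LinearEquiv.symm_apply_apply]
  rwa [h2] at h1

theorem isSc_of_smul {g h : V ≃ₗ[K] V} {c : K} (hc : ∀ v, g v = c • h v) : IsSc (g * h⁻¹) := by
  refine ⟨c, fun v => ?_⟩
  change g (h.symm v) = c • v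
  rw [hc, LinearEquiv.apply_symm_apply]

theorem Lin.eq_iff {Gh : Subgroup (V ≃ₗ[K] V)} {π : ↥Gh →* G} (L : Lin Gh π) (g h : ↥Gh) :
    π g = π h ↔ IsSc ((g : V ≃ₗ[K] V) * (h : V ≃ₗ[K] V)⁻¹) := by
  rw [← mul_inv_eq_one, ← map_inv, ← map_mul, L.ker]
  rfl

private theorem Lin.comm_sc {Gh : Subgroup (V ≃ₗ[K] V)} {π : ↥Gh →* G} (L : Lin Gh π) {a b : V ≃ₗ[K] V} (ha : a ∈ Gh)
    (hb : b ∈ Gh) (h : π (⟨a, ha⟩ * ⟨b, hb⟩) = π (⟨b, hb⟩ * ⟨a, ha⟩)) : IsSc (a * b * (b * a)⁻¹) := by
  have h1 := (L.eq_iff _ _).1 h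
  rw [Subgroup.coe_mul, Subgroup.coe_mul] at h1
  exact h1

theorem Lin.smul_of_eq {Gh : Subgroup (V ≃ₗ[K] V)} {π : ↥Gh →* G} (L : Lin Gh π) {g h : ↥Gh} (hgh : π g = π h) :
    ∃ c : K, c ≠ 0 ∧ ∀ v, (g : V ≃ₗ[K] V) v = c • (h : V ≃ₗ[K] V) v := smul_of_isSc ((L.eq_iff g h).1 hgh)

theorem Lin.eq_of_smul {Gh : Subgroup (V ≃ₗ[K] V)} {π : ↥Gh →* G} (L : Lin Gh π) {g h : ↥Gh} {c : K}
    (hc : ∀ v, (g : V ≃ₗ[K] V) v = c • (h : V ≃ₗ[K] V) v) : π g = π h := (L.eq_iff g h).2 (isSc_of_smul hc)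

/-- `a`, `b` in `N0` with commutator `z` -/
theorem Kit.exists_ab [Finite G] {N0 A E : Subgroup G} {z s x r : G} {ψ : ↥A →* Equiv.Perm (Fin 6)}
    (K : Kit N0 A E z s x r ψ) : ∃ a ∈ N0, ∃ b ∈ N0, a * b = z * (b * a) := by
  by_contra hcon
  push Not at hcon
  have h1 : N0 ≤ zpowers s := by
    intro n hn
    refine K.cen n hn fun m hm => ?_
    rcases K.comm n hn m hm with h | h
    · exact h
    · exact absurd h (hcon n hn m hm)
  have h2 := Subgroup.card_dvd_of_le h1
  rw [K.card, Nat.card_zpowers] at h2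
  have h3 : orderOf s ∣ 4 := orderOf_dvd_of_pow_eq_one K.s_four
  have h4 := h2.trans h3
  exact absurd (Nat.le_of_dvd (by norm_num) h4) (by norm_num)

/-- **The lifted kit exists.** -/
theorem exists_lkit [Finite G] {Gh : Subgroup (V ≃ₗ[K] V)} [Finite ↥Gh] {π : ↥Gh →* G} (L : Lin Gh π) (h2 : (2 : K) ≠ 0)
    {N0 A E : Subgroup G} {z s x r : G} {ψ : ↥A →* Equiv.Perm (Fin 6)} (T : Kit N0 A E z s x r ψ) :
    ∃ (Nh Eh : Subgroup (V ≃ₗ[K] V)) (zh sh xh rh : V ≃ₗ[K] V), LKit Gh π N0 A E z s x r Nh Eh zh sh xh rh := by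
  have hne : (-1 : K) ≠ 1 := by
    intro h
    apply h2
    have : (1 : K) + 1 = 0 := by
      nth_rewrite 1 [← h]; ring
    rw [← this]; norm_num
  -- `V` is nontrivial
  have hV : ∃ v : V, v ≠ 0 := by
    by_contra hcon
    push Not at hcon
    obtain ⟨g, hg⟩ := L.surj z
    have : π g = 1 := (L.ker g).2 ⟨1, fun v => by rw [hcon ((g : V ≃ₗ[K] V) v), hcon ((1 : K) • v)]⟩
    exact T.z_ne (hg ▸ this)
  let Nh : Subgroup (V ≃ₗ[K] V) := (N0.comap π).map Gh.subtype
  have memN : ∀ g, g ∈ Nh ↔ ∃ h : g ∈ Gh, π ⟨g, h⟩ ∈ N0 := by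
    intro g
    constructor
    · rintro ⟨w, hw, rfl⟩
      exact ⟨w.2, hw⟩
    · rintro ⟨h, hw⟩
      exact ⟨⟨g, h⟩, hw, rfl⟩
  let E1 : Subgroup (V ≃ₗ[K] V) := (E.comap π).map Gh.subtype
  have memE : ∀ g, g ∈ E1 ↔ ∃ h : g ∈ Gh, π ⟨g, h⟩ ∈ E := by
    intro g
    constructor
    · rintro ⟨w, hw, rfl⟩
      exact ⟨w.2, hw⟩
    · rintro ⟨h, hw⟩
      exact ⟨⟨g, h⟩, hw, rfl⟩
  have hE1 : E1 ≤ Gh := fun g hg => ((memE g).1 hg).1
  have : Finite E1 := Finite.of_injective _ (inclusion_injective hE1)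
  -- stable term of the derived series
  obtain ⟨k, hk⟩ : ∃ k, ⁅der E1 k, der E1 k⁆ = der E1 k := by
    by_contra hcon
    push Not at hcon
    have h1 : ∀ k, Nat.card (der E1 k) + k ≤ Nat.card E1 := by
      intro k
      induction k with
      | zero => exact le_rfl
      | succ k ih =>
        have : Finite (der E1 k) := Finite.of_injective _ (inclusion_injective (der_le E1 k))
        have h2 : der E1 (k + 1) < der E1 k := lt_of_le_of_ne (der_succ_le E1 k) (hcon k)
        have h3 : Nat.card (der E1 (k + 1)) < Nat.card (der E1 k) := by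
          refine lt_of_le_of_ne (Subgroup.card_le_of_le h2.le) fun h => h2.ne ?_
          exact Subgroup.eq_of_le_of_card_ge h2.le h.ge
        omega
    have h4 := h1 (Nat.card E1 + 1)
    omega
  have hsurj : ∀ k, ∀ e ∈ E, ∃ g ∈ der E1 k, ∀ h : g ∈ Gh, π ⟨g, h⟩ = e := by
    intro k
    induction k with
    | zero =>
      intro e he
      obtain ⟨g, hg⟩ := L.surj e
      exact ⟨g, (memE _).2 ⟨g.2, by rw [← hg] at he; exact he⟩, fun h => hg⟩
    | succ k ih =>
      have h1 : E ≤ ((der E1 (k + 1)).subgroupOf Gh).map π := by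
        have h3 : ⁅(der E1 k).subgroupOf Gh, (der E1 k).subgroupOf Gh⁆ ≤ (der E1 (k + 1)).subgroupOf Gh := by
          rw [commutator_le]
          intro a ha b hb
          rw [mem_subgroupOf] at ha hb ⊢
          exact commutator_mem_commutator ha hb
        have h4 : E ≤ ((der E1 k).subgroupOf Gh).map π := by
          intro e he
          obtain ⟨g, hg, hg'⟩ := ih e he
          have h5 : g ∈ Gh := hE1 (der_le E1 k hg)
          exact ⟨⟨g, h5⟩, mem_subgroupOf.2 hg, hg' h5⟩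
        refine le_trans ?_ (map_mono h3)
        rw [map_commutator]
        conv_lhs => rw [← T.E_perf]
        exact commutator_mono h4 h4
      intro e he
      obtain ⟨g, hg, hg'⟩ := h1 he
      exact ⟨g, mem_subgroupOf.1 hg, fun h => hg'⟩
  have hEle : der E1 k ≤ Gh := (der_le E1 k).trans hE1
  -- `Eh` commutes with `Nh`
  have hEN : ∀ e ∈ der E1 k, ∀ n ∈ Nh, e * n = n * e := by
    intro e he n hn
    obtain ⟨hnG, hn0⟩ := (memN n).1 hn
    have hle : der E1 k ≤ centralizer {n} := by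
      rw [← hk, commutator_le]
      intro a ha b hb
      have key : ∀ a ∈ der E1 k, ∃ c : V ≃ₗ[K] V, (∀ h, c * h = h * c) ∧ a * n = c * (n * a) := by
        intro a ha
        have haG := hEle ha
        have h1 : π ⟨a, haG⟩ ∈ E := ((memE a).1 (der_le E1 k ha)).2
        have h3 : IsSc (a * n * (n * a)⁻¹) := by
          refine L.comm_sc haG hnG ?_
          rw [map_mul, map_mul]
          exact T.E_comm _ h1 _ hn0
        exact ⟨_, h3.central, by rw [inv_mul_cancel_right]⟩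
      obtain ⟨c, hc, hc'⟩ := key a ha
      obtain ⟨d, hd, hd'⟩ := key b hb
      rw [mem_centralizer_singleton_iff]
      exact comm_of_central hc hd hc' hd'
    exact mem_centralizer_singleton_iff.1 (hle he)
  -- `zh`
  obtain ⟨a, ha, b, hb, hab⟩ := T.exists_ab
  obtain ⟨a', ha'⟩ := L.surj a
  obtain ⟨b', hb'⟩ := L.surj b
  obtain ⟨zz, hzz⟩ : ∃ zz : ↥Gh, zz = a' * b' * a'⁻¹ * b'⁻¹ := ⟨_, rfl⟩
  have hπz : π zz = z := by
    rw [hzz, map_mul, map_mul, map_mul, map_inv, map_inv, ha', hb', hab]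
    group
  obtain ⟨s', hs'⟩ := L.surj s
  -- squares
  have hsq : ∀ n ∈ Nh, IsSc (n * n) ∨ IsSc (n * n * (zz : V ≃ₗ[K] V)⁻¹) := by
    intro n hn
    obtain ⟨hnG, hn0⟩ := (memN n).1 hn
    rcases T.sq _ hn0 with h | h
    · left
      exact (L.ker (@HMul.hMul _ _ _ instHMul ⟨n, hnG⟩ ⟨n, hnG⟩)).1 (by rw [map_mul]; exact h)
    · right
      exact (L.eq_iff (@HMul.hMul _ _ _ instHMul ⟨n, hnG⟩ ⟨n, hnG⟩) zz).1 (by rw [map_mul, hπz]; exact h)
  have hz_cen : ∀ n ∈ N0, z * n = n * z := by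
    intro n hn
    rw [← T.s_sq, mul_assoc, ← T.s_cen n hn, ← mul_assoc, ← T.s_cen n hn, mul_assoc]
  -- `z` commutes with `n` up to `±1`
  have hzn : ∀ n ∈ Nh, ∃ c : K, (∀ v, ((zz : V ≃ₗ[K] V) * n) v = c • (n * (zz : V ≃ₗ[K] V)) v) ∧ (c = 1 ∨ c = -1) := by
    intro n hn
    obtain ⟨hnG, hn0⟩ := (memN n).1 hn
    obtain ⟨c, hc0, hc⟩ := L.smul_of_eq (g := (zz * ⟨n, hnG⟩ :)) (h := (⟨n, hnG⟩ * zz :)) (by
      rw [map_mul, map_mul, hπz]
      exact hz_cen _ hn0)
    refine ⟨c, hc, ?_⟩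
    obtain ⟨d, hd0, hd⟩ := L.smul_of_eq (g := zz * zz) (h := 1) (by
      rw [map_mul, hπz, T.z_sq, map_one])
    have hc' : ∀ v, (zz : V ≃ₗ[K] V) (n v) = c • n ((zz : V ≃ₗ[K] V) v) := hc
    have hd' : ∀ v, (zz : V ≃ₗ[K] V) ((zz : V ≃ₗ[K] V) v) = d • v := hd
    obtain ⟨v, hv⟩ := hV
    have h3 : d • n v = (c * c * d) • n v := by
      calc d • n v = (zz : V ≃ₗ[K] V) ((zz : V ≃ₗ[K] V) (n v)) := (hd' _).symm
        _ = c • c • n ((zz : V ≃ₗ[K] V) ((zz : V ≃ₗ[K] V) v)) := by
          rw [hc', map_smul, hc']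
        _ = _ := by rw [hd', map_smul, smul_smul, smul_smul]
    have h4 : n v ≠ 0 := fun h => hv (n.injective (by rw [h, map_zero]))
    have h5 : d = c * c * d := smul_left_injective K h4 h3
    have h6 : c * c = 1 := by
      have : (c * c - 1) * d = 0 := by linear_combination -h5
      rcases mul_eq_zero.1 this with h | h
      · linear_combination h
      · exact absurd h hd0
    exact mul_self_eq_one_iff.1 h6
  have hz_comm : ∀ n ∈ Nh, (zz : V ≃ₗ[K] V) * n = n * (zz : V ≃ₗ[K] V) := by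
    -- if `n² = c zh` then `n` commutes with `zh`
    have key : ∀ n ∈ Nh, IsSc (n * n * (zz : V ≃ₗ[K] V)⁻¹) → (zz : V ≃ₗ[K] V) * n = n * (zz : V ≃ₗ[K] V) := by
      intro n hn h
      have h3 := h.central n
      have h4 : n * n = (n * n * (zz : V ≃ₗ[K] V)⁻¹) * zz := by group
      have h5 : (n * n * (zz : V ≃ₗ[K] V)⁻¹) * (zz * n) = (n * n * (zz : V ≃ₗ[K] V)⁻¹) * (n * zz) := by
        calc (n * n * (zz : V ≃ₗ[K] V)⁻¹) * (zz * n) = n * (n * n) := by group
          _ = n * ((n * n * (zz : V ≃ₗ[K] V)⁻¹) * zz) := by rw [← h4]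
          _ = (n * (n * n * (zz : V ≃ₗ[K] V)⁻¹)) * zz := by group
          _ = ((n * n * (zz : V ≃ₗ[K] V)⁻¹) * n) * zz := by rw [h3]
          _ = _ := by group
      exact mul_left_cancel h5
    intro n hn
    obtain ⟨c, hc, hc1⟩ := hzn n hn
    rcases hc1 with rfl | rfl
    · ext v
      rw [hc, one_smul]
    · exfalso
      -- `n² = 1` in `G` for every such `n`
      have key2 : ∀ n (hn : n ∈ Nh), (∀ v, ((zz : V ≃ₗ[K] V) * n) v = (-1 : K) • (n * (zz : V ≃ₗ[K] V)) v) →
          ∃ h : n ∈ Gh, π ⟨n, h⟩ * π ⟨n, h⟩ = 1 := by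
        intro n hn hc
        obtain ⟨hnG, hn0⟩ := (memN n).1 hn
        refine ⟨hnG, ?_⟩
        rcases hsq n hn with h | h
        · exact ((map_mul π _ _).symm.trans ((L.ker (@HMul.hMul _ _ _ instHMul ⟨n, hnG⟩ ⟨n, hnG⟩)).2 h))
        · exfalso
          have h3 := key n hn h
          obtain ⟨v, hv⟩ := hV
          have h4 := hc v
          rw [h3] at h4
          have h5 : (n * (zz : V ≃ₗ[K] V)) v ≠ 0 := fun h => hv ((n * (zz : V ≃ₗ[K] V)).injective (by rw [h, map_zero]))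
          have h6 : ((1 : K)) • (n * (zz : V ≃ₗ[K] V)) v = (-1 : K) • (n * (zz : V ≃ₗ[K] V)) v := by
            rw [one_smul]; exact h4
          exact hne (smul_left_injective K h5 h6).symm
      obtain ⟨hnG, hn1⟩ := key2 n hn hc
      have hn0 := ((memN n).1 hn).2
      have hsN : (s' : V ≃ₗ[K] V) ∈ Nh := (memN _).2 ⟨s'.2, by
        have : π s' ∈ N0 := hs' ▸ T.sN
        exact this⟩
      have hzs : (zz : V ≃ₗ[K] V) * s' = s' * (zz : V ≃ₗ[K] V) := by
        refine key _ hsN ?_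
        refine (L.eq_iff (s' * s') zz).1 ?_
        rw [map_mul, hs', hπz, T.s_sq]
      have hc2 : ∀ v, ((zz : V ≃ₗ[K] V) * ((s' : V ≃ₗ[K] V) * n)) v =
          (-1 : K) • (((s' : V ≃ₗ[K] V) * n) * (zz : V ≃ₗ[K] V)) v := by
        intro v
        rw [← mul_assoc, hzs, mul_assoc, mul_assoc]
        change (s' : V ≃ₗ[K] V) (((zz : V ≃ₗ[K] V) * n) v) = (-1 : K) • (s' : V ≃ₗ[K] V) ((n * (zz : V ≃ₗ[K] V)) v)
        rw [hc, map_smul]
      obtain ⟨hG2, hn2⟩ := key2 _ (mul_mem hsN hn) hc2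
      have h6 : π ⟨(s' : V ≃ₗ[K] V) * n, hG2⟩ = s * π ⟨n, hnG⟩ := by
        rw [← hs', ← map_mul]
        rfl
      rw [h6] at hn2
      have h7 : s * π ⟨n, hnG⟩ * (s * π ⟨n, hnG⟩) = s * s * (π ⟨n, hnG⟩ * π ⟨n, hnG⟩) := by
        have := T.s_cen _ hn0
        calc s * π ⟨n, hnG⟩ * (s * π ⟨n, hnG⟩) = s * (π ⟨n, hnG⟩ * s) * π ⟨n, hnG⟩ := by group
          _ = s * (s * π ⟨n, hnG⟩) * π ⟨n, hnG⟩ := by rw [this]
          _ = _ := by group
      rw [h7, hn1, mul_one, T.s_sq] at hn2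
      exact T.z_ne hn2
  have haN : (a' : V ≃ₗ[K] V) ∈ Nh := (memN _).2 ⟨a'.2, by
    have : π a' ∈ N0 := ha' ▸ ha
    exact this⟩
  have hbN : (b' : V ≃ₗ[K] V) ∈ Nh := (memN _).2 ⟨b'.2, by
    have : π b' ∈ N0 := hb' ▸ hb
    exact this⟩
  have hsN : (s' : V ≃ₗ[K] V) ∈ Nh := (memN _).2 ⟨s'.2, by
    have : π s' ∈ N0 := hs' ▸ T.sN
    exact this⟩
  have hzN : (zz : V ≃ₗ[K] V) ∈ Nh := by
    rw [hzz]
    exact mul_mem (mul_mem (mul_mem haN hbN) (inv_mem haN)) (inv_mem hbN)
  -- squares commute with `Nh`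
  have hsqc : ∀ n ∈ Nh, ∀ m ∈ Nh, (n * n) * m = m * (n * n) := by
    intro n hn m hm
    rcases hsq n hn with h | h
    · exact h.central m
    · have h4 : n * n = (n * n * (zz : V ≃ₗ[K] V)⁻¹) * zz := by group
      rw [h4]
      generalize n * n * (zz : V ≃ₗ[K] V)⁻¹ = c at h
      rw [mul_assoc, hz_comm m hm, ← mul_assoc, h.central m, mul_assoc]
  have hz_sq : (zz : V ≃ₗ[K] V) * zz = 1 := by
    have h3 : (a' : V ≃ₗ[K] V) * b' = zz * (b' * a') := by
      rw [hzz]
      change (a' : V ≃ₗ[K] V) * b' = ((a' : V ≃ₗ[K] V) * (b' : V ≃ₗ[K] V) * (a' : V ≃ₗ[K] V)⁻¹ * (b' : V ≃ₗ[K] V)⁻¹) *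
        ((b' : V ≃ₗ[K] V) * (a' : V ≃ₗ[K] V))
      group
    have h4 := hsqc _ haN _ hbN
    have h5 : (a' : V ≃ₗ[K] V) * a' * b' = zz * zz * (b' * (a' * a')) := by
      calc (a' : V ≃ₗ[K] V) * a' * b' = a' * (a' * b') := by group
        _ = a' * (zz * (b' * a')) := by rw [h3]
        _ = (a' * zz) * (b' * a') := by group
        _ = (zz * a') * (b' * a') := by rw [hz_comm _ haN]
        _ = zz * (a' * b') * a' := by group
        _ = zz * (zz * (b' * a')) * a' := by rw [h3]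
        _ = _ := by group
    rw [h4] at h5
    have h6 : (1 : V ≃ₗ[K] V) * (b' * (a' * a')) = zz * zz * (b' * (a' * a')) := by rw [one_mul]; exact h5
    exact (mul_right_cancel h6).symm
  -- commutators
  have hcm : ∀ n ∈ Nh, ∀ m ∈ Nh, (n * m * (m * n)⁻¹) * (n * m * (m * n)⁻¹) = 1 ∧
      (IsSc (n * m * (m * n)⁻¹) ∨ IsSc (n * m * (m * n)⁻¹ * (zz : V ≃ₗ[K] V)⁻¹)) := by
    intro n hn m hm
    obtain ⟨hnG, hn0⟩ := (memN n).1 hn
    obtain ⟨hmG, hm0⟩ := (memN m).1 hm
    have hor : IsSc (n * m * (m * n)⁻¹) ∨ IsSc (n * m * (m * n)⁻¹ * (zz : V ≃ₗ[K] V)⁻¹) := by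
      rcases T.comm _ hn0 _ hm0 with h | h
      · left
        refine L.comm_sc hnG hmG ?_
        rw [map_mul, map_mul]; exact h
      · right
        have h3 := (L.eq_iff (@HMul.hMul _ _ _ instHMul ⟨n, hnG⟩ ⟨m, hmG⟩) (zz * (⟨m, hmG⟩ * ⟨n, hnG⟩) :)).1 (by
          rw [map_mul, map_mul, map_mul, hπz]; exact h)
        have h4 : n * m * (m * n)⁻¹ * (zz : V ≃ₗ[K] V)⁻¹ = n * m * (zz * (m * n))⁻¹ := by group
        rw [Subgroup.coe_mul, Subgroup.coe_mul, Subgroup.coe_mul] at h3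
        rw [h4]
        exact h3
    refine ⟨?_, hor⟩
    -- the commutator commutes with `Nh`
    have hkc : ∀ y ∈ Nh, (n * m * (m * n)⁻¹) * y = y * (n * m * (m * n)⁻¹) := by
      intro y hy
      rcases hor with h | h
      · exact h.central y
      · have h4 : n * m * (m * n)⁻¹ = (n * m * (m * n)⁻¹ * (zz : V ≃ₗ[K] V)⁻¹) * zz := by group
        rw [h4]
        generalize n * m * (m * n)⁻¹ * (zz : V ≃ₗ[K] V)⁻¹ = c at h
        rw [mul_assoc, hz_comm y hy, ← mul_assoc, h.central y, mul_assoc]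
    generalize hkdef : n * m * (m * n)⁻¹ = k' at hkc
    have h3 : n * m = k' * (m * n) := by rw [← hkdef]; group
    have h5 : n * n * m = k' * k' * (m * (n * n)) := by
      calc n * n * m = n * (n * m) := by group
        _ = n * (k' * (m * n)) := by rw [h3]
        _ = (n * k') * (m * n) := by group
        _ = (k' * n) * (m * n) := by rw [hkc n hn]
        _ = k' * (n * m) * n := by group
        _ = k' * (k' * (m * n)) * n := by rw [h3]
        _ = _ := by group
    rw [hsqc n hn m hm] at h5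
    have h6 : (1 : V ≃ₗ[K] V) * (m * (n * n)) = k' * k' * (m * (n * n)) := by rw [one_mul]; exact h5
    exact (mul_right_cancel h6).symm
  have hk_pm : ∀ k' : V ≃ₗ[K] V, k' * k' = 1 → (∀ y ∈ Nh, k' * y = y * k') →
      (IsSc k' ∨ IsSc (k' * (zz : V ≃ₗ[K] V)⁻¹)) →
      ∃ c : K, (c = 1 ∨ c = -1) ∧ ((∀ v, k' v = c • v) ∨ (∀ v, k' v = c • (zz : V ≃ₗ[K] V) v)) := by
    intro k' hk1 hk2 hk3
    obtain ⟨v0, hv0⟩ := hV
    rcases hk3 with ⟨c, hc⟩ | h
    · refine ⟨c, ?_, Or.inl hc⟩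
      have h3 : (k' * k') v0 = (c * c) • v0 := by
        change k' (k' v0) = _
        rw [hc, hc, smul_smul]
      rw [hk1] at h3
      have h4 : (1 : K) • v0 = (c * c) • v0 := by rw [one_smul]; exact h3
      exact mul_self_eq_one_iff.1 (smul_left_injective K hv0 h4).symm
    · obtain ⟨c, hc0, hc⟩ := smul_of_isSc h
      refine ⟨c, ?_, Or.inr hc⟩
      have h3 : (k' * k') v0 = (c * c) • v0 := by
        change k' (k' v0) = _
        rw [hc (k' v0), hc v0, map_smul, smul_smul]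
        change (c * c) • (((zz : V ≃ₗ[K] V) * zz) v0) = _
        rw [hz_sq]
        rfl
      rw [hk1] at h3
      have h4 : (1 : K) • v0 = (c * c) • v0 := by rw [one_smul]; exact h3
      exact mul_self_eq_one_iff.1 (smul_left_injective K hv0 h4).symm
  have hkc : ∀ n ∈ Nh, ∀ m ∈ Nh, ∀ y ∈ Nh, (n * m * (m * n)⁻¹) * y = y * (n * m * (m * n)⁻¹) := by
    intro n hn m hm y hy
    rcases (hcm n hn m hm).2 with h | h
    · exact h.central y
    · have h4 : n * m * (m * n)⁻¹ = (n * m * (m * n)⁻¹ * (zz : V ≃ₗ[K] V)⁻¹) * zz := by group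
      rw [h4]
      generalize n * m * (m * n)⁻¹ * (zz : V ≃ₗ[K] V)⁻¹ = c at h
      rw [mul_assoc, hz_comm y hy, ← mul_assoc, h.central y, mul_assoc]
  -- `xh`
  obtain ⟨e, he, hπe⟩ := hsurj k x T.xE
  have heG : e ∈ Gh := hEle he
  obtain ⟨k5, hk5⟩ := T.x_five
  have hfin : 0 < orderOf (⟨e, heG⟩ : ↥Gh) := orderOf_pos _
  obtain ⟨t, m, hm, hem⟩ := Nat.exists_eq_pow_mul_and_not_dvd hfin.ne' 5 (by norm_num)
  have hcop : Nat.Coprime (5 ^ k5) m := Nat.Coprime.pow_left k5 ((Nat.Prime.coprime_iff_not_dvd (by norm_num)).2 hm)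
  obtain ⟨u, hu1, hu2⟩ := Nat.chineseRemainder hcop 1 0
  have hx5 : (e ^ u) ^ 5 ^ t = 1 := by
    have h3 : (⟨e, heG⟩ : ↥Gh) ^ (u * 5 ^ t) = 1 := by
      obtain ⟨w, hw⟩ := (Nat.modEq_zero_iff_dvd).1 hu2
      rw [hw, show m * w * 5 ^ t = (5 ^ t * m) * w by ring, ← hem, pow_mul, pow_orderOf_eq_one, one_pow]
    rw [← pow_mul]
    exact congrArg Subtype.val h3
  have hπx : ∀ h : e ^ u ∈ Gh, π ⟨e ^ u, h⟩ = x := by
    intro h
    have h3 : (⟨e ^ u, h⟩ : ↥Gh) = ⟨e, heG⟩ ^ u := rfl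
    rw [h3, map_pow, hπe heG]
    have h4 : orderOf x ∣ 5 ^ k5 := orderOf_dvd_of_pow_eq_one hk5
    have h5 : x ^ u = x ^ 1 := pow_eq_pow_iff_modEq.2 (hu1.of_dvd h4)
    rw [h5, pow_one]
  obtain ⟨r', hr'⟩ := L.surj r
  have hrG := r'.2
  -- normalisers
  have hconjN : ∀ (Y : Subgroup G), r ∈ normalizer (Y : Set G) → ∀ W : Subgroup (V ≃ₗ[K] V),
      (∀ g, g ∈ W ↔ ∃ h : g ∈ Gh, π ⟨g, h⟩ ∈ Y) → (r' : V ≃ₗ[K] V) ∈ normalizer (W : Set (V ≃ₗ[K] V)) := by
    intro Y hY W hW
    rw [mem_normalizer_iff] at hY ⊢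
    intro g
    rw [hW, hW]
    constructor
    · rintro ⟨h, hg⟩
      refine ⟨mul_mem (mul_mem r'.2 h) (inv_mem r'.2), ?_⟩
      have h3 : (⟨(r' : V ≃ₗ[K] V) * g * (r' : V ≃ₗ[K] V)⁻¹, mul_mem (mul_mem r'.2 h) (inv_mem r'.2)⟩ : ↥Gh) =
        r' * ⟨g, h⟩ * r'⁻¹ := rfl
      rw [h3, map_mul, map_mul, map_inv, hr']
      exact (hY _).1 hg
    · rintro ⟨h, hg⟩
      have h4 : g ∈ Gh := by
        have := mul_mem (mul_mem (inv_mem r'.2) h) r'.2
        have h5 : (r' : V ≃ₗ[K] V)⁻¹ * ((r' : V ≃ₗ[K] V) * g * (r' : V ≃ₗ[K] V)⁻¹) * r' = g := by group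
        rwa [h5] at this
      refine ⟨h4, ?_⟩
      have h3 : (⟨(r' : V ≃ₗ[K] V) * g * (r' : V ≃ₗ[K] V)⁻¹, h⟩ : ↥Gh) = r' * ⟨g, h4⟩ * r'⁻¹ := rfl
      rw [h3, map_mul, map_mul, map_inv, hr'] at hg
      exact (hY _).2 hg
  refine ⟨Nh, der E1 k, zz, s', e ^ u, r', ?_⟩
  exact
  { mem_Nh := memN
    Eh_le := hEle
    Eh_perf := hk
    Eh_mem := fun g hg h => ((memE g).1 (der_le E1 k hg)).2
    Eh_surj := hsurj k
    Eh_comm := hEN
    zN := hzN
    sN := hsN
    pi_z := fun h => hπz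
    pi_s := fun h => hs'
    z_sq := hz_sq
    z_ne := fun h => T.z_ne (hπz ▸ (L.ker zz).2 h)
    z_comm := hz_comm
    comm := by
      intro n hn m hm
      obtain ⟨h1, h3⟩ := hcm n hn m hm
      obtain ⟨c, hc1, hc2⟩ := hk_pm _ h1 (hkc n hn m hm) h3
      refine ⟨c, hc1, ?_⟩
      have h4 : n * m = (n * m * (m * n)⁻¹) * (m * n) := by group
      generalize n * m * (m * n)⁻¹ = k' at hc2 h4
      rcases hc2 with h | h
      · left
        intro v
        rw [h4]
        exact h _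
      · right
        intro v
        rw [h4]
        exact h _
    sq := by
      intro n hn
      rcases hsq n hn with ⟨c, hc⟩ | h
      · obtain ⟨d, hd0, hd⟩ := exists_ne_of_smul (g := n * n) (h := 1) (c := c) hc
        exact ⟨d, hd0, Or.inl hd⟩
      · obtain ⟨c, hc0, hc⟩ := smul_of_isSc h
        exact ⟨c, hc0, Or.inr hc⟩
    s_sq := L.smul_of_eq (g := s' * s') (h := zz) (by rw [map_mul, hs', hπz, T.s_sq])
    s_comm := by
      intro n hn
      obtain ⟨hnG, hn0⟩ := (memN n).1 hn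
      have h3 : IsSc (n * (s' : V ≃ₗ[K] V) * ((s' : V ≃ₗ[K] V) * n)⁻¹) := by
        refine L.comm_sc hnG s'.2 ?_
        rw [map_mul, map_mul, Subtype.coe_eta, hs']
        exact T.s_cen _ hn0
      have h4 : n * (s' : V ≃ₗ[K] V) = (n * (s' : V ≃ₗ[K] V) * ((s' : V ≃ₗ[K] V) * n)⁻¹) * ((s' : V ≃ₗ[K] V) * n) := by group
      obtain ⟨h1, -⟩ := hcm n hn _ hsN
      generalize n * (s' : V ≃ₗ[K] V) * ((s' : V ≃ₗ[K] V) * n)⁻¹ = k' at h1 h3 h4
      obtain ⟨c, hc⟩ := h3
      obtain ⟨v0, hv0⟩ := hV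
      have h5 : (k' * k') v0 = (c * c) • v0 := by
        change k' (k' v0) = _
        rw [hc, hc, smul_smul]
      rw [h1] at h5
      have h6 : (1 : K) • v0 = (c * c) • v0 := by rw [one_smul]; exact h5
      rcases mul_self_eq_one_iff.1 (smul_left_injective K hv0 h6).symm with rfl | rfl
      · left
        intro v
        rw [h4]
        exact (hc _).trans (one_smul _ _)
      · right
        intro v
        rw [h4]
        exact (hc _).trans (neg_one_smul _ _)
    xE := pow_mem he u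
    pi_x := hπx
    x_five := ⟨t, hx5⟩
    rG := r'.2
    pi_r := fun h => hr'
    rN := hconjN N0 T.rN Nh memN
    rE := der_normalizer (hconjN E T.rE E1 memE) k
    r_s := L.smul_of_eq (g := r' * s') (h := s'⁻¹ * r') (by rw [map_mul, map_mul, map_inv, hs', hr', T.r_s]) }

end Cfsg.Agent.H415.C3
end

-- part: H415/C3/KitTwo
section
set_option linter.all false
open scoped Cfsg.Agent.FastGrp

/-!
# S1920, case B: the kit, 2-groups and homomorphisms (helper415)

* `no_abelian8` : `A₆` has no abelian subgroup of order 8;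
* `Kit.T5` : `C_G(N0)` has no subgroup `⟨a⟩ × ⟨b⟩ ≅ Z₄ × Z₂` meeting `⟨s⟩` trivially;
* `Kit.T6` : a homomorphism `f : C_G(N0) → {±1}` with `f s = 1` is trivial;
* `exists_kit` : the configuration `CB` gives a kit.
-/

set_option autoImplicit false

open Subgroup Equiv.Perm
open scoped commutatorElement Pointwise

namespace Cfsg.Agent.H415.C3

/-- `(0 1 2 3)(4 5)` -/
def da : Equiv.Perm (Fin 6) := Equiv.swap 0 1 * Equiv.swap 1 2 * Equiv.swap 2 3 * Equiv.swap 4 5

/-- `(0 2)(4 5)` -/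
def db : Equiv.Perm (Fin 6) := Equiv.swap 0 2 * Equiv.swap 4 5

theorem da_db : db * da * db⁻¹ = da⁻¹ := by decide

theorem da_four : da ^ 4 = 1 := by decide

theorem db_two : db ^ 2 = 1 := by decide

theorem da_db_ne : da * db ≠ db * da := by decide

theorem sign_da : Equiv.Perm.sign da = 1 := by decide

theorem sign_db : Equiv.Perm.sign db = 1 := by decide

theorem card_A6 : Nat.card (alternatingGroup (Fin 6)) = 360 := by
  rw [nat_card_alternatingGroup]
  simp [Nat.factorial]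

theorem no_abelian8 (W : Subgroup (alternatingGroup (Fin 6))) (hW : ∀ a ∈ W, ∀ b ∈ W, a * b = b * a) :
    Nat.card W ≠ 8 := by
  intro hc
  have h2 : Fact (Nat.Prime 2) := ⟨Nat.prime_two⟩
  have hfac : 2 ^ (Nat.card (alternatingGroup (Fin 6))).factorization 2 = 8 := by
    rw [card_A6, show (360 : ℕ) = 2 ^ 3 * 45 by norm_num, Nat.factorization_mul (by norm_num) (by norm_num),
      Nat.Prime.factorization_pow Nat.prime_two]
    have : (45 : ℕ).factorization 2 = 0 := Nat.factorization_eq_zero_of_not_dvd (by norm_num)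
    simp [this]
  let P : Sylow 2 (alternatingGroup (Fin 6)) := Sylow.ofCard W (by rw [hfac, hc])
  -- every Sylow subgroup is abelian
  have hall : ∀ Q : Sylow 2 (alternatingGroup (Fin 6)), ∀ a ∈ Q, ∀ b ∈ Q, a * b = b * a := by
    intro Q a ha b hb
    obtain ⟨g, hg⟩ := MulAction.exists_smul_eq (alternatingGroup (Fin 6)) P Q
    rw [← hg] at ha hb
    have key : ∀ y ∈ g • P, g⁻¹ * y * g ∈ W := by
      intro y hy
      have h1 : y ∈ MulAut.conj g • (P : Subgroup (alternatingGroup (Fin 6))) := by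
        rw [← Sylow.coe_subgroup_smul]; exact hy
      have h2 := Subgroup.mem_pointwise_smul_iff_inv_smul_mem.1 h1
      rw [← map_inv, MulAut.smul_def, MulAut.conj_apply, inv_inv] at h2
      exact h2
    have ha' := key a ha
    have hb' := key b hb
    have h3 := hW _ ha' _ hb'
    have h4 : g⁻¹ * (a * b) * g = g⁻¹ * (b * a) * g := by
      calc g⁻¹ * (a * b) * g = (g⁻¹ * a * g) * (g⁻¹ * b * g) := by group
        _ = (g⁻¹ * b * g) * (g⁻¹ * a * g) := h3
        _ = _ := by group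
    exact mul_left_cancel (mul_right_cancel h4)
  let a : alternatingGroup (Fin 6) := ⟨da, mem_alternatingGroup.2 sign_da⟩
  let b : alternatingGroup (Fin 6) := ⟨db, mem_alternatingGroup.2 sign_db⟩
  have hab : b * a * b⁻¹ = a⁻¹ := Subtype.ext da_db
  have hn : zpowers b ≤ normalizer (zpowers a : Set (alternatingGroup (Fin 6))) := by
    rw [zpowers_le, mem_normalizer_iff]
    intro h
    have hconj : ∀ y ∈ zpowers a, b * y * b⁻¹ ∈ zpowers a := by
      rintro _ ⟨k, rfl⟩
      refine ⟨-k, ?_⟩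
      change a ^ (-k) = b * a ^ k * b⁻¹
      rw [← conj_zpow, hab, inv_zpow, zpow_neg]
    refine ⟨hconj h, fun hh => ?_⟩
    have h5 := hconj _ hh
    have hb2 : b * b = 1 := by
      rw [← pow_two]; exact Subtype.ext db_two
    have hbi : b⁻¹ = b := by rw [inv_eq_iff_mul_eq_one]; exact hb2
    rw [hbi] at h5
    have : b * (b * h * b) * b = h := by
      calc b * (b * h * b) * b = (b * b) * h * (b * b) := by group
        _ = h := by rw [hb2, one_mul, mul_one]
    rwa [this] at h5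
  have ha2 : IsPGroup 2 (zpowers a) := by
    intro y
    refine ⟨2, Subtype.ext ?_⟩
    obtain ⟨k, hk⟩ := y.2
    have h4 : a ^ 4 = 1 := Subtype.ext da_four
    change ((y : alternatingGroup (Fin 6)) ^ 2 ^ 2) = 1
    rw [← hk]
    change (a ^ k) ^ 2 ^ 2 = 1
    rw [← zpow_natCast, ← zpow_mul, mul_comm, zpow_mul]
    norm_num
    rw [h4, one_zpow]
  have hb2 : IsPGroup 2 (zpowers b) := by
    intro y
    refine ⟨1, Subtype.ext ?_⟩
    obtain ⟨k, hk⟩ := y.2
    have h4 : b ^ 2 = 1 := Subtype.ext db_two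
    change ((y : alternatingGroup (Fin 6)) ^ 2 ^ 1) = 1
    rw [← hk]
    change (b ^ k) ^ 2 ^ 1 = 1
    rw [← zpow_natCast, ← zpow_mul, mul_comm, zpow_mul]
    norm_num
    rw [h4, one_zpow]
  obtain ⟨Q, hQ⟩ := (IsPGroup.to_sup_of_normal_left' ha2 hb2 hn).exists_le_sylow
  have h6 := hall Q a (hQ (le_sup_left (a := zpowers a) (mem_zpowers a))) b
    (hQ (le_sup_right (b := zpowers b) (mem_zpowers b)))
  exact da_db_ne (congrArg Subtype.val h6)

variable {G : Type*} [Group G]

namespace Kit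

variable {N0 A E : Subgroup G} {z s x r : G} {ψ : ↥A →* Equiv.Perm (Fin 6)}

/-- **T5** : no `Z₄ × Z₂` in `C_G(N0)` meeting `⟨s⟩` trivially. -/
theorem T5 [Finite G] (K : Kit N0 A E z s x r ψ) {a b : G} (ha : ∀ n ∈ N0, a * n = n * a) (hb : ∀ n ∈ N0, b * n = n * b)
    (hab : a * b = b * a) (ha4 : a ^ 4 = 1) (hb2 : b ^ 2 = 1)
    (h : ∀ i j : ℕ, a ^ i * b ^ j ∈ zpowers s → 4 ∣ i ∧ 2 ∣ j) : False := by
  have hmem : ∀ i j : ℕ, ∀ n ∈ N0, a ^ i * b ^ j * n = n * (a ^ i * b ^ j) := by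
    intro i j n hn
    have h1 : Commute a n := ha n hn
    have h2 : Commute b n := hb n hn
    exact ((h1.pow_left i).mul_left (h2.pow_left j)).eq
  have hpow : ∀ i j : ℕ, (a ^ i * b ^ j) ^ 2 ^ 2 = 1 := by
    intro i j
    have h1 : Commute (a ^ i) (b ^ j) := (show Commute a b from hab).pow_pow i j
    rw [h1.mul_pow, ← pow_mul, ← pow_mul, show i * 2 ^ 2 = 4 * i by ring, show j * 2 ^ 2 = 2 * (2 * j) by ring,
      pow_mul, pow_mul, ha4, hb2, one_pow, one_pow, mul_one]
  let u : ↥A := ⟨a, K.comm_mem ha⟩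
  let v : ↥A := ⟨b, K.comm_mem hb⟩
  have huv : u * v = v * u := Subtype.ext hab
  have hker : ∀ i j : ℕ, ψ u ^ i * ψ v ^ j = 1 → 4 ∣ i ∧ 2 ∣ j := by
    intro i j hij
    apply h i j
    refine K.T4 (hmem i j) (hpow i j) ?_
    rw [← map_pow, ← map_pow, ← map_mul] at hij
    exact hij
  have hsu : Equiv.Perm.sign (ψ u) = 1 := K.even_of_comm ha u.2
  have hsv : Equiv.Perm.sign (ψ v) = 1 := K.even_of_comm hb v.2
  let σ : alternatingGroup (Fin 6) := ⟨ψ u, mem_alternatingGroup.2 hsu⟩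
  let τ : alternatingGroup (Fin 6) := ⟨ψ v, mem_alternatingGroup.2 hsv⟩
  have hστ : Commute σ τ := Subtype.ext (by
    change ψ u * ψ v = ψ v * ψ u
    rw [← map_mul, ← map_mul, huv])
  have hk : ∀ i j : ℕ, σ ^ i * τ ^ j = 1 → 4 ∣ i ∧ 2 ∣ j := by
    intro i j hij
    exact hker i j (congrArg Subtype.val hij)
  have hσ4 : σ ^ 4 = 1 := Subtype.ext (by
    change ψ u ^ 4 = 1
    rw [← map_pow, ← map_one ψ]
    exact congrArg ψ (Subtype.ext ha4))
  have hτ2 : τ ^ 2 = 1 := Subtype.ext (by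
    change ψ v ^ 2 = 1
    rw [← map_pow, ← map_one ψ]
    exact congrArg ψ (Subtype.ext hb2))
  have hoσ : orderOf σ = 4 := by
    refine Nat.dvd_antisymm (orderOf_dvd_of_pow_eq_one hσ4) ?_
    exact (hk _ 0 (by rw [pow_orderOf_eq_one, pow_zero, mul_one])).1
  have hoτ : orderOf τ = 2 := by
    refine Nat.dvd_antisymm (orderOf_dvd_of_pow_eq_one hτ2) ?_
    exact (hk 0 _ (by rw [pow_orderOf_eq_one, pow_zero, mul_one])).2
  let f := (zpowers σ).subtype.noncommCoprod (zpowers τ).subtype (by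
    rintro ⟨_, ⟨i, rfl⟩⟩ ⟨_, ⟨j, rfl⟩⟩
    exact (hστ.zpow_zpow i j))
  have hf : Function.Injective f := by
    rw [MonoidHom.noncommCoprod_injective]
    refine ⟨(zpowers σ).subtype_injective, (zpowers τ).subtype_injective, ?_⟩
    rw [Subgroup.range_subtype, Subgroup.range_subtype, disjoint_iff, eq_bot_iff]
    rintro y ⟨h1, h2⟩
    have h1' : y ∈ Submonoid.powers σ := mem_powers_iff_mem_zpowers.2 h1
    obtain ⟨i, rfl⟩ := h1'
    have h2' := (mem_powers_iff_mem_zpowers).2 h2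
    obtain ⟨j, hj⟩ := h2'
    have hj' : τ ^ j = σ ^ i := hj
    -- `τ ^ j = σ ^ i`
    have h3 : σ ^ (3 * i) * τ ^ j = 1 := by
      rw [hj', ← pow_add, show 3 * i + i = 4 * i by ring, pow_mul, hσ4, one_pow]
    obtain ⟨h4, h5⟩ := hk _ _ h3
    obtain ⟨k, rfl⟩ := h5
    rw [pow_mul, hτ2, one_pow] at hj'
    rw [Subgroup.mem_bot]
    exact hj'.symm
  have hcard : Nat.card f.range = 8 := by
    rw [Nat.card_congr (MonoidHom.ofInjective hf).toEquiv.symm, Nat.card_prod, Nat.card_zpowers, Nat.card_zpowers,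
      hoσ, hoτ]
  refine no_abelian8 f.range ?_ hcard
  rintro _ ⟨⟨⟨_, ⟨i, rfl⟩⟩, ⟨_, ⟨j, rfl⟩⟩⟩, rfl⟩ _ ⟨⟨⟨_, ⟨i', rfl⟩⟩, ⟨_, ⟨j', rfl⟩⟩⟩, rfl⟩
  have hc : ∀ p q : ↥(zpowers σ) × ↥(zpowers τ), p * q = q * p := by
    rintro ⟨⟨_, ⟨i, rfl⟩⟩, ⟨_, ⟨j, rfl⟩⟩⟩ ⟨⟨_, ⟨i', rfl⟩⟩, ⟨_, ⟨j', rfl⟩⟩⟩
    refine Prod.ext (Subtype.ext ?_) (Subtype.ext ?_)
    · exact ((Commute.refl σ).zpow_zpow i i').eq
    · exact ((Commute.refl τ).zpow_zpow j j').eq
  rw [← map_mul, ← map_mul, hc]

/-- **T6** : a homomorphism `C_G(N0) → {±1}` with `f s = 1` is trivial. -/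
theorem T6 [Finite G] (K : Kit N0 A E z s x r ψ) (f : ↥(centralizer (N0 : Set G)) →* ℤˣ)
    (hfs : ∀ h : s ∈ centralizer (N0 : Set G), f ⟨s, h⟩ = 1) (g : ↥(centralizer (N0 : Set G))) : f g = 1 := by
  have hcen : ∀ y : G, y ∈ centralizer (N0 : Set G) ↔ ∀ n ∈ N0, y * n = n * y := by
    intro y
    rw [mem_centralizer_iff]
    exact ⟨fun h n hn => (h n hn).symm, fun h n hn => (h n hn).symm⟩
  have hEC : E ≤ centralizer (N0 : Set G) := fun e he => (hcen e).2 (K.E_comm e he)
  have hsC : s ∈ centralizer (N0 : Set G) := (hcen s).2 fun n hn => (K.s_cen n hn).symm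
  -- `f` is trivial on `E`
  have hfE : ∀ e (he : e ∈ E), f ⟨e, hEC he⟩ = 1 := by
    have hle : E ≤ (f.ker).map (centralizer (N0 : Set G)).subtype := by
      conv_lhs => rw [← K.E_perf]
      rw [commutator_le]
      intro u hu v hv
      refine ⟨⁅(⟨u, hEC hu⟩ : ↥(centralizer (N0 : Set G))), (⟨v, hEC hv⟩ : ↥(centralizer (N0 : Set G)))⁆, ?_, rfl⟩
      rw [SetLike.mem_coe, MonoidHom.mem_ker, map_commutatorElement, commutatorElement_eq_one_iff_mul_comm]
      exact mul_comm _ _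
    intro e he
    obtain ⟨w, hw, hwe⟩ := hle he
    have : w = ⟨e, hEC he⟩ := Subtype.ext hwe
    rw [← this]
    exact hw
  have hgc := (hcen (g : G)).1 g.2
  obtain ⟨e, he, heψ⟩ := K.E_img (ψ ⟨g, K.comm_mem hgc⟩) (K.even_of_comm hgc _)
  -- `k = e⁻¹ g` lies in the kernel
  let k : ↥(centralizer (N0 : Set G)) := (⟨e, hEC he⟩ : ↥(centralizer (N0 : Set G)))⁻¹ * g
  have hkc := (hcen (k : G)).1 k.2
  have hk1 : ψ ⟨k, K.comm_mem hkc⟩ = 1 := by
    have h1 : (⟨k, K.comm_mem hkc⟩ : ↥A) = (⟨e, K.E_A he⟩ : ↥A)⁻¹ * ⟨g, K.comm_mem hgc⟩ := rfl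
    rw [h1, map_mul, map_inv, heψ (K.E_A he), inv_mul_cancel]
  have hfk : f k = 1 := by
    -- the order of `k` is `2 ^ t * m`
    obtain ⟨t, m, hm, hkm⟩ := Nat.exists_eq_two_pow_mul_odd (orderOf_pos k).ne'
    have h2 : (k : G) ^ m ∈ zpowers s := by
      have hc : ∀ n ∈ N0, (k : G) ^ m * n = n * (k : G) ^ m := fun n hn =>
        ((show Commute (k : G) n from hkc n hn).pow_left m).eq
      refine K.T4 (k := t) hc ?_ ?_
      · rw [← pow_mul, mul_comm m, ← hkm, ← Subgroup.coe_pow, pow_orderOf_eq_one]; rfl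
      · have h3 : (⟨(k : G) ^ m, K.comm_mem hc⟩ : ↥A) = (⟨k, K.comm_mem hkc⟩ : ↥A) ^ m := rfl
        rw [h3, map_pow, hk1, one_pow]
    have h3 : f k ^ m = 1 := by
      rw [← map_pow]
      obtain ⟨i, hi⟩ := h2
      have h4 : k ^ m = (⟨s, hsC⟩ : ↥(centralizer (N0 : Set G))) ^ i := Subtype.ext (by
        change (k : G) ^ m = s ^ i
        exact hi.symm)
      rw [h4, map_zpow, hfs hsC, one_zpow]
    rcases Int.units_eq_one_or (f k) with h4 | h4
    · exact h4
    · rw [h4, hm.neg_one_pow] at h3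
      exact absurd h3 (by decide)
  have hg : g = (⟨e, hEC he⟩ : ↥(centralizer (N0 : Set G))) * k := by
    change g = _ * (_⁻¹ * g)
    rw [mul_inv_cancel_left]
  rw [hg, map_mul, hfE e he, hfk, mul_one]

end Kit

end Cfsg.Agent.H415.C3
end

-- part: H314/Co3/Dim8
section
prune_inst 0x40530000001620200000005922100000400000100004300000800040004000662000226003c0004041208080400300000021000800000000000000400411c018000a800022100010022009e000804000000000000000000000000000000000004000000000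
set_option linter.all false
open scoped Cfsg.Agent.FastGrp

-- part: H314/Co3/Def
section
/-!
# S1920, case A: the configuration (helper314)

`H` is the 2-local subgroup; `N0 = 4 ∘ 2^{1+4}` (order 64) covers `N`; `ψ : H → S₆` has kernel `N0 · O(H)`; case A: `S₆`
acts faithfully on `N0 / ⟨s⟩`; then `|G|₂ = 2 ^ 10`.
-/

set_option autoImplicit false

open Subgroup

namespace Cfsg.Agent.H314.Co3

variable {G : Type*} [Group G]

/-- **The configuration of case A.** -/
structure CA (H N0 : Subgroup G) (z s : G) (ψ : ↥H →* Equiv.Perm (Fin 6)) : Prop where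
  NH : N0 ≤ H
  N_two : IsPGroup 2 N0
  card : Nat.card N0 = 64
  sN : s ∈ N0
  s_sq : s * s = z
  z_sq : z * z = 1
  z_ne : z ≠ 1
  s_cen : ∀ n ∈ N0, n * s = s * n
  sq : ∀ n ∈ N0, n * n = 1 ∨ n * n = z
  comm : ∀ n ∈ N0, ∀ m ∈ N0, n * m = m * n ∨ n * m = z * (m * n)
  cen : ∀ n ∈ N0, (∀ m ∈ N0, n * m = m * n) → n ∈ zpowers s
  z_cen : ∀ h ∈ H, h * z = z * h
  surj : Function.Surjective ψ
  psi_N : ∀ n (hn : n ∈ N0), ψ ⟨n, NH hn⟩ = 1
  ker_card : ∃ m, Odd m ∧ Nat.card ψ.ker = 64 * m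
  ker_solv : Group.IsSolvable ψ.ker
  /-- everything is induced by `N_H(N0)` -/
  frat : ∀ π : Equiv.Perm (Fin 6), ∃ h : ↥H, (h : G) ∈ normalizer (N0 : Set G) ∧ ψ h = π
  /-- an element normalising `N0` inverts `s` exactly when it induces an odd permutation -/
  inv_s : ∀ h : ↥H, (h : G) ∈ normalizer (N0 : Set G) → (Equiv.Perm.sign (ψ h) = 1 ↔ (h : G) * s = s * h)
  /-- `S₆` is faithful on `N0 / ⟨s⟩` -/
  faithful : ∀ h : ↥H, (h : G) ∈ normalizer (N0 : Set G) → (∀ n ∈ N0, (h : G) * n * (h : G)⁻¹ * n⁻¹ ∈ zpowers s) → ψ h = 1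
  two : (Nat.card G).factorization 2 = 10

end Cfsg.Agent.H314.Co3
end

-- part: H314/Co3/Abel
section
/-!
# S1920, case A: abelian 2-subgroups of `G` (helper314)

`abel` : an abelian 2-subgroup `A` of `G` has order at most `2 ^ 7`, and if the order is `2 ^ 7` then the fourth powers
of the elements of `A` lie in a group of order 2.
-/

set_option autoImplicit false

open Subgroup

namespace Cfsg.Agent.H314.Co3

variable {G : Type*} [Group G]

/-- a subgroup `E` of `D` with `a⁻¹ b ∈ E` for `a, b ∈ D ∖ E` -/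
theorem card_le_two_mul [Finite G] {D E : Subgroup G} (hE : E ≤ D)
    (h : ∀ a ∈ D, ∀ b ∈ D, a ∉ E → b ∉ E → a⁻¹ * b ∈ E) : Nat.card D ≤ 2 * Nat.card E := by
  classical
  by_cases hDE : D ≤ E
  · have : D = E := le_antisymm hDE hE
    rw [this]; omega
  obtain ⟨a, haD, haE⟩ := SetLike.not_le_iff_exists.1 hDE
  have h1 : ∀ b : D, (b : G) ∉ E → a⁻¹ * (b : G) ∈ E := fun b hb => h a haD b b.2 haE hb
  let f : D → E ⊕ E := fun b => if hb : (b : G) ∈ E then Sum.inl ⟨b, hb⟩ else Sum.inr ⟨a⁻¹ * (b : G), h1 b hb⟩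
  have hf : Function.Injective f := by
    intro x y hxy
    simp only [f] at hxy
    split_ifs at hxy with hx hy hy
    · rw [Sum.inl.injEq, Subtype.mk.injEq] at hxy
      exact Subtype.ext hxy
    · rw [Sum.inr.injEq, Subtype.mk.injEq] at hxy
      exact Subtype.ext (mul_left_cancel hxy)
  have h2 := Nat.card_le_card_of_injective f hf
  rw [Nat.card_sum] at h2
  omega

namespace CA

variable {H N0 : Subgroup G} {z s : G} {ψ : ↥H →* Equiv.Perm (Fin 6)}

theorem zN (C : CA H N0 z s ψ) : z ∈ N0 := by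
  rw [← C.s_sq]; exact mul_mem C.sN C.sN

theorem z_comm (C : CA H N0 z s ψ) {n : G} (hn : n ∈ N0) : n * z = z * n := C.z_cen n (C.NH hn)

theorem s_pow (C : CA H N0 z s ψ) : s ^ 4 = 1 := by
  have : s ^ 4 = (s * s) * (s * s) := by simp only [pow_succ, pow_zero, one_mul, mul_assoc]
  rw [this, C.s_sq, C.z_sq]

theorem card_s [Finite G] (C : CA H N0 z s ψ) : Nat.card (zpowers s) ≤ 4 := by
  rw [Nat.card_zpowers]
  exact orderOf_le_of_pow_eq_one (by norm_num) C.s_pow

/-- the commutator as an alternative -/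
theorem comm_mul (C : CA H N0 z s ψ) {n a b : G} (hn : n ∈ N0) (ha : a ∈ N0) (hb : b ∈ N0)
    (h1 : n * a ≠ a * n) (h2 : n * b ≠ b * n) : n * (a⁻¹ * b) = a⁻¹ * b * n := by
  have e1 := (C.comm n hn a ha).resolve_left h1
  have e2 := (C.comm n hn b hb).resolve_left h2
  have hz := C.z_comm ha
  have h3 : a⁻¹ * n = z * (n * a⁻¹) := by
    have h4 : n * a⁻¹ = z * (a⁻¹ * n) := by
      have h5 : a * (n * a⁻¹) = a * (z * (a⁻¹ * n)) := by
        calc a * (n * a⁻¹) = (z * z) * (a * n) * a⁻¹ := by rw [C.z_sq]; group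
          _ = z * (z * (a * n)) * a⁻¹ := by group
          _ = z * (n * a) * a⁻¹ := by rw [← e1]
          _ = z * n := by group
          _ = (a * z) * a⁻¹ * n := by rw [hz]; group
          _ = a * (z * (a⁻¹ * n)) := by group
      exact mul_left_cancel h5
    rw [h4, ← mul_assoc z z, C.z_sq, one_mul]
  have h6 : n * a⁻¹ = z * (a⁻¹ * n) := by
    rw [h3, ← mul_assoc z z, C.z_sq, one_mul]
  have hz' : a⁻¹ * z = z * a⁻¹ := by
    have := C.z_comm (inv_mem ha)
    exact this
  calc n * (a⁻¹ * b) = n * a⁻¹ * b := by group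
    _ = z * (a⁻¹ * n) * b := by rw [h6]
    _ = z * a⁻¹ * (n * b) := by group
    _ = z * a⁻¹ * (z * (b * n)) := by rw [e2]
    _ = z * (a⁻¹ * z) * (b * n) := by group
    _ = z * (z * a⁻¹) * (b * n) := by rw [hz']
    _ = (z * z) * (a⁻¹ * b * n) := by group
    _ = a⁻¹ * b * n := by rw [C.z_sq, one_mul]

/-- **abelian subgroups of `N0` have order at most 16** -/
theorem card_abel [Finite G] (C : CA H N0 z s ψ) {D : Subgroup G} (hD : D ≤ N0)
    (hc : ∀ x ∈ D, ∀ y ∈ D, x * y = y * x) : Nat.card D ≤ 16 := by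
  by_contra hlt
  have h1 : Nat.card D ∣ 64 := by rw [← C.card]; exact Subgroup.card_dvd_of_le hD
  have h2 : Nat.card D = 32 ∨ Nat.card D = 64 := by
    have h3 : Nat.card D ≤ 64 := Nat.le_of_dvd (by norm_num) h1
    obtain ⟨k, hk⟩ := h1
    have : k < 4 := by
      by_contra hk4
      have : 4 * 17 ≤ k * Nat.card D := Nat.mul_le_mul (by omega) (by omega)
      rw [mul_comm k] at this
      omega
    interval_cases k <;> omega
  rcases h2 with h2 | h2
  · -- index two
    have hlt2 : ¬ N0 ≤ D := fun h => by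
      have h3 := Subgroup.card_le_of_le h
      rw [C.card, h2] at h3
      omega
    obtain ⟨n, hn, hnD⟩ := SetLike.not_le_iff_exists.1 hlt2
    have hidx : (D.subgroupOf N0).index = 2 := by
      have h3 := Subgroup.card_mul_index (D.subgroupOf N0)
      rw [Nat.card_congr (Subgroup.subgroupOfEquivOfLe hD).toEquiv, h2, C.card] at h3
      omega
    have hmul : ∀ a ∈ N0, ∀ b ∈ N0, (a * b ∈ D ↔ (a ∈ D ↔ b ∈ D)) := by
      intro a ha b hb
      have := Subgroup.mul_mem_iff_of_index_two hidx (a := ⟨a, ha⟩) (b := ⟨b, hb⟩)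
      simpa [Subgroup.mem_subgroupOf] using this
    let E : Subgroup G := D ⊓ centralizer {n}
    have hE : ∀ x, x ∈ E ↔ x ∈ D ∧ n * x = x * n := by
      intro x
      simp only [E, mem_inf, mem_centralizer_singleton_iff]
      constructor
      · rintro ⟨h3, h4⟩; exact ⟨h3, h4.symm⟩
      · rintro ⟨h3, h4⟩; exact ⟨h3, h4.symm⟩
    have h4 := card_le_two_mul (D := D) (E := E) inf_le_left (by
      intro a ha b hb ha' hb'
      rw [hE] at ha' hb' ⊢
      refine ⟨mul_mem (inv_mem ha) hb, C.comm_mul hn (hD ha) (hD hb) (fun h => ha' ⟨ha, h⟩) (fun h => hb' ⟨hb, h⟩)⟩)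
    have h5 : E ≤ zpowers s := by
      intro x hx
      rw [hE] at hx
      refine C.cen x (hD hx.1) fun m hm => ?_
      by_cases hmD : m ∈ D
      · exact hc x hx.1 m hmD
      · have h6 : n⁻¹ * m ∈ D := by
          rw [hmul _ (inv_mem hn) _ hm, inv_mem_iff]
          exact ⟨fun h => absurd h hnD, fun h => absurd h hmD⟩
        have h7 := hc x hx.1 _ h6
        have h8 : x * n = n * x := hx.2.symm
        calc x * m = (x * n) * (n⁻¹ * m) := by group
          _ = n * (x * (n⁻¹ * m)) := by rw [h8]; group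
          _ = n * ((n⁻¹ * m) * x) := by rw [h7]
          _ = m * x := by group
    have h6 := (Subgroup.card_le_of_le h5).trans C.card_s
    omega
  · have h3 : D = N0 := Subgroup.eq_of_le_of_card_ge hD (by rw [C.card, h2])
    have h4 : N0 ≤ zpowers s := fun x hx => C.cen x hx fun m hm => hc x (by rw [h3]; exact hx) m (by rw [h3]; exact hm)
    have h5 := (Subgroup.card_le_of_le h4).trans C.card_s
    rw [C.card] at h5
    omega

/-- an abelian subgroup of order 16 of `N0` is its own centraliser -/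
theorem self_cent [Finite G] (C : CA H N0 z s ψ) {D : Subgroup G} (hD : D ≤ N0)
    (hc : ∀ x ∈ D, ∀ y ∈ D, x * y = y * x) (h16 : 16 ≤ Nat.card D) {c : G} (hcN : c ∈ N0)
    (hcc : ∀ x ∈ D, c * x = x * c) : c ∈ D := by
  by_contra hcD
  let D' : Subgroup G := closure (insert c (D : Set G))
  have h1 : D' ≤ N0 := by
    rw [closure_le]
    intro x hx
    rcases hx with rfl | hx
    · exact hcN
    · exact hD hx
  have h2 : IsMulCommutative D' := by
    apply Subgroup.isMulCommutative_closure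
    intro x hx y hy
    rcases hx with rfl | hx
    · rcases hy with rfl | hy
      · rfl
      · exact hcc y hy
    · rcases hy with rfl | hy
      · exact (hcc x hx).symm
      · exact hc x hx y hy
  have h3 : Nat.card D' ≤ 16 := C.card_abel h1 fun x hx y hy => by
    have := h2.is_comm.comm (⟨x, hx⟩ : D') ⟨y, hy⟩
    exact congrArg Subtype.val this
  have h4 : D ≤ D' := fun x hx => subset_closure (Or.inr hx)
  have h5 : D = D' := Subgroup.eq_of_le_of_card_ge h4 (h3.trans h16)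
  apply hcD
  rw [h5]
  exact subset_closure (Or.inl rfl)

end CA

end Cfsg.Agent.H314.Co3
end

-- part: H314/Co3/SylT
section
/-!
# S1920, case A: the Sylow 2-subgroup (helper314)
-/

set_option autoImplicit false

open Subgroup

namespace Cfsg.Agent.H314.Co3

variable {G : Type*} [Group G]

theorem card_perm_six : Nat.card (Equiv.Perm (Fin 6)) = 720 := by
  rw [Nat.card_eq_fintype_card, Fintype.card_perm, Fintype.card_fin]; rfl

/-- a 2-group whose order divides `2 ^ a * m`, `m` odd -/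
theorem card_le_of_two {X : Type*} [Group X] [Finite X] {R : Subgroup X} (hR : IsPGroup 2 R) {a m : ℕ} (hm : Odd m)
    (h : Nat.card R ∣ 2 ^ a * m) : Nat.card R ∣ 2 ^ a := by
  have : Fact (Nat.Prime 2) := ⟨Nat.prime_two⟩
  obtain ⟨k, hk⟩ := IsPGroup.iff_card.1 hR
  rw [hk] at h ⊢
  refine Nat.Coprime.dvd_of_dvd_mul_right ?_ h
  exact Nat.Coprime.pow_left _ ((Nat.coprime_two_left).2 hm)

namespace CA

variable {H N0 : Subgroup G} {z s : G} {ψ : ↥H →* Equiv.Perm (Fin 6)}

theorem exists_T [Finite G] (C : CA H N0 z s ψ) : ∃ T : Subgroup G, T ≤ H ∧ T ≤ normalizer (N0 : Set G) ∧ N0 ≤ T ∧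
    IsPGroup 2 T ∧ Nat.card T = 2 ^ 10 ∧ ∀ t : ↥H, (t : G) ∈ T → ψ t = 1 → (t : G) ∈ N0 := by
  have : Fact (Nat.Prime 2) := ⟨Nat.prime_two⟩
  let M : Subgroup ↥H := (normalizer (N0 : Set G)).comap H.subtype
  let j : ↥M →* G := H.subtype.comp M.subtype
  have hj : Function.Injective j := H.subtype_injective.comp M.subtype_injective
  let ψM : ↥M →* Equiv.Perm (Fin 6) := ψ.comp M.subtype
  have hsur : Function.Surjective ψM := by
    intro π
    obtain ⟨h, h1, h2⟩ := C.frat π
    exact ⟨⟨h, h1⟩, h2⟩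
  let N1 : Subgroup ↥M := N0.comap j
  have hmemN1 : ∀ x : ↥M, x ∈ N1 ↔ j x ∈ N0 := fun x => Iff.rfl
  have hNr : N0 ≤ j.range := by
    intro n hn
    exact ⟨⟨⟨n, C.NH hn⟩, le_normalizer hn⟩, rfl⟩
  have hN1map : N1.map j = N0 := by
    rw [Subgroup.map_comap_eq, inf_eq_right.2 hNr]
  have hN1card : Nat.card N1 = 64 := by
    rw [← C.card, ← hN1map]
    exact Nat.card_congr (N1.equivMapOfInjective j hj).toEquiv
  have hN1n : N1.Normal := by
    constructor
    intro n hn g
    rw [hmemN1] at hn ⊢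
    rw [map_mul, map_mul, map_inv]
    have hg : j g ∈ normalizer (N0 : Set G) := g.2
    exact (mem_normalizer_iff.1 hg (j n)).1 hn
  have hN1p : IsPGroup 2 N1 := IsPGroup.of_card (n := 6) (by rw [hN1card]; norm_num)
  have hN1k : N1 ≤ ψM.ker := by
    intro x hx
    rw [MonoidHom.mem_ker]
    exact C.psi_N (j x) hx
  obtain ⟨m, hm, hmc⟩ := C.ker_card
  -- the order of the kernel
  have hk1 : Nat.card ψM.ker ∣ 64 * m := by
    rw [← hmc]
    have h1 : Nat.card (ψM.ker.map M.subtype) ∣ Nat.card ψ.ker := by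
      apply Subgroup.card_dvd_of_le
      rintro _ ⟨x, hx, rfl⟩
      exact hx
    rwa [← Nat.card_congr (ψM.ker.equivMapOfInjective M.subtype M.subtype_injective).toEquiv] at h1
  have hk2 : 64 ∣ Nat.card ψM.ker := by
    rw [← hN1card]; exact Subgroup.card_dvd_of_le hN1k
  obtain ⟨m', hm'⟩ := hk2
  have hmo : Odd m' := by
    rw [hm'] at hk1
    exact Odd.of_dvd_nat hm (Nat.dvd_of_mul_dvd_mul_left (by norm_num) hk1)
  have hMc : Nat.card ↥M = 2 ^ 10 * (45 * m') := by
    have h1 := Subgroup.card_mul_index ψM.ker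
    rw [Subgroup.index_ker, MonoidHom.range_eq_top.2 hsur, Nat.card_congr Subgroup.topEquiv.toEquiv, card_perm_six,
      hm'] at h1
    rw [← h1]; ring
  have hfac : (Nat.card ↥M).factorization 2 = 10 := by
    have ho : Odd (45 * m') := (by decide : Odd 45).mul hmo
    have h0 : 45 * m' ≠ 0 := ho.pos.ne'
    rw [hMc, Nat.factorization_mul (by norm_num) h0, Nat.Prime.factorization_pow Nat.prime_two]
    simp only [Finsupp.add_apply, Finsupp.single_eq_same]
    rw [Nat.factorization_eq_zero_of_not_dvd]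
    exact fun h => (Nat.not_even_iff_odd.2 ho) (even_iff_two_dvd.2 h)
  obtain ⟨P⟩ : Nonempty (Sylow 2 ↥M) := inferInstance
  have hPc : Nat.card P = 2 ^ 10 := by rw [P.card_eq_multiplicity, hfac]
  have hN1P : N1 ≤ P := hN1p.le_sylow_of_normal P
  refine ⟨(P : Subgroup ↥M).map j, ?_, ?_, ?_, P.2.map j, ?_, ?_⟩
  · rintro _ ⟨x, -, rfl⟩
    exact (x : ↥H).2
  · rintro _ ⟨x, -, rfl⟩
    exact x.2
  · rw [← hN1map]; exact Subgroup.map_mono hN1P
  · rw [← Nat.card_congr ((P : Subgroup ↥M).equivMapOfInjective j hj).toEquiv]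
    exact hPc
  · rintro t ⟨x, hx, hxt⟩ ht
    have hxt' : (x : ↥H) = t := Subtype.ext hxt
    have hxk : x ∈ ψM.ker := by
      rw [MonoidHom.mem_ker]
      change ψ (x : ↥H) = 1
      rw [hxt', ht]
    have hR : IsPGroup 2 ↥((P : Subgroup ↥M) ⊓ ψM.ker) := P.2.to_le inf_le_left
    have h1 : Nat.card ↥((P : Subgroup ↥M) ⊓ ψM.ker) ∣ 2 ^ 6 := by
      refine card_le_of_two hR hmo ?_
      rw [show 2 ^ 6 * m' = 64 * m' by norm_num, ← hm']
      exact Subgroup.card_dvd_of_le inf_le_right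
    have h2 : N1 = (P : Subgroup ↥M) ⊓ ψM.ker :=
      Subgroup.eq_of_le_of_card_ge (le_inf hN1P hN1k) (by rw [hN1card]; exact Nat.le_of_dvd (by norm_num) h1)
    have h3 : x ∈ N1 := by rw [h2]; exact ⟨hx, hxk⟩
    have h4 : j x ∈ N0 := h3
    rw [← hxt]; exact h4

end CA

end Cfsg.Agent.H314.Co3
end

-- part: H314/Co3/AbelT
section
/-!
# S1920, case A: abelian 2-subgroups of `G` (helper314)

`abel` : an abelian 2-subgroup `A` of `G` has order at most `2 ^ 7`, and if the order is `2 ^ 7` then the fourth powers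
of the elements of `A` lie in a group of order 2.
-/

set_option autoImplicit false

open Subgroup

namespace Cfsg.Agent.H314.Co3

variable {G : Type*} [Group G]

def cyc4 : Equiv.Perm (Fin 6) where
  toFun := ![1, 2, 3, 0, 4, 5]
  invFun := ![3, 0, 1, 2, 4, 5]
  left_inv := by decide
  right_inv := by decide

theorem cyc4_cent : Fintype.card {g : Equiv.Perm (Fin 6) // g * cyc4 = cyc4 * g} = 8 := by (set_option synthInstance.maxSize 9000 in open scoped Cfsg.Agent.Lib.FastPerm in decide +kernel)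

theorem fac720 : (Nat.card (Equiv.Perm (Fin 6))).factorization 2 = 4 := by
  rw [card_perm_six, show 720 = 2 ^ 4 * 45 by norm_num, Nat.factorization_mul (by norm_num) (by norm_num),
    Nat.Prime.factorization_pow Nat.prime_two]
  simp only [Finsupp.add_apply, Finsupp.single_eq_same]
  rw [Nat.factorization_eq_zero_of_not_dvd (by norm_num)]

/-- abelian 2-subgroups of `S₆` have order at most 8 -/
theorem card_abel_perm {B : Subgroup (Equiv.Perm (Fin 6))} (hB : IsPGroup 2 B)
    (hc : ∀ x ∈ B, ∀ y ∈ B, x * y = y * x) : Nat.card B ≤ 8 := by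
  have : Fact (Nat.Prime 2) := ⟨Nat.prime_two⟩
  by_contra hlt
  have h1 : Nat.card B ∣ 2 ^ 4 := by
    refine card_le_of_two hB (show Odd 45 by decide) ?_
    have := Subgroup.card_subgroup_dvd_card B
    rwa [card_perm_six] at this
  have h2 : Nat.card B = 2 ^ 4 := by
    obtain ⟨k, hk, hk'⟩ := (Nat.dvd_prime_pow Nat.prime_two).1 h1
    interval_cases k <;> omega
  let P : Sylow 2 (Equiv.Perm (Fin 6)) := Sylow.ofCard B (by rw [fac720, h2])
  have hz : IsPGroup 2 (zpowers cyc4) := by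
    refine IsPGroup.iff_orderOf.2 fun x => ?_
    have h3 : orderOf x ∣ 2 ^ 2 := by
      apply orderOf_dvd_of_pow_eq_one
      obtain ⟨x, n, rfl⟩ := x
      apply Subtype.ext
      change (cyc4 ^ n) ^ (2 ^ 2) = 1
      rw [← zpow_natCast, ← zpow_mul, mul_comm, zpow_mul, zpow_natCast]
      have : cyc4 ^ (2 ^ 2) = 1 := by decide
      rw [this, one_zpow]
    obtain ⟨k, -, hk⟩ := (Nat.dvd_prime_pow Nat.prime_two).1 h3
    exact ⟨k, hk⟩
  obtain ⟨Q, hQ⟩ := hz.exists_le_sylow
  obtain ⟨g, hg⟩ := MulAction.exists_smul_eq (Equiv.Perm (Fin 6)) P Q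
  have hQc : ∀ x ∈ Q, x * cyc4 = cyc4 * x := by
    have hmem : ∀ x ∈ Q, g⁻¹ * x * g ∈ B := by
      intro x hx
      rw [← hg] at hx
      have h5 : x ∈ ((g • P : Sylow 2 (Equiv.Perm (Fin 6))) : Subgroup (Equiv.Perm (Fin 6))) := hx
      rw [Sylow.coe_subgroup_smul, Subgroup.mem_pointwise_smul_iff_inv_smul_mem] at h5
      rw [← MulAut.conj_inv_apply]
      exact h5
    intro x hx
    have h3 := hmem x hx
    have h4 := hmem cyc4 (hQ (mem_zpowers _))
    have h5 := hc _ h3 _ h4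
    calc x * cyc4 = g * ((g⁻¹ * x * g) * (g⁻¹ * cyc4 * g)) * g⁻¹ := by group
      _ = g * ((g⁻¹ * cyc4 * g) * (g⁻¹ * x * g)) * g⁻¹ := by rw [h5]
      _ = cyc4 * x := by group
  have h6 : Nat.card Q = 16 := by rw [Q.card_eq_multiplicity, fac720]; norm_num
  have h7 : Nat.card Q ≤ Nat.card {g : Equiv.Perm (Fin 6) // g * cyc4 = cyc4 * g} :=
    Nat.card_le_card_of_injective (fun x : Q => ⟨x, hQc x x.2⟩) fun x y hxy => Subtype.ext (by simpa using hxy)
  rw [h6, Nat.card_eq_fintype_card, cyc4_cent] at h7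
  omega

namespace CA

variable {H N0 : Subgroup G} {z s : G} {ψ : ↥H →* Equiv.Perm (Fin 6)}

theorem abel_T [Finite G] (C : CA H N0 z s ψ) {T : Subgroup G} (hTH : T ≤ H) (hTN : T ≤ normalizer (N0 : Set G))
    (hT2 : IsPGroup 2 T) (hTk : ∀ t : ↥H, (t : G) ∈ T → ψ t = 1 → (t : G) ∈ N0) {A : Subgroup G} (hA : A ≤ T)
    (hc : ∀ a ∈ A, ∀ b ∈ A, a * b = b * a) :
    Nat.card A ≤ 128 ∧ (128 ≤ Nat.card A → ∀ a ∈ A, a ^ 4 = 1 ∨ a ^ 4 = z) := by
  let f : ↥A →* Equiv.Perm (Fin 6) := ψ.comp (Subgroup.inclusion (hA.trans hTH))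
  have hf : ∀ a : A, f a = ψ ⟨a, hTH (hA a.2)⟩ := fun a => rfl
  have hr : Nat.card f.range ≤ 8 := by
    apply card_abel_perm
    · have h1 : IsPGroup 2 A := hT2.to_le hA
      exact h1.of_surjective f.rangeRestrict f.rangeRestrict_surjective
    · rintro _ ⟨a, rfl⟩ _ ⟨b, rfl⟩
      rw [← map_mul, ← map_mul]
      congr 1
      exact Subtype.ext (hc a a.2 b b.2)
  have hkN : f.ker.map A.subtype ≤ N0 := by
    rintro _ ⟨a, ha, rfl⟩
    exact hTk ⟨a, hTH (hA a.2)⟩ (hA a.2) ha
  have hkc : ∀ x ∈ f.ker.map A.subtype, ∀ y ∈ f.ker.map A.subtype, x * y = y * x := by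
    rintro _ ⟨a, -, rfl⟩ _ ⟨b, -, rfl⟩
    exact hc a a.2 b b.2
  have hk : Nat.card (f.ker.map A.subtype) ≤ 16 := C.card_abel hkN hkc
  have hkk : Nat.card (f.ker.map A.subtype) = Nat.card f.ker :=
    (Nat.card_congr (f.ker.equivMapOfInjective A.subtype A.subtype_injective).toEquiv).symm
  have hmul : Nat.card f.ker * Nat.card f.range = Nat.card A := by
    rw [← Subgroup.index_ker]; exact Subgroup.card_mul_index f.ker
  refine ⟨?_, ?_⟩
  · rw [← hmul, ← hkk]
    calc _ ≤ 16 * 8 := Nat.mul_le_mul hk hr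
      _ = 128 := by norm_num
  · intro h128 a ha
    have h16 : 16 ≤ Nat.card (f.ker.map A.subtype) := by
      rw [← hmul, ← hkk] at h128
      by_contra hlt
      have : Nat.card (f.ker.map A.subtype) * Nat.card f.range ≤ 15 * 8 := Nat.mul_le_mul (by omega) hr
      omega
    have hDA : f.ker.map A.subtype ≤ A := Subgroup.map_subtype_le _
    have haH : a ∈ H := hTH (hA ha)
    have haN := hTN (hA ha)
    have hza : a * z = z * a := C.z_cen a haH
    -- conjugation by `a`
    have key : ∀ n ∈ N0, a * n * a⁻¹ ∈ N0 ∧ n⁻¹ * (a * n * a⁻¹) ∈ f.ker.map A.subtype := by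
      intro n hn
      have h1 : a * n * a⁻¹ ∈ N0 := (mem_normalizer_iff.1 haN n).1 hn
      refine ⟨h1, C.self_cent hkN hkc h16 (mul_mem (inv_mem hn) h1) ?_⟩
      intro x hx
      have hxa : a * x = x * a := hc a ha x (hDA hx)
      have e : (a * n * a⁻¹) * x * (a * n * a⁻¹)⁻¹ = n * x * n⁻¹ := by
        have e1 : (a * n * a⁻¹) * x * (a * n * a⁻¹)⁻¹ = a * (n * (a⁻¹ * (x * a)) * n⁻¹) * a⁻¹ := by group
        have e2 : a⁻¹ * (x * a) = x := by rw [← hxa]; group
        rw [e1, e2]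
        rcases C.comm n hn x (hkN hx) with h2 | h2
        · rw [h2, mul_inv_cancel_right, hxa, mul_inv_cancel_right]
        · rw [h2, ← mul_assoc z x n, mul_inv_cancel_right, ← mul_assoc a z x, hza, mul_assoc z a x, hxa, ← mul_assoc z x a,
            mul_inv_cancel_right]
      calc n⁻¹ * (a * n * a⁻¹) * x
          = n⁻¹ * ((a * n * a⁻¹) * x * (a * n * a⁻¹)⁻¹) * (a * n * a⁻¹) := by group
        _ = n⁻¹ * (n * x * n⁻¹) * (a * n * a⁻¹) := by rw [e]
        _ = x * (n⁻¹ * (a * n * a⁻¹)) := by group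
    have ha2 : a * a ∈ N0 := by
      refine hTk ⟨a * a, mul_mem haH haH⟩ (mul_mem (hA ha) (hA ha)) ?_
      refine C.faithful _ (mul_mem haN haN) fun n hn => ?_
      change a * a * n * (a * a)⁻¹ * n⁻¹ ∈ zpowers s
      obtain ⟨h1, h2⟩ := key n hn
      set d := n⁻¹ * (a * n * a⁻¹) with hd
      have hda : a * d = d * a := hc a ha d (hDA h2)
      have e1 : a * n * a⁻¹ = n * d := by rw [hd]; group
      have e2 : a * a * n * (a * a)⁻¹ * n⁻¹ = n * (d * d) * n⁻¹ := by
        calc a * a * n * (a * a)⁻¹ * n⁻¹ = a * (a * n * a⁻¹) * a⁻¹ * n⁻¹ := by group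
          _ = a * (n * d) * a⁻¹ * n⁻¹ := by rw [e1]
          _ = (a * n * a⁻¹) * (a * d * a⁻¹) * n⁻¹ := by group
          _ = (n * d) * d * n⁻¹ := by rw [e1, hda, mul_inv_cancel_right]
          _ = n * (d * d) * n⁻¹ := by group
      rw [e2]
      rcases C.sq d (hkN h2) with h3 | h3
      · rw [h3, mul_one, mul_inv_cancel]; exact one_mem _
      · rw [h3, C.z_comm hn, mul_inv_cancel_right, ← C.s_sq]
        exact mul_mem (mem_zpowers s) (mem_zpowers s)
    have e4 : a ^ 4 = (a * a) * (a * a) := by simp only [pow_succ, pow_zero, one_mul, mul_assoc]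
    rw [e4]
    exact C.sq _ ha2

/-- **abelian 2-subgroups of `G`** -/
theorem abel [Finite G] (C : CA H N0 z s ψ) {A : Subgroup G} (hA : IsPGroup 2 A)
    (hc : ∀ a ∈ A, ∀ b ∈ A, a * b = b * a) :
    Nat.card A ≤ 128 ∧ (128 ≤ Nat.card A → ∃ z' : G, ∀ a ∈ A, a ^ 4 = 1 ∨ a ^ 4 = z') := by
  have : Fact (Nat.Prime 2) := ⟨Nat.prime_two⟩
  obtain ⟨T, hTH, hTN, -, hT2, hTc, hTk⟩ := C.exists_T
  let P : Sylow 2 G := Sylow.ofCard T (by rw [C.two, hTc])
  obtain ⟨Q, hQ⟩ := hA.exists_le_sylow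
  obtain ⟨g, hg⟩ := MulAction.exists_smul_eq G P Q
  have hmem : ∀ x ∈ A, g⁻¹ * x * g ∈ T := by
    intro x hx
    have h5 : x ∈ (Q : Subgroup G) := hQ hx
    rw [← hg, Sylow.coe_subgroup_smul, Subgroup.mem_pointwise_smul_iff_inv_smul_mem] at h5
    rw [← MulAut.conj_inv_apply]
    exact h5
  let A' : Subgroup G := A.map (MulAut.conj g⁻¹).toMonoidHom
  have hA' : A' ≤ T := by
    rintro _ ⟨x, hx, rfl⟩
    change (MulAut.conj g⁻¹) x ∈ T
    rw [MulAut.conj_apply, inv_inv]
    exact hmem x hx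
  have hcc : Nat.card A' = Nat.card A :=
    (Nat.card_congr (A.equivMapOfInjective (MulAut.conj g⁻¹).toMonoidHom (MulAut.conj g⁻¹).injective).toEquiv).symm
  obtain ⟨h1, h2⟩ := C.abel_T hTH hTN hT2 hTk hA' (by
    rintro _ ⟨a, ha, rfl⟩ _ ⟨b, hb, rfl⟩
    rw [← map_mul, ← map_mul, hc a ha b hb])
  rw [hcc] at h1 h2
  refine ⟨h1, fun h3 => ⟨g * z * g⁻¹, fun a ha => ?_⟩⟩
  have h4 := h2 h3 _ ⟨a, ha, rfl⟩
  change ((MulAut.conj g⁻¹) a) ^ 4 = 1 ∨ ((MulAut.conj g⁻¹) a) ^ 4 = z at h4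
  rw [← map_pow, MulAut.conj_apply, inv_inv] at h4
  rcases h4 with h4 | h4
  · left
    calc a ^ 4 = g * (g⁻¹ * a ^ 4 * g) * g⁻¹ := by group
      _ = 1 := by rw [h4]; group
  · right
    rw [← h4]; group

end CA

end Cfsg.Agent.H314.Co3
end

-- part: H314/Co3/Dim8
section
/-!
# S1920: linear representations of `4 ∘ 2^{1+4}` with `s` inverted (helper314)

`dim_eight` : let `P` be a linear representation of `R ≥ N0`, `r ∈ R` with `r s = s⁻¹ r`, over a field with `i ^ 2 = -1` and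
`2 ≠ 0`; if `z` acts nontrivially then the dimension is at least 8, and in dimension 8 `z` acts as `-1`.
-/

set_option autoImplicit false

open Subgroup Module

namespace Cfsg.Agent.H314.Co3

/-! ### linear algebra -/

section lin

variable {K V : Type*} [Field K] [AddCommGroup V] [Module K V] [FiniteDimensional K V]

theorem finrank_le_of_inj (B : V →ₗ[K] V) (hB : Function.Injective B) {X Y : Submodule K V}
    (h : ∀ x ∈ X, B x ∈ Y) : finrank K X ≤ finrank K Y := by
  have h1 := LinearMap.finrank_le_finrank_of_injective (f := B.restrict h) (by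
    intro x y hxy
    apply Subtype.ext
    apply hB
    have := congrArg Subtype.val hxy
    simpa using this)
  exact h1

/-- halving -/
theorem half (h2 : (2 : K) ≠ 0) (A B : V →ₗ[K] V) (hB : Function.Injective B) (U : Submodule K V)
    (hAU : ∀ u ∈ U, A u ∈ U) (hBU : ∀ u ∈ U, B u ∈ U) (hAA : ∀ u ∈ U, A (A u) = u)
    (hAB : ∀ u ∈ U, A (B u) = -B (A u)) :
    finrank K U = 2 * finrank K ↥(U ⊓ LinearMap.ker (A - 1)) := by
  set X := U ⊓ LinearMap.ker (A - 1) with hX
  set Y := U ⊓ LinearMap.ker (A + 1) with hY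
  have mX : ∀ u, u ∈ X ↔ u ∈ U ∧ A u = u := by
    intro u
    rw [hX, Submodule.mem_inf, LinearMap.mem_ker, LinearMap.sub_apply, Module.End.one_apply, sub_eq_zero]
  have mY : ∀ u, u ∈ Y ↔ u ∈ U ∧ A u = -u := by
    intro u
    rw [hY, Submodule.mem_inf, LinearMap.mem_ker, LinearMap.add_apply, Module.End.one_apply, add_eq_zero_iff_eq_neg]
  have hXY : finrank K X ≤ finrank K Y := finrank_le_of_inj B hB fun u hu => by
    rw [mX] at hu
    rw [mY]
    exact ⟨hBU u hu.1, by rw [hAB u hu.1, hu.2]⟩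
  have hYX : finrank K Y ≤ finrank K X := finrank_le_of_inj B hB fun u hu => by
    rw [mY] at hu
    rw [mX]
    exact ⟨hBU u hu.1, by rw [hAB u hu.1, hu.2, map_neg, neg_neg]⟩
  have hinf : X ⊓ Y = ⊥ := by
    rw [eq_bot_iff]
    rintro u ⟨hu1, hu2⟩
    replace hu1 := ((mX u).1 hu1).2
    replace hu2 := ((mY u).1 hu2).2
    rw [hu1] at hu2
    have h3 : (2 : K) • u = 0 := by
      rw [two_smul]
      nth_rewrite 1 [hu2]
      exact neg_add_cancel u
    exact (smul_eq_zero.1 h3).resolve_left h2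
  have hsup : X ⊔ Y = U := by
    apply le_antisymm (sup_le inf_le_left inf_le_left)
    intro u hu
    have h3 : u = (2 : K)⁻¹ • (u + A u) + (2 : K)⁻¹ • (u - A u) := by
      rw [← smul_add]
      have : u + A u + (u - A u) = (2 : K) • u := by rw [two_smul]; abel
      rw [this, smul_smul, inv_mul_cancel₀ h2, one_smul]
    rw [h3]
    refine Submodule.add_mem_sup ?_ ?_
    · refine X.smul_mem _ ((mX _).2 ⟨U.add_mem hu (hAU u hu), ?_⟩)
      rw [map_add, hAA u hu, add_comm]
    · refine Y.smul_mem _ ((mY _).2 ⟨U.sub_mem hu (hAU u hu), ?_⟩)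
      rw [map_sub, hAA u hu]; abel
  have h3 := Submodule.finrank_sup_add_finrank_inf_eq X Y
  rw [hinf, hsup, finrank_bot, add_zero] at h3
  omega

end lin

variable {G : Type*} [Group G]

namespace CA

variable {H N0 : Subgroup G} {z s : G} {ψ : ↥H →* Equiv.Perm (Fin 6)}

/-- a coset of `⟨s⟩` contains an involution -/
theorem exists_sq (C : CA H N0 z s ψ) {n : G} (hn : n ∈ N0) :
    ∃ m ∈ N0, m * m = 1 ∧ (m = n ∨ m = n * s) := by
  rcases C.sq n hn with h | h
  · exact ⟨n, hn, h, Or.inl rfl⟩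
  · refine ⟨n * s, mul_mem hn C.sN, ?_, Or.inr rfl⟩
    calc n * s * (n * s) = n * (s * n) * s := by group
      _ = n * (n * s) * s := by rw [C.s_cen n hn]
      _ = (n * n) * (s * s) := by group
      _ = 1 := by rw [h, C.s_sq, C.z_sq]

theorem s_ne (C : CA H N0 z s ψ) {n : G} (_hn : n ∈ N0) {m : G} (hm : m ∈ N0) (h : n * m ≠ m * n) :
    (n * s) * m ≠ m * (n * s) := by
  intro h1
  apply h
  have h2 : (n * s) * m = n * m * s := by rw [mul_assoc, ← C.s_cen m hm]; group
  rw [h2, ← mul_assoc] at h1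
  exact mul_right_cancel h1

/-- generators -/
theorem exists_gens [Finite G] (C : CA H N0 z s ψ) : ∃ a ∈ N0, ∃ b ∈ N0, ∃ c ∈ N0, ∃ d ∈ N0, a * a = 1 ∧ c * c = 1 ∧
    a * b = z * (b * a) ∧ c * d = z * (d * c) ∧ a * c = c * a ∧ a * d = d * a := by
  -- `a`
  have h1 : ∃ a0 ∈ N0, ∃ b ∈ N0, a0 * b ≠ b * a0 := by
    by_contra hcon
    push Not at hcon
    have := C.card_abel le_rfl hcon
    rw [C.card] at this
    omega
  obtain ⟨a0, ha0, b, hb, hab⟩ := h1
  obtain ⟨a, ha, haa, hae⟩ := C.exists_sq ha0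
  have hab' : a * b ≠ b * a := by
    rcases hae with rfl | rfl
    · exact hab
    · exact C.s_ne ha0 hb hab
  -- the centraliser of `a`
  let E : Subgroup G := N0 ⊓ centralizer {a}
  have hE : ∀ x, x ∈ E ↔ x ∈ N0 ∧ a * x = x * a := by
    intro x
    simp only [E, mem_inf, mem_centralizer_singleton_iff]
    constructor
    · rintro ⟨h3, h4⟩; exact ⟨h3, h4.symm⟩
    · rintro ⟨h3, h4⟩; exact ⟨h3, h4.symm⟩
  have h4 := card_le_two_mul (D := N0) (E := E) inf_le_left (by
    intro x hx y hy hx' hy'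
    rw [hE] at hx' hy' ⊢
    exact ⟨mul_mem (inv_mem hx) hy, C.comm_mul ha hx hy (fun h => hx' ⟨hx, h⟩) (fun h => hy' ⟨hy, h⟩)⟩)
  rw [C.card] at h4
  have h5 : ∃ c0 ∈ E, ∃ d ∈ E, c0 * d ≠ d * c0 := by
    by_contra hcon
    push Not at hcon
    have := C.card_abel (D := E) inf_le_left hcon
    omega
  obtain ⟨c0, hc0, d, hd, hcd⟩ := h5
  rw [hE] at hc0 hd
  obtain ⟨c, hc, hcc, hce⟩ := C.exists_sq hc0.1
  have hcd' : c * d ≠ d * c := by
    rcases hce with rfl | rfl
    · exact hcd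
    · exact C.s_ne hc0.1 hd.1 hcd
  have hac : a * c = c * a := by
    rcases hce with rfl | rfl
    · exact hc0.2
    · calc a * (c0 * s) = (a * c0) * s := by group
        _ = c0 * (a * s) := by rw [hc0.2]; group
        _ = c0 * s * a := by rw [C.s_cen a ha]; group
  exact ⟨a, ha, b, hb, c, hc, d, hd.1, haa, hcc, (C.comm a ha b hb).resolve_left hab',
    (C.comm c hc d hd.1).resolve_left hcd', hac, hd.2⟩

/-- conjugation of `s` -/
theorem conj_s (C : CA H N0 z s ψ) {r : G} (hrH : r ∈ H) (hrN : r ∈ normalizer (N0 : Set G)) (hr : r * s ≠ s * r) :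
    r * s = z * (s * r) := by
  have h1 : r * s * r⁻¹ ∈ N0 := (mem_normalizer_iff.1 hrN s).1 C.sN
  have h2 : r * s * r⁻¹ ∈ zpowers s := by
    refine C.cen _ h1 fun m hm => ?_
    have h3 : r⁻¹ * m * r ∈ N0 := by
      have := (mem_normalizer_iff.1 (inv_mem hrN) m).1 hm
      rwa [inv_inv] at this
    have h4 := C.s_cen _ h3
    calc r * s * r⁻¹ * m = r * (s * (r⁻¹ * m * r)) * r⁻¹ := by group
      _ = r * ((r⁻¹ * m * r) * s) * r⁻¹ := by rw [h4]
      _ = m * (r * s * r⁻¹) := by group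
  obtain ⟨k, hk⟩ := h2
  have hk' : s ^ k = r * s * r⁻¹ := hk
  -- reduce `k` modulo 4
  have h4 : s ^ (k % 4) = s ^ k := by
    have h5 : s ^ (4 : ℤ) = 1 := by
      have := C.s_pow
      exact_mod_cast this
    conv_rhs => rw [← Int.emod_add_mul_ediv k 4, zpow_add, zpow_mul, h5, one_zpow, mul_one]
  have h6 : k % 4 = 0 ∨ k % 4 = 1 ∨ k % 4 = 2 ∨ k % 4 = 3 := by omega
  have hrz : r * z = z * r := C.z_cen r hrH
  have hs1 : s ≠ 1 := by
    rintro h; apply C.z_ne; rw [← C.s_sq, h, one_mul]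
  have hsz : s ≠ z := by
    intro h; apply C.z_ne
    have h7 := C.s_sq
    rw [h, C.z_sq] at h7
    exact h7.symm
  rcases h6 with h6 | h6 | h6 | h6
  · exfalso
    rw [h6, zpow_zero, hk'] at h4
    apply hs1
    have : s = r⁻¹ * (r * s * r⁻¹) * r := by group
    rw [this, ← h4]; group
  · exfalso
    rw [h6, zpow_one, hk'] at h4
    apply hr
    nth_rewrite 2 [h4]
    group
  · exfalso
    have h7 : s ^ (2 : ℤ) = z := by rw [zpow_two, C.s_sq]
    rw [h6, h7, hk'] at h4
    apply hsz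
    have : s = r⁻¹ * (r * s * r⁻¹) * r := by group
    rw [this, ← h4, mul_assoc, ← hrz]; group
  · have h7 : s ^ (3 : ℤ) = z * s := by
      have : s ^ (3 : ℤ) = s * s * s := by
        rw [show (3 : ℤ) = 1 + 1 + 1 by norm_num, zpow_add, zpow_add, zpow_one]
      rw [this, C.s_sq]
    rw [h6, h7, hk'] at h4
    have h8 : r * s = (r * s * r⁻¹) * r := by group
    rw [h8, ← h4, mul_assoc]

variable {K V : Type*} [Field K] [AddCommGroup V] [Module K V] [FiniteDimensional K V]

/-- **dimension 8** -/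
theorem dim_eight [Finite G] (C : CA H N0 z s ψ) (h2 : (2 : K) ≠ 0) {i : K} (hi : i * i = -1) {R : Subgroup G}
    (hR : N0 ≤ R) {r : G} (hrR : r ∈ R) (hrH : r ∈ H) (hrN : r ∈ normalizer (N0 : Set G)) (hr : r * s ≠ s * r)
    (P : ↥R →* (V →ₗ[K] V)) (hz : P ⟨z, hR C.zN⟩ ≠ 1) :
    8 ≤ finrank K V ∧ (finrank K V = 8 → P ⟨z, hR C.zN⟩ = -1) := by
  obtain ⟨a, ha, b, hb, c, hc, d, hd, haa, hcc, hab, hcd, hac, had⟩ := C.exists_gens
  have hrs := C.conj_s hrH hrN hr
  -- the operators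
  have hPm : ∀ {x y w : G} (hx : x ∈ R) (hy : y ∈ R) (hw : w ∈ R), x * y = w → ∀ v : V,
      P ⟨x, hx⟩ (P ⟨y, hy⟩ v) = P ⟨w, hw⟩ v := by
    intro x y w hx hy hw h v
    rw [← Module.End.mul_apply, ← map_mul]
    congr 2
    exact Subtype.ext h
  have hinj : ∀ x : ↥R, Function.Injective (P x) := by
    intro x u v huv
    have h3 : ∀ w : V, P x⁻¹ (P x w) = w := by
      intro w
      rw [← Module.End.mul_apply, ← map_mul, inv_mul_cancel, map_one, Module.End.one_apply]
    rw [← h3 u, ← h3 v, huv]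
  set Z := P ⟨z, hR C.zN⟩ with hZ
  set S := P ⟨s, hR C.sN⟩ with hS
  set A := P ⟨a, hR ha⟩ with hA
  set B := P ⟨b, hR hb⟩ with hB
  set Cc := P ⟨c, hR hc⟩ with hCc
  set D := P ⟨d, hR hd⟩ with hD
  set Rr := P ⟨r, hrR⟩ with hRr
  have oneR : (1 : G) ∈ R := one_mem R
  have P1 : ∀ v : V, P ⟨1, oneR⟩ v = v := by
    intro v
    have : P ⟨1, oneR⟩ = 1 := map_one P
    rw [this, Module.End.one_apply]
  have SS : ∀ v, S (S v) = Z v := hPm _ _ _ C.s_sq
  have ZZ : ∀ v, Z (Z v) = v := fun v => by rw [hPm _ _ oneR C.z_sq v, P1]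
  have AA : ∀ v, A (A v) = v := fun v => by rw [hPm _ _ oneR haa v, P1]
  have CC : ∀ v, Cc (Cc v) = v := fun v => by rw [hPm _ _ oneR hcc v, P1]
  have com : ∀ {x y : G} (hx : x ∈ R) (hy : y ∈ R), x * y = y * x → ∀ v : V,
      P ⟨x, hx⟩ (P ⟨y, hy⟩ v) = P ⟨y, hy⟩ (P ⟨x, hx⟩ v) := by
    intro x y hx hy h v
    rw [hPm hx hy (mul_mem hx hy) rfl v, hPm hy hx (mul_mem hx hy) h.symm v]
  have anti : ∀ {x y : G} (hx : x ∈ R) (hy : y ∈ R), x * y = z * (y * x) → ∀ v : V,
      P ⟨x, hx⟩ (P ⟨y, hy⟩ v) = Z (P ⟨y, hy⟩ (P ⟨x, hx⟩ v)) := by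
    intro x y hx hy h v
    rw [hPm hx hy (mul_mem hx hy) rfl v, hPm hy hx (mul_mem hy hx) rfl v,
      hPm (hR C.zN) (mul_mem hy hx) (mul_mem hx hy) h.symm v]
  have AS : ∀ v, A (S v) = S (A v) := com _ _ (C.s_cen a ha)
  have BS : ∀ v, B (S v) = S (B v) := com _ _ (C.s_cen b hb)
  have CS : ∀ v, Cc (S v) = S (Cc v) := com _ _ (C.s_cen c hc)
  have DS : ∀ v, D (S v) = S (D v) := com _ _ (C.s_cen d hd)
  have AC : ∀ v, A (Cc v) = Cc (A v) := com _ _ hac
  have AD : ∀ v, A (D v) = D (A v) := com _ _ had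
  have AB : ∀ v, A (B v) = Z (B (A v)) := anti _ _ hab
  have CD : ∀ v, Cc (D v) = Z (D (Cc v)) := anti _ _ hcd
  have RS : ∀ v, Rr (S v) = Z (S (Rr v)) := anti _ _ hrs
  have ZS : ∀ v, Z (S v) = S (Z v) := fun v => by rw [← SS, ← SS]
  -- eigenspaces of `S`
  have key : ∀ ε : K, ε * ε = -1 → 4 ∣ finrank K ↥(LinearMap.ker (S - ε • (1 : V →ₗ[K] V))) := by
    intro ε hε
    set U := LinearMap.ker (S - ε • (1 : V →ₗ[K] V)) with hU
    have mU : ∀ u, u ∈ U ↔ S u = ε • u := by
      intro u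
      rw [hU, LinearMap.mem_ker, LinearMap.sub_apply, LinearMap.smul_apply, Module.End.one_apply, sub_eq_zero]
    have ZU : ∀ u ∈ U, Z u = -u := by
      intro u hu
      rw [mU] at hu
      rw [← SS, hu, map_smul, hu, smul_smul, hε, neg_one_smul]
    have inv : ∀ X : V →ₗ[K] V, (∀ v, X (S v) = S (X v)) → ∀ u ∈ U, X u ∈ U := by
      intro X hX u hu
      rw [mU] at hu ⊢
      rw [← hX, hu, map_smul]
    have h3 := half h2 A B (hinj _) U (inv A AS) (inv B BS) (fun u _ => AA u) (fun u hu => by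
      rw [AB, ZU _ (inv B BS _ (inv A AS u hu))])
    set U1 := U ⊓ LinearMap.ker (A - 1) with hU1
    have mU1 : ∀ u, u ∈ U1 ↔ u ∈ U ∧ A u = u := by
      intro u
      rw [hU1, Submodule.mem_inf]
      refine and_congr Iff.rfl ?_
      rw [LinearMap.mem_ker, LinearMap.sub_apply, Module.End.one_apply, sub_eq_zero]
    have h4 := half h2 Cc D (hinj _) U1
      (fun u hu => by
        rw [mU1] at hu ⊢
        exact ⟨inv Cc CS u hu.1, by rw [AC, hu.2]⟩)
      (fun u hu => by
        rw [mU1] at hu ⊢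
        exact ⟨inv D DS u hu.1, by rw [AD, hu.2]⟩)
      (fun u _ => CC u) (fun u hu => by
        rw [mU1] at hu
        rw [CD, ZU _ (inv D DS _ (inv Cc CS u hu.1))])
    rw [h3, h4]
    exact ⟨_, by ring⟩
  have hi' : (-i) * (-i) = -1 := by rw [neg_mul_neg, hi]
  set U := LinearMap.ker (S - i • (1 : V →ₗ[K] V)) with hU
  set W := LinearMap.ker (S - (-i) • (1 : V →ₗ[K] V)) with hW
  have mU : ∀ u, u ∈ U ↔ S u = i • u := by
    intro u
    rw [hU, LinearMap.mem_ker, LinearMap.sub_apply, LinearMap.smul_apply, Module.End.one_apply, sub_eq_zero]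
  have mW : ∀ u, u ∈ W ↔ S u = (-i) • u := by
    intro u
    rw [hW, LinearMap.mem_ker, LinearMap.sub_apply, LinearMap.smul_apply, Module.End.one_apply, sub_eq_zero]
  have ZU : ∀ u ∈ U, Z u = -u := by
    intro u hu
    rw [mU] at hu
    rw [← SS, hu, map_smul, hu, smul_smul, hi, neg_one_smul]
  have ZW : ∀ u ∈ W, Z u = -u := by
    intro u hu
    rw [mW] at hu
    rw [← SS, hu, map_smul, hu, smul_smul, hi', neg_one_smul]
  -- `S (Rr u)`
  have SR : ∀ u, S (Rr u) = Z (Rr (S u)) := by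
    intro u
    rw [RS, ZZ]
  have RU : ∀ u ∈ U, Rr u ∈ W := by
    intro u hu
    rw [mW, SR, (mU u).1 hu, map_smul, map_smul]
    have h5 : Z (Rr u) = -(Rr u) := by
      have h6 : Z (Rr u) = Rr (Z u) := by
        have := com (hR C.zN) hrR (C.z_cen r hrH).symm u
        exact this
      rw [h6, ZU u hu, map_neg]
    rw [h5, smul_neg, neg_smul]
  have RW : ∀ u ∈ W, Rr u ∈ U := by
    intro u hu
    rw [mU, SR, (mW u).1 hu, map_smul, map_smul]
    have h5 : Z (Rr u) = -(Rr u) := by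
      have h6 : Z (Rr u) = Rr (Z u) := by
        have := com (hR C.zN) hrR (C.z_cen r hrH).symm u
        exact this
      rw [h6, ZW u hu, map_neg]
    rw [h5, smul_neg, neg_smul, neg_neg]
  have e1 : finrank K U = finrank K W :=
    le_antisymm (finrank_le_of_inj Rr (hinj _) RU) (finrank_le_of_inj Rr (hinj _) RW)
  have d4 := key i hi
  -- `U ⊓ W = ⊥`
  have hinf : U ⊓ W = ⊥ := by
    rw [eq_bot_iff]
    rintro u ⟨hu1, hu2⟩
    have h5 := (mU u).1 hu1
    have h6 := (mW u).1 hu2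
    rw [h5] at h6
    have h7 : (2 : K) • (i • u) = 0 := by
      rw [two_smul]
      nth_rewrite 1 [h6]
      rw [neg_smul, neg_add_cancel]
    have h8 := (smul_eq_zero.1 h7).resolve_left h2
    have hi0 : i ≠ 0 := by
      rintro rfl
      rw [mul_zero] at hi
      exact absurd hi (by simp)
    exact (smul_eq_zero.1 h8).resolve_left hi0
  have hsum := Submodule.finrank_sup_add_finrank_inf_eq U W
  rw [hinf, finrank_bot, add_zero, ← e1] at hsum
  have hle := Submodule.finrank_le (U ⊔ W)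
  -- `U ≠ ⊥`
  have hU0 : finrank K U ≠ 0 := by
    intro h0
    have hUb : U = ⊥ := Submodule.finrank_eq_zero.1 h0
    have hWb : W = ⊥ := Submodule.finrank_eq_zero.1 (by rw [← e1, h0])
    apply hz
    ext v
    rw [Module.End.one_apply]
    -- `w = v - Z v`
    have hw : Z (v - Z v) = -(v - Z v) := by rw [map_sub, ZZ]; abel
    have h5 : S (v - Z v) + i • (v - Z v) ∈ U := by
      rw [mU, map_add, map_smul, SS, hw, smul_add, smul_smul, hi, neg_one_smul]
      abel
    rw [hUb, Submodule.mem_bot] at h5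
    have h6 : (v - Z v) ∈ W := by
      rw [mW, neg_smul]
      exact eq_neg_of_add_eq_zero_left h5
    rw [hWb, Submodule.mem_bot, sub_eq_zero] at h6
    exact h6.symm
  obtain ⟨k, hk⟩ := d4
  have hk' : finrank K U = 4 * k := hk
  refine ⟨by omega, fun h8 => ?_⟩
  have htop : U ⊔ W = ⊤ := Submodule.eq_top_of_finrank_eq (by omega)
  ext v
  have hv : v ∈ U ⊔ W := by rw [htop]; trivial
  obtain ⟨x, hx, y, hy, rfl⟩ := Submodule.mem_sup.1 hv
  rw [map_add, ZU x hx, ZW y hy, LinearMap.neg_apply, Module.End.one_apply]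
  abel

end CA

end Cfsg.Agent.H314.Co3
end
end

-- part: H169/Co3/Dvd8
section
prune_inst 0x40530000041620200000005922100004400000100004300000800050205080662000226003c10051412008c0440300020031000000000000000000400411c018000a802023140010022009e000804000000000000000000000000000000000000000000000
set_option linter.all false
open scoped Cfsg.Agent.FastGrp

-- part: H169/Co3/NN
section
/-!
# S1920: the group `N0 = 4 ∘ 2^{1+4}` (helper169, after helper314)

`NN N0 z s` : the group-theoretic part of the configurations `CA`, `CB`, `Kit`; `NN.exists_gens` : two commuting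
anticommuting pairs.
-/

set_option autoImplicit false

open Subgroup

namespace Cfsg.Agent.H169.Co3

open Cfsg.Agent.H314.Co3 (card_le_two_mul)
open Cfsg.Agent.H415.C3 (Kit)

variable {G : Type*} [Group G]

/-- `N0 = 4 ∘ 2^{1+4}` with centre `⟨s⟩` -/
structure NN (N0 : Subgroup G) (z s : G) : Prop where
  card : Nat.card N0 = 64
  sN : s ∈ N0
  s_sq : s * s = z
  z_sq : z * z = 1
  z_ne : z ≠ 1
  s_cen : ∀ n ∈ N0, n * s = s * n
  sq : ∀ n ∈ N0, n * n = 1 ∨ n * n = z
  comm : ∀ n ∈ N0, ∀ m ∈ N0, n * m = m * n ∨ n * m = z * (m * n)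
  cen : ∀ n ∈ N0, (∀ m ∈ N0, n * m = m * n) → n ∈ zpowers s

theorem _root_.Cfsg.Agent.H415.C3.Kit.nn {N0 A E : Subgroup G} {z s x r : G} {ψ : ↥A →* Equiv.Perm (Fin 6)}
    (K : Kit N0 A E z s x r ψ) : NN N0 z s :=
  ⟨K.card, K.sN, K.s_sq, K.z_sq, K.z_ne, K.s_cen, K.sq, K.comm, K.cen⟩

namespace NN

variable {N0 : Subgroup G} {z s : G}

theorem zN (C : NN N0 z s) : z ∈ N0 := by
  rw [← C.s_sq]; exact mul_mem C.sN C.sN

theorem z_comm (C : NN N0 z s) {n : G} (hn : n ∈ N0) : n * z = z * n := by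
  rw [← C.s_sq, ← mul_assoc, C.s_cen n hn, mul_assoc, C.s_cen n hn, ← mul_assoc]

theorem s_pow (C : NN N0 z s) : s ^ 4 = 1 := by
  have : s ^ 4 = (s * s) * (s * s) := by simp only [pow_succ, pow_zero, one_mul, mul_assoc]
  rw [this, C.s_sq, C.z_sq]

theorem card_s [Finite G] (C : NN N0 z s) : Nat.card (zpowers s) ≤ 4 := by
  rw [Nat.card_zpowers]
  exact orderOf_le_of_pow_eq_one (by norm_num) C.s_pow

/-- the commutator as an alternative -/
theorem comm_mul (C : NN N0 z s) {n a b : G} (hn : n ∈ N0) (ha : a ∈ N0) (hb : b ∈ N0)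
    (h1 : n * a ≠ a * n) (h2 : n * b ≠ b * n) : n * (a⁻¹ * b) = a⁻¹ * b * n := by
  have e1 := (C.comm n hn a ha).resolve_left h1
  have e2 := (C.comm n hn b hb).resolve_left h2
  have hz := C.z_comm ha
  have h3 : a⁻¹ * n = z * (n * a⁻¹) := by
    have h4 : n * a⁻¹ = z * (a⁻¹ * n) := by
      have h5 : a * (n * a⁻¹) = a * (z * (a⁻¹ * n)) := by
        calc a * (n * a⁻¹) = (z * z) * (a * n) * a⁻¹ := by rw [C.z_sq]; group
          _ = z * (z * (a * n)) * a⁻¹ := by group
          _ = z * (n * a) * a⁻¹ := by rw [← e1]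
          _ = z * n := by group
          _ = (a * z) * a⁻¹ * n := by rw [hz]; group
          _ = a * (z * (a⁻¹ * n)) := by group
      exact mul_left_cancel h5
    rw [h4, ← mul_assoc z z, C.z_sq, one_mul]
  have h6 : n * a⁻¹ = z * (a⁻¹ * n) := by
    rw [h3, ← mul_assoc z z, C.z_sq, one_mul]
  have hz' : a⁻¹ * z = z * a⁻¹ := by
    have := C.z_comm (inv_mem ha)
    exact this
  calc n * (a⁻¹ * b) = n * a⁻¹ * b := by group
    _ = z * (a⁻¹ * n) * b := by rw [h6]
    _ = z * a⁻¹ * (n * b) := by group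
    _ = z * a⁻¹ * (z * (b * n)) := by rw [e2]
    _ = z * (a⁻¹ * z) * (b * n) := by group
    _ = z * (z * a⁻¹) * (b * n) := by rw [hz']
    _ = (z * z) * (a⁻¹ * b * n) := by group
    _ = a⁻¹ * b * n := by rw [C.z_sq, one_mul]

/-- **abelian subgroups of `N0` have order at most 16** -/
theorem card_abel [Finite G] (C : NN N0 z s) {D : Subgroup G} (hD : D ≤ N0)
    (hc : ∀ x ∈ D, ∀ y ∈ D, x * y = y * x) : Nat.card D ≤ 16 := by
  by_contra hlt
  have h1 : Nat.card D ∣ 64 := by rw [← C.card]; exact Subgroup.card_dvd_of_le hD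
  have h2 : Nat.card D = 32 ∨ Nat.card D = 64 := by
    have h3 : Nat.card D ≤ 64 := Nat.le_of_dvd (by norm_num) h1
    obtain ⟨k, hk⟩ := h1
    have : k < 4 := by
      by_contra hk4
      have : 4 * 17 ≤ k * Nat.card D := Nat.mul_le_mul (by omega) (by omega)
      rw [mul_comm k] at this
      omega
    interval_cases k <;> omega
  rcases h2 with h2 | h2
  · -- index two
    have hlt2 : ¬ N0 ≤ D := fun h => by
      have h3 := Subgroup.card_le_of_le h
      rw [C.card, h2] at h3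
      omega
    obtain ⟨n, hn, hnD⟩ := SetLike.not_le_iff_exists.1 hlt2
    have hidx : (D.subgroupOf N0).index = 2 := by
      have h3 := Subgroup.card_mul_index (D.subgroupOf N0)
      rw [Nat.card_congr (Subgroup.subgroupOfEquivOfLe hD).toEquiv, h2, C.card] at h3
      omega
    have hmul : ∀ a ∈ N0, ∀ b ∈ N0, (a * b ∈ D ↔ (a ∈ D ↔ b ∈ D)) := by
      intro a ha b hb
      have := Subgroup.mul_mem_iff_of_index_two hidx (a := ⟨a, ha⟩) (b := ⟨b, hb⟩)
      simpa [Subgroup.mem_subgroupOf] using this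
    let E : Subgroup G := D ⊓ centralizer {n}
    have hE : ∀ x, x ∈ E ↔ x ∈ D ∧ n * x = x * n := by
      intro x
      simp only [E, mem_inf, mem_centralizer_singleton_iff]
      constructor
      · rintro ⟨h3, h4⟩; exact ⟨h3, h4.symm⟩
      · rintro ⟨h3, h4⟩; exact ⟨h3, h4.symm⟩
    have h4 := card_le_two_mul (D := D) (E := E) inf_le_left (by
      intro a ha b hb ha' hb'
      rw [hE] at ha' hb' ⊢
      refine ⟨mul_mem (inv_mem ha) hb, C.comm_mul hn (hD ha) (hD hb) (fun h => ha' ⟨ha, h⟩) (fun h => hb' ⟨hb, h⟩)⟩)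
    have h5 : E ≤ zpowers s := by
      intro x hx
      rw [hE] at hx
      refine C.cen x (hD hx.1) fun m hm => ?_
      by_cases hmD : m ∈ D
      · exact hc x hx.1 m hmD
      · have h6 : n⁻¹ * m ∈ D := by
          rw [hmul _ (inv_mem hn) _ hm, inv_mem_iff]
          exact ⟨fun h => absurd h hnD, fun h => absurd h hmD⟩
        have h7 := hc x hx.1 _ h6
        have h8 : x * n = n * x := hx.2.symm
        calc x * m = (x * n) * (n⁻¹ * m) := by group
          _ = n * (x * (n⁻¹ * m)) := by rw [h8]; group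
          _ = n * ((n⁻¹ * m) * x) := by rw [h7]
          _ = m * x := by group
    have h6 := (Subgroup.card_le_of_le h5).trans C.card_s
    omega
  · have h3 : D = N0 := Subgroup.eq_of_le_of_card_ge hD (by rw [C.card, h2])
    have h4 : N0 ≤ zpowers s := fun x hx => C.cen x hx fun m hm => hc x (by rw [h3]; exact hx) m (by rw [h3]; exact hm)
    have h5 := (Subgroup.card_le_of_le h4).trans C.card_s
    rw [C.card] at h5
    omega


/-- a coset of `⟨s⟩` contains an involution -/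
theorem exists_sq (C : NN N0 z s) {n : G} (hn : n ∈ N0) :
    ∃ m ∈ N0, m * m = 1 ∧ (m = n ∨ m = n * s) := by
  rcases C.sq n hn with h | h
  · exact ⟨n, hn, h, Or.inl rfl⟩
  · refine ⟨n * s, mul_mem hn C.sN, ?_, Or.inr rfl⟩
    calc n * s * (n * s) = n * (s * n) * s := by group
      _ = n * (n * s) * s := by rw [C.s_cen n hn]
      _ = (n * n) * (s * s) := by group
      _ = 1 := by rw [h, C.s_sq, C.z_sq]

theorem s_ne (C : NN N0 z s) {n : G} (_hn : n ∈ N0) {m : G} (hm : m ∈ N0) (h : n * m ≠ m * n) :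
    (n * s) * m ≠ m * (n * s) := by
  intro h1
  apply h
  have h2 : (n * s) * m = n * m * s := by rw [mul_assoc, ← C.s_cen m hm]; group
  rw [h2, ← mul_assoc] at h1
  exact mul_right_cancel h1

/-- generators -/
theorem exists_gens [Finite G] (C : NN N0 z s) : ∃ a ∈ N0, ∃ b ∈ N0, ∃ c ∈ N0, ∃ d ∈ N0, a * a = 1 ∧ c * c = 1 ∧
    a * b = z * (b * a) ∧ c * d = z * (d * c) ∧ a * c = c * a ∧ a * d = d * a := by
  -- `a`
  have h1 : ∃ a0 ∈ N0, ∃ b ∈ N0, a0 * b ≠ b * a0 := by
    by_contra hcon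
    push Not at hcon
    have := C.card_abel le_rfl hcon
    rw [C.card] at this
    omega
  obtain ⟨a0, ha0, b, hb, hab⟩ := h1
  obtain ⟨a, ha, haa, hae⟩ := C.exists_sq ha0
  have hab' : a * b ≠ b * a := by
    rcases hae with rfl | rfl
    · exact hab
    · exact C.s_ne ha0 hb hab
  -- the centraliser of `a`
  let E : Subgroup G := N0 ⊓ centralizer {a}
  have hE : ∀ x, x ∈ E ↔ x ∈ N0 ∧ a * x = x * a := by
    intro x
    simp only [E, mem_inf, mem_centralizer_singleton_iff]
    constructor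
    · rintro ⟨h3, h4⟩; exact ⟨h3, h4.symm⟩
    · rintro ⟨h3, h4⟩; exact ⟨h3, h4.symm⟩
  have h4 := card_le_two_mul (D := N0) (E := E) inf_le_left (by
    intro x hx y hy hx' hy'
    rw [hE] at hx' hy' ⊢
    exact ⟨mul_mem (inv_mem hx) hy, C.comm_mul ha hx hy (fun h => hx' ⟨hx, h⟩) (fun h => hy' ⟨hy, h⟩)⟩)
  rw [C.card] at h4
  have h5 : ∃ c0 ∈ E, ∃ d ∈ E, c0 * d ≠ d * c0 := by
    by_contra hcon
    push Not at hcon
    have := C.card_abel (D := E) inf_le_left hcon
    omega
  obtain ⟨c0, hc0, d, hd, hcd⟩ := h5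
  rw [hE] at hc0 hd
  obtain ⟨c, hc, hcc, hce⟩ := C.exists_sq hc0.1
  have hcd' : c * d ≠ d * c := by
    rcases hce with rfl | rfl
    · exact hcd
    · exact C.s_ne hc0.1 hd.1 hcd
  have hac : a * c = c * a := by
    rcases hce with rfl | rfl
    · exact hc0.2
    · calc a * (c0 * s) = (a * c0) * s := by group
        _ = c0 * (a * s) := by rw [hc0.2]; group
        _ = c0 * s * a := by rw [C.s_cen a ha]; group
  exact ⟨a, ha, b, hb, c, hc, d, hd.1, haa, hcc, (C.comm a ha b hb).resolve_left hab',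
    (C.comm c hc d hd.1).resolve_left hcd', hac, hd.2⟩


end NN

end Cfsg.Agent.H169.Co3
end

-- part: H169/Co3/Dvd8
section
/-!
# S1920: `8 ∣ dim V` for a representation of `C_G(z)` with `z ↦ -1` (helper169)

`dvd_eight` : `s` has the eigenvalues `i`, `-i` with the same multiplicity (`r` inverts `s`), and `N0` acts on each
eigenspace with two commuting anticommuting pairs of involutions.
-/

set_option autoImplicit false

open Subgroup Module

namespace Cfsg.Agent.H169.Co3

open Cfsg.Agent.H314.Co3 (card_le_two_mul finrank_le_of_inj half)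
open Cfsg.Agent.H415.C3 (Kit)

variable {G : Type*} [Group G] {k V : Type*} [Field k] [AddCommGroup V] [Module k V] [FiniteDimensional k V]

/-- **`8 ∣ dim V`**, general form: `R ≥ N0`, `r ∈ R` anticommutes with `s`. -/
theorem dvd_eight_of [Finite G] {N0 R : Subgroup G} {z s r : G} (C : NN N0 z s) (h2 : (2 : k) ≠ 0) {i : k}
    (hi : i * i = -1) (hR : N0 ≤ R) (hrR : r ∈ R) (hrs : r * s = z * (s * r)) (P : ↥R →* (V →ₗ[k] V))
    (hz : z ∈ R) (hPz : ∀ v, P ⟨z, hz⟩ v = -v) : 8 ∣ finrank k V := by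
  obtain ⟨a, ha, b, hb, c, hc, d, hd, haa, hcc, hab, hcd, hac, had⟩ := C.exists_gens
  have hPm : ∀ {x y w : G} (hx : x ∈ R) (hy : y ∈ R) (hw : w ∈ R), x * y = w → ∀ v : V,
      P ⟨x, hx⟩ (P ⟨y, hy⟩ v) = P ⟨w, hw⟩ v := by
    intro x y w hx hy hw h v
    rw [← Module.End.mul_apply, ← map_mul]
    congr 2
    exact Subtype.ext h
  have hinj : ∀ x : ↥R, Function.Injective (P x) := by
    intro x u v huv
    have h3 : ∀ w : V, P x⁻¹ (P x w) = w := by
      intro w
      rw [← Module.End.mul_apply, ← map_mul, inv_mul_cancel, map_one, Module.End.one_apply]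
    rw [← h3 u, ← h3 v, huv]
  set Z := P ⟨z, hz⟩ with hZ
  set S := P ⟨s, hR C.sN⟩ with hS
  set A := P ⟨a, hR ha⟩ with hA
  set B := P ⟨b, hR hb⟩ with hB
  set Cc := P ⟨c, hR hc⟩ with hCc
  set D := P ⟨d, hR hd⟩ with hD
  set Rr := P ⟨r, hrR⟩ with hRr
  have oneR : (1 : G) ∈ R := one_mem R
  have P1 : ∀ v : V, P ⟨1, oneR⟩ v = v := by
    intro v
    have : P ⟨1, oneR⟩ = 1 := map_one P
    rw [this, Module.End.one_apply]
  have SS : ∀ v, S (S v) = -v := fun v => by rw [hPm _ _ hz C.s_sq v, hPz]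
  have AA : ∀ v, A (A v) = v := fun v => by rw [hPm _ _ oneR haa v, P1]
  have CC : ∀ v, Cc (Cc v) = v := fun v => by rw [hPm _ _ oneR hcc v, P1]
  have com : ∀ {x y : G} (hx : x ∈ R) (hy : y ∈ R), x * y = y * x → ∀ v : V,
      P ⟨x, hx⟩ (P ⟨y, hy⟩ v) = P ⟨y, hy⟩ (P ⟨x, hx⟩ v) := by
    intro x y hx hy h v
    rw [hPm hx hy (mul_mem hx hy) rfl v, hPm hy hx (mul_mem hx hy) h.symm v]
  have anti : ∀ {x y : G} (hx : x ∈ R) (hy : y ∈ R), x * y = z * (y * x) → ∀ v : V,
      P ⟨x, hx⟩ (P ⟨y, hy⟩ v) = -(P ⟨y, hy⟩ (P ⟨x, hx⟩ v)) := by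
    intro x y hx hy h v
    rw [hPm hx hy (mul_mem hx hy) rfl v, hPm hy hx (mul_mem hy hx) rfl v, ← hPz,
      hPm hz (mul_mem hy hx) (mul_mem hx hy) h.symm v]
  have AS : ∀ v, A (S v) = S (A v) := com _ _ (C.s_cen a ha)
  have BS : ∀ v, B (S v) = S (B v) := com _ _ (C.s_cen b hb)
  have CS : ∀ v, Cc (S v) = S (Cc v) := com _ _ (C.s_cen c hc)
  have DS : ∀ v, D (S v) = S (D v) := com _ _ (C.s_cen d hd)
  have AC : ∀ v, A (Cc v) = Cc (A v) := com _ _ hac
  have AD : ∀ v, A (D v) = D (A v) := com _ _ had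
  have AB : ∀ v, A (B v) = -(B (A v)) := anti _ _ hab
  have CD : ∀ v, Cc (D v) = -(D (Cc v)) := anti _ _ hcd
  have RS : ∀ v, Rr (S v) = -(S (Rr v)) := anti _ _ hrs
  -- eigenspaces of `S`
  have key : ∀ ε : k, ε * ε = -1 → 4 ∣ finrank k ↥(LinearMap.ker (S - ε • (1 : V →ₗ[k] V))) := by
    intro ε hε
    set U := LinearMap.ker (S - ε • (1 : V →ₗ[k] V)) with hU
    have mU : ∀ u, u ∈ U ↔ S u = ε • u := by
      intro u
      rw [hU, LinearMap.mem_ker, LinearMap.sub_apply, LinearMap.smul_apply, Module.End.one_apply, sub_eq_zero]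
    have inv : ∀ X : V →ₗ[k] V, (∀ v, X (S v) = S (X v)) → ∀ u ∈ U, X u ∈ U := by
      intro X hX u hu
      rw [mU] at hu ⊢
      rw [← hX, hu, map_smul]
    have h3 := half h2 A B (hinj _) U (inv A AS) (inv B BS) (fun u _ => AA u) (fun u hu => AB u)
    set U1 := U ⊓ LinearMap.ker (A - 1) with hU1
    have mU1 : ∀ u, u ∈ U1 ↔ u ∈ U ∧ A u = u := by
      intro u
      rw [hU1, Submodule.mem_inf]
      refine and_congr Iff.rfl ?_
      rw [LinearMap.mem_ker, LinearMap.sub_apply, Module.End.one_apply, sub_eq_zero]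
    have h4 := half h2 Cc D (hinj _) U1
      (fun u hu => by
        rw [mU1] at hu ⊢
        exact ⟨inv Cc CS u hu.1, by rw [AC, hu.2]⟩)
      (fun u hu => by
        rw [mU1] at hu ⊢
        exact ⟨inv D DS u hu.1, by rw [AD, hu.2]⟩)
      (fun u _ => CC u) (fun u hu => CD u)
    rw [h3, h4]
    exact ⟨_, by ring⟩
  have hi' : (-i) * (-i) = -1 := by rw [neg_mul_neg, hi]
  have hi0 : i ≠ 0 := by
    rintro rfl
    rw [mul_zero] at hi
    exact absurd hi (by simp)
  set U := LinearMap.ker (S - i • (1 : V →ₗ[k] V)) with hU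
  set W := LinearMap.ker (S - (-i) • (1 : V →ₗ[k] V)) with hW
  have mU : ∀ u, u ∈ U ↔ S u = i • u := by
    intro u
    rw [hU, LinearMap.mem_ker, LinearMap.sub_apply, LinearMap.smul_apply, Module.End.one_apply, sub_eq_zero]
  have mW : ∀ u, u ∈ W ↔ S u = (-i) • u := by
    intro u
    rw [hW, LinearMap.mem_ker, LinearMap.sub_apply, LinearMap.smul_apply, Module.End.one_apply, sub_eq_zero]
  have SR : ∀ u, S (Rr u) = -(Rr (S u)) := by
    intro u
    rw [RS, neg_neg]
  have RU : ∀ u ∈ U, Rr u ∈ W := by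
    intro u hu
    rw [mW, SR, (mU u).1 hu, map_smul, neg_smul]
  have RW : ∀ u ∈ W, Rr u ∈ U := by
    intro u hu
    rw [mU, SR, (mW u).1 hu, map_smul, neg_smul, neg_neg]
  have e1 : finrank k U = finrank k W :=
    le_antisymm (finrank_le_of_inj Rr (hinj _) RU) (finrank_le_of_inj Rr (hinj _) RW)
  have d4 := key i hi
  have hinf : U ⊓ W = ⊥ := by
    rw [eq_bot_iff]
    rintro u ⟨hu1, hu2⟩
    have h5 := (mU u).1 hu1
    have h6 := (mW u).1 hu2
    rw [h5] at h6
    have h7 : (2 : k) • (i • u) = 0 := by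
      rw [two_smul]
      nth_rewrite 1 [h6]
      rw [neg_smul, neg_add_cancel]
    have h8 := (smul_eq_zero.1 h7).resolve_left h2
    exact (smul_eq_zero.1 h8).resolve_left hi0
  have htop : U ⊔ W = ⊤ := by
    rw [eq_top_iff]
    intro v _
    have hv : v = (2 : k)⁻¹ • (v + (-i) • S v) + (2 : k)⁻¹ • (v - (-i) • S v) := by
      rw [← smul_add]
      have : v + (-i) • S v + (v - (-i) • S v) = (2 : k) • v := by rw [two_smul]; abel
      rw [this, smul_smul, inv_mul_cancel₀ h2, one_smul]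
    rw [hv]
    refine Submodule.add_mem_sup (U.smul_mem _ ?_) (W.smul_mem _ ?_)
    · rw [mU, map_add, map_smul, SS, smul_add, smul_smul, neg_smul i (-v), smul_neg, neg_neg,
        show i * -i = 1 by rw [mul_neg, hi, neg_neg], one_smul, add_comm]
    · rw [mW, map_sub, map_smul, SS, smul_sub, smul_smul, neg_smul i (-v), smul_neg, neg_neg, hi', neg_smul, neg_smul,
        one_smul]
      abel
  have hsum := Submodule.finrank_sup_add_finrank_inf_eq U W
  rw [hinf, finrank_bot, add_zero, ← e1, htop, finrank_top] at hsum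
  obtain ⟨m, hm⟩ := d4
  have hm' : finrank k U = 4 * m := hm
  exact ⟨m, by omega⟩

/-- **DIM8 for a kit.** -/
theorem dvd_eight [Finite G] {N0 A E : Subgroup G} {z s x r : G} {ψ : ↥A →* Equiv.Perm (Fin 6)}
    (K : Kit N0 A E z s x r ψ) (h2 : (2 : k) ≠ 0) {i : k} (hi : i * i = -1)
    (ρ : ↥(centralizer ({z} : Set G)) →* (V ≃ₗ[k] V)) (hz : z ∈ centralizer ({z} : Set G))
    (hρz : ∀ v, ρ ⟨z, hz⟩ v = -v) : 8 ∣ finrank k V := by
  have hrs : r * s = z * (s * r) := by rw [K.r_s, K.s_inv, mul_assoc]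
  have hsr : s * r = z * (r * s) := by rw [hrs, ← mul_assoc, K.z_sq, one_mul]
  have hR : N0 ≤ centralizer ({z} : Set G) := by
    intro n hn
    rw [mem_centralizer_singleton_iff]
    exact K.z_comm (K.N_A hn)
  have hrz : r * z = z * r := by
    rw [← K.s_sq]
    calc r * (s * s) = (r * s) * s := by group
      _ = (s⁻¹ * r) * s := by rw [K.r_s]
      _ = s⁻¹ * (r * s) := by rw [mul_assoc]
      _ = s⁻¹ * (s⁻¹ * r) := by rw [K.r_s]
      _ = s⁻¹ * s⁻¹ * r := by rw [mul_assoc]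
      _ = s * s * r := by
        have : s⁻¹ * s⁻¹ = s * s := by
          rw [← mul_inv_rev, K.s_sq, inv_eq_iff_mul_eq_one]; exact K.z_sq
        rw [this]
  have hrR : r ∈ centralizer ({z} : Set G) := by
    rw [mem_centralizer_singleton_iff]; exact hrz
  exact dvd_eight_of K.nn h2 hi hR hrR hrs ((LinearEquiv.automorphismGroup.toLinearMapMonoidHom (R := k) (M := V)).comp ρ)
    hz hρz

end Cfsg.Agent.H169.Co3
end
end

-- part: H13/Co3/Tools
section
set_option linter.all false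
open scoped Cfsg.Agent.FastGrp

/-!
# S1920, case B: tools for the rows of Lie type (helper13)

`A = {g | [g, N0] ≤ ⟨z⟩}` is `Act z N0`.

* `psi C g hg` : the permutation induced by `g ∈ A`; `psi_mul`, `sign_psi` (even iff `g` commutes with `s`);
* `mem_N0_of_psi`, `mem_N0` : 2-elements of `A` trivial on `A₆` are in `N0`;
* `card_dvd`, `card_dvd_of_comm` : 2-subgroups of `A`;
* `conj_z`, `conj_s` : fusion of `n` and `n z`;
* `exists_perfect` : a perfect subgroup of `C(N0)` inducing `A₆`;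
* `no_pgl` : no element of `A` acts on `A₆` as an element of `PGL₂(9)` outside `PSL₂(9)`.
-/

set_option autoImplicit false

open Subgroup Equiv

namespace Cfsg.Agent.H13.Co3

open Cfsg.Agent.H738.C3

variable {G : Type*} [Group G]
variable {P N0 : Subgroup G} {z s : G} {ψ : ↥(normalizer (P : Set G)) →* Equiv.Perm (Fin 6)}

theorem memH (C : CB P N0 z s ψ) {g : G} (hg : Act z N0 g) : g ∈ normalizer (P : Set G) :=
  C.key ((act_iff C).1 hg)

theorem Act.mul' (C : CB P N0 z s ψ) {g h : G} (hg : Act z N0 g) (hh : Act z N0 h) : Act z N0 (g * h) :=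
  Act.mul (orderOf_z C) (C.PN C.zP) hg hh

theorem Act.inv' (C : CB P N0 z s ψ) {g : G} (hg : Act z N0 g) : Act z N0 g⁻¹ :=
  Act.inv (orderOf_z C) (C.PN C.zP) hg

theorem Act.z_comm (C : CB P N0 z s ψ) {g : G} (hg : Act z N0 g) : g * z = z * g :=
  Act.comm_z (orderOf_z C) (C.PN C.zP) hg

/-- the subgroup `A` -/
def AA (C : CB P N0 z s ψ) : Subgroup G where
  carrier := {g | Act z N0 g}
  one_mem' := Act.one
  mul_mem' := fun hg hh => Act.mul' C hg hh
  inv_mem' := fun hg => Act.inv' C hg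

theorem mem_AA (C : CB P N0 z s ψ) {g : G} : g ∈ AA C ↔ Act z N0 g := Iff.rfl

theorem normN (C : CB P N0 z s ψ) {g : G} (hg : Act z N0 g) : g ∈ normalizer (N0 : Set G) := by
  have hzN : z ∈ N0 := C.PN C.zP
  have key : ∀ g : G, Act z N0 g → ∀ n ∈ N0, g * n * g⁻¹ ∈ N0 := by
    intro g hg n hn
    have h1 : g * n * g⁻¹ * n⁻¹ ∈ N0 := (zpowers_le.2 hzN) (hg n hn)
    have e : g * n * g⁻¹ = g * n * g⁻¹ * n⁻¹ * n := by group
    rw [e]
    exact mul_mem h1 hn
  rw [mem_normalizer_iff]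
  intro n
  refine ⟨key g hg n, fun h => ?_⟩
  have h1 := key g⁻¹ (Act.inv' C hg) _ h
  have e : g⁻¹ * (g * n * g⁻¹) * g⁻¹⁻¹ = n := by group
  rwa [e] at h1

/-- the permutation induced by an element of `A` -/
def psi (C : CB P N0 z s ψ) : ↥(AA C) →* Equiv.Perm (Fin 6) :=
  ψ.comp (inclusion (fun _ hg => memH C hg))

theorem sign_psi (C : CB P N0 z s ψ) {g : G} (hg : g ∈ AA C) :
    Equiv.Perm.sign (psi C ⟨g, hg⟩) = 1 ↔ g * s = s * g :=
  C.inv_s ⟨g, memH C hg⟩ (normN C hg)

theorem N0_le_AA (C : CB P N0 z s ψ) : N0 ≤ AA C := fun _ hn => act_N C hn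

theorem psi_N0 (C : CB P N0 z s ψ) {n : G} (hn : n ∈ N0) : psi C ⟨n, N0_le_AA C hn⟩ = 1 := C.psi_N n hn

theorem comm_le_AA (C : CB P N0 z s ψ) {g : G} (h : ∀ n ∈ N0, g * n = n * g) : g ∈ AA C := act_of_comm h

theorem exists_even (C : CB P N0 z s ψ) {π : Equiv.Perm (Fin 6)} (hπ : Equiv.Perm.sign π = 1) :
    ∃ g : G, ∃ hg : g ∈ AA C, (∀ n ∈ N0, g * n = n * g) ∧ psi C ⟨g, hg⟩ = π := by
  obtain ⟨h, hh, hπ'⟩ := C.even π hπ
  exact ⟨h, comm_le_AA C hh, hh, hπ'⟩

/-- the order of a 2-subgroup of the kernel of `ψ` divides 64 -/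
theorem card_ker_dvd [Finite G] (C : CB P N0 z s ψ) {W : Subgroup G} (hW : IsPGroup 2 W)
    (hWH : W ≤ normalizer (P : Set G)) (hk : ∀ w (hw : w ∈ W), ψ ⟨w, hWH hw⟩ = 1) : Nat.card W ∣ 64 := by
  have : Fact (Nat.Prime 2) := ⟨Nat.prime_two⟩
  have hsupk : W.subgroupOf (normalizer (P : Set G)) ≤ ψ.ker := by
    rintro ⟨x, hx⟩ hx'
    exact hk x hx'
  obtain ⟨m, hm, hcard⟩ := C.ker_card
  have h2 : Nat.card ↥W ∣ 64 * m := by
    rw [← hcard, ← Nat.card_congr (subgroupOfEquivOfLe hWH).toEquiv]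
    exact card_dvd_of_le hsupk
  obtain ⟨k, hk⟩ := hW.exists_card_eq
  rw [hk] at h2 ⊢
  exact (Nat.Coprime.pow_left k (Nat.coprime_two_left.2 hm)).dvd_of_dvd_mul_right h2

/-- a 2-element of `A` inducing the identity is in `N0` -/
theorem mem_N0_of_psi [Finite G] (C : CB P N0 z s ψ) {g : G} (hg : g ∈ AA C) (h2 : ∃ k, g ^ 2 ^ k = 1)
    (hψ : psi C ⟨g, hg⟩ = 1) : g ∈ N0 := by
  have : Fact (Nat.Prime 2) := ⟨Nat.prime_two⟩
  have hW : IsPGroup 2 (zpowers g) := by
    obtain ⟨k, hk⟩ := h2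
    intro x
    obtain ⟨i, hi⟩ := mem_zpowers_iff.1 x.2
    refine ⟨k, Subtype.ext ?_⟩
    rw [SubmonoidClass.coe_pow, ← hi, OneMemClass.coe_one, ← zpow_natCast, ← zpow_mul, mul_comm, zpow_mul,
      zpow_natCast, hk, one_zpow]
  have hgN : zpowers g ≤ normalizer (N0 : Set G) := by
    rw [zpowers_le]; exact normN C hg
  have hsup : IsPGroup 2 (N0 ⊔ zpowers g : Subgroup G) := IsPGroup.to_sup_of_normal_left' C.N_two hW hgN
  have hsupA : N0 ⊔ zpowers g ≤ AA C := sup_le (N0_le_AA C) (by rw [zpowers_le]; exact hg)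
  have hsupH : N0 ⊔ zpowers g ≤ normalizer (P : Set G) := fun x hx => memH C (hsupA hx)
  have hk : ∀ w (hw : w ∈ N0 ⊔ zpowers g), ψ ⟨w, hsupH hw⟩ = 1 := by
    have h1 : N0 ⊔ zpowers g ≤ (psi C).ker.map (AA C).subtype := by
      apply sup_le
      · intro a ha
        exact ⟨⟨a, N0_le_AA C ha⟩, psi_N0 C ha, rfl⟩
      · rw [zpowers_le]
        exact ⟨⟨g, hg⟩, hψ, rfl⟩
    intro w hw
    obtain ⟨y, hy, hyx⟩ := h1 hw
    have : y = ⟨w, hsupA hw⟩ := Subtype.ext hyx
    rw [this] at hy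
    exact hy
  have h3 := card_ker_dvd C hsup hsupH hk
  have h4 : N0 = N0 ⊔ zpowers g := by
    apply Subgroup.eq_of_le_of_card_ge le_sup_left
    rw [C.card]
    exact Nat.le_of_dvd (by norm_num) h3
  have h5 : zpowers g ≤ N0 ⊔ zpowers g := le_sup_right
  rw [h4]
  exact h5 (mem_zpowers g)

/-- `ψ` is trivial on elements of `A` commuting modulo `z` with a group inducing `A₆` -/
theorem psi_eq_one (C : CB P N0 z s ψ) {g : G} (hg : g ∈ AA C) {K : Set G}
    (hKψ : ∀ π : Equiv.Perm (Fin 6), Equiv.Perm.sign π = 1 → ∃ k, ∃ hk : k ∈ AA C, k ∈ K ∧ psi C ⟨k, hk⟩ = π)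
    (hc : ∀ k ∈ K, g * k = k * g ∨ g * k = z * (k * g)) : psi C ⟨g, hg⟩ = 1 := by
  apply cent_alt_six
  intro a ha
  obtain ⟨k, hk, hkK, rfl⟩ := hKψ a (Perm.mem_alternatingGroup.1 ha)
  have hzA : z ∈ AA C := N0_le_AA C (C.PN C.zP)
  rw [← map_mul, ← map_mul]
  rcases hc k hkK with h | h
  · exact congrArg _ (Subtype.ext h.symm)
  · have h1 : (⟨g, hg⟩ : ↥(AA C)) * ⟨k, hk⟩ = ⟨z, hzA⟩ * (⟨k, hk⟩ * ⟨g, hg⟩) := Subtype.ext h
    rw [h1, map_mul (psi C) ⟨z, hzA⟩, psi_N0 C (C.PN C.zP), one_mul]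

/-- **(R1) + (R3)**: a 2-element of `A` commuting modulo `z` with a group inducing `A₆` is in `N0`. -/
theorem mem_N0 [Finite G] (C : CB P N0 z s ψ) {g : G} (hg : g ∈ AA C) (h2 : ∃ k, g ^ 2 ^ k = 1) {K : Set G}
    (hKψ : ∀ π : Equiv.Perm (Fin 6), Equiv.Perm.sign π = 1 → ∃ k, ∃ hk : k ∈ AA C, k ∈ K ∧ psi C ⟨k, hk⟩ = π)
    (hc : ∀ k ∈ K, g * k = k * g ∨ g * k = z * (k * g)) : g ∈ N0 :=
  mem_N0_of_psi C hg h2 (psi_eq_one C hg hKψ hc)

/-- **(R5)** a 2-subgroup of `A` has order dividing `2^10`, and `2^9` if it commutes with `s`. -/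
theorem card_dvd [Finite G] (C : CB P N0 z s ψ) {W : Subgroup G} (hW : IsPGroup 2 W) (hWA : W ≤ AA C) :
    Nat.card W ∣ 2 ^ 10 ∧ ((∀ w ∈ W, w * s = s * w) → Nat.card W ∣ 2 ^ 9) := by
  have : Fact (Nat.Prime 2) := ⟨Nat.prime_two⟩
  set f : ↥W →* Equiv.Perm (Fin 6) := (psi C).comp (inclusion hWA) with hf
  have h1 : Nat.card ↥W = Nat.card f.ker * Nat.card f.range := by
    rw [← Subgroup.card_mul_index f.ker, ← Nat.card_congr (QuotientGroup.quotientKerEquivRange f).toEquiv]
    rfl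
  have hker : Nat.card f.ker ∣ 64 := by
    have h2 : IsPGroup 2 (f.ker.map W.subtype : Subgroup G) := (hW.to_subgroup f.ker).map _
    have h3 : (f.ker.map W.subtype : Subgroup G) ≤ normalizer (P : Set G) := by
      rintro _ ⟨w, -, rfl⟩
      exact memH C (hWA w.2)
    have h4 := card_ker_dvd C h2 h3 (by
      rintro _ ⟨w, hw, rfl⟩
      exact hw)
    rwa [Nat.card_congr (f.ker.equivMapOfInjective W.subtype W.subtype_injective).toEquiv.symm] at h4
  have hrange : IsPGroup 2 f.range := hW.of_surjective f.rangeRestrict f.rangeRestrict_surjective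
  obtain ⟨a, ha⟩ := hrange.exists_card_eq
  constructor
  · have h5 : Nat.card f.range ∣ 720 := by
      have := Subgroup.card_subgroup_dvd_card f.range
      rwa [Nat.card_eq_fintype_card (α := Equiv.Perm (Fin 6)), Fintype.card_perm] at this
    have h6 : 2 ^ a ∣ 2 ^ 4 * 45 := by rw [← ha]; exact h5
    have h7 : 2 ^ a ∣ 2 ^ 4 := (Nat.Coprime.pow_left a (by norm_num)).dvd_of_dvd_mul_right h6
    rw [h1, ha]
    calc Nat.card f.ker * 2 ^ a ∣ 64 * 2 ^ 4 := mul_dvd_mul hker h7
      _ = 2 ^ 10 := by norm_num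
  · intro hc
    have h5 : f.range ≤ alternatingGroup (Fin 6) := by
      rintro _ ⟨w, rfl⟩
      rw [Perm.mem_alternatingGroup]
      exact (sign_psi C (hWA w.2)).2 (hc w w.2)
    have h6 : Nat.card f.range ∣ 360 := by
      have h := card_dvd_of_le h5
      have h4 : Nat.card (alternatingGroup (Fin 6)) = 360 := by
        rw [nat_card_alternatingGroup]; simp [Nat.factorial]
      rwa [h4] at h
    have h6' : 2 ^ a ∣ 2 ^ 3 * 45 := by rw [← ha]; exact h6
    have h7 : 2 ^ a ∣ 2 ^ 3 := (Nat.Coprime.pow_left a (by norm_num)).dvd_of_dvd_mul_right h6'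
    rw [h1, ha]
    calc Nat.card f.ker * 2 ^ a ∣ 64 * 2 ^ 3 := mul_dvd_mul hker h7
      _ = 2 ^ 9 := by norm_num

/-- **(R6)** a noncentral element `n` of `N0` is conjugate in `N0` to `z n`. -/
theorem conj_z (C : CB P N0 z s ψ) {n : G} (hn : n ∈ N0) (hs : n ∉ zpowers s) : ∃ m ∈ N0, m * n * m⁻¹ = z * n := by
  have h : ¬ ∀ m ∈ N0, n * m = m * n := fun h => hs (C.cen n hn h)
  push Not at h
  obtain ⟨m, hm, hne⟩ := h
  refine ⟨m, hm, ?_⟩
  rcases C.comm m hm n hn with h | h
  · exact absurd h.symm hne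
  · rw [h]; group

/-- `s` is inverted by an element of `N_H(N0)` inducing any given odd permutation. -/
theorem conj_s (C : CB P N0 z s ψ) {π : Equiv.Perm (Fin 6)} (hπ : Equiv.Perm.sign π ≠ 1) :
    ∃ r ∈ normalizer (P : Set G), ∃ hr : r ∈ normalizer (P : Set G), r ∈ normalizer (N0 : Set G) ∧
      ψ ⟨r, hr⟩ = π ∧ r * s * r⁻¹ = z * s := by
  obtain ⟨h, hN, hπ'⟩ := C.frat π
  refine ⟨h, h.2, h.2, hN, hπ', ?_⟩
  have hne : ¬ ((h : G) * s = s * h) := by
    rw [← C.inv_s h hN, hπ']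
    exact hπ
  -- `h s h⁻¹ ∈ Z(N0)`
  have hmem : (h : G) * s * (h : G)⁻¹ ∈ N0 := (mem_normalizer_iff.1 hN s).1 C.sN
  have hcen : ∀ m ∈ N0, ((h : G) * s * (h : G)⁻¹) * m = m * ((h : G) * s * (h : G)⁻¹) := by
    intro m hm
    have h1 : (h : G)⁻¹ * m * h ∈ N0 := by
      have h2 := (mem_normalizer_iff.1 (inv_mem hN) m).1 hm
      rwa [inv_inv] at h2
    have h3 := C.s_cen _ h1
    calc ((h : G) * s * (h : G)⁻¹) * m = h * (s * ((h : G)⁻¹ * m * h)) * (h : G)⁻¹ := by group
      _ = h * (((h : G)⁻¹ * m * h) * s) * (h : G)⁻¹ := by rw [h3]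
      _ = m * ((h : G) * s * (h : G)⁻¹) := by group
  obtain ⟨k, hk⟩ := mem_zpowers_iff.1 (C.cen _ hmem hcen)
  have hz4 : s ^ (4 : ℤ) = 1 := by
    have : s ^ (4 : ℤ) = (s * s) * (s * s) := by
      rw [show (4 : ℤ) = ((4 : ℕ) : ℤ) from rfl, zpow_natCast]
      simp only [pow_succ, pow_zero, one_mul, mul_assoc]
    rw [this, C.s_sq, C.z_sq]
  have hk2 : (k % 4 = 0 ∨ k % 4 = 1 ∨ k % 4 = 2 ∨ k % 4 = 3) := by omega
  have hk' : s ^ (k % 4) = (h : G) * s * (h : G)⁻¹ := by
    rw [← hk]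
    conv_rhs => rw [← Int.emod_add_mul_ediv k 4, zpow_add, zpow_mul, hz4, one_zpow, mul_one]
  have hs1 : s ≠ 1 := by
    intro h0
    apply C.z_ne
    rw [← C.s_sq, h0, one_mul]
  have hzz : (h : G) * z = z * h := C.z_cen h h.2
  rcases hk2 with h0 | h0 | h0 | h0 <;> rw [h0] at hk'
  · exfalso
    rw [zpow_zero] at hk'
    apply hs1
    have : s = (h : G)⁻¹ * 1 * h := by rw [hk']; group
    rw [this]; group
  · exfalso
    rw [zpow_one] at hk'
    apply hne
    rw [← mul_inv_eq_iff_eq_mul]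
    exact hk'.symm
  · exfalso
    have h5 : s ^ (2 : ℤ) = z := by
      have : s ^ (2 : ℤ) = s * s := by
        rw [show (2 : ℤ) = ((2 : ℕ) : ℤ) from rfl, zpow_natCast, pow_two]
      rw [this, C.s_sq]
    rw [h5] at hk'
    have h6 : s = (h : G)⁻¹ * z * h := by rw [hk']; group
    have h7 : s = z := by rw [h6, mul_assoc, ← hzz]; group
    apply C.z_ne
    rw [← C.s_sq, h7, C.z_sq]
  · rw [← hk', ← C.s_sq, show (3 : ℤ) = ((3 : ℕ) : ℤ) from rfl, zpow_natCast]
    simp only [pow_succ, pow_zero, one_mul]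

/-- `s` is conjugate to `z s`. -/
theorem exists_conj_s (C : CB P N0 z s ψ) :
    ∃ r ∈ normalizer (P : Set G), r ∈ normalizer (N0 : Set G) ∧ r * s * r⁻¹ = z * s := by
  obtain ⟨r, hr, _, hN, -, h⟩ := conj_s C (π := Equiv.swap 0 1) (by decide)
  exact ⟨r, hr, hN, h⟩

end Cfsg.Agent.H13.Co3
end

-- part: H754/Co3/Rep
section
prune_inst 0x41010410055220000000005902100004000000002004300000040000005080442000006002c3005101008880420300000031000800000000000000000011c018000000202b0480100220010000000000000000000000000000000000000000004000000000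
set_option linter.all false
open scoped Cfsg.Agent.FastGrp

-- part: H754/Co3/Frame
section
/-!
# S1920, case B: two commuting involutions of `N0` and elements separating them (helper754)
-/

set_option autoImplicit false

open Subgroup

namespace Cfsg.Agent.H754.Co3

open Cfsg.Agent.H13.Co3

variable {G : Type*} [Group G]
variable {P N0 : Subgroup G} {z s : G} {ψ : ↥(normalizer (P : Set G)) →* Equiv.Perm (Fin 6)}

theorem left_eq_mul₀' {z x : G} (h : x = z * x) : z = 1 := by
  have h1 : 1 * x = z * x := by rw [one_mul]; exact h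
  exact (mul_right_cancel h1).symm

theorem zN (C : CB P N0 z s ψ) : z ∈ N0 := C.PN C.zP

theorem z_comm (C : CB P N0 z s ψ) {n : G} (hn : n ∈ N0) : n * z = z * n := C.z_cen n (C.NH hn)

theorem order_s (C : CB P N0 z s ψ) : orderOf s = 4 := by
  have h4 : s ^ 4 = 1 := by
    have : s ^ 4 = (s * s) * (s * s) := by
      simp only [pow_succ, pow_zero, one_mul, mul_assoc]
    rw [this, C.s_sq, C.z_sq]
  have h2 : s ^ 2 ≠ 1 := by
    rw [pow_two, C.s_sq]
    exact C.z_ne
  have h : orderOf s ∣ 2 ^ 2 := orderOf_dvd_of_pow_eq_one (by rw [show (2 : ℕ) ^ 2 = 4 by norm_num, h4])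
  obtain ⟨j, hj, h'⟩ := (Nat.dvd_prime_pow Nat.prime_two).1 h
  interval_cases j
  · exfalso
    apply h2
    rw [pow_zero, orderOf_eq_one_iff] at h'
    rw [h', one_pow]
  · exfalso
    apply h2
    rw [pow_one] at h'
    rw [← h', pow_orderOf_eq_one]
  · rw [h']; norm_num

/-- an element of `N0`, modified by `s`, has square 1 -/
theorem fix_sq (C : CB P N0 z s ψ) {a : G} (ha : a ∈ N0) : ∃ a' ∈ N0, a' * a' = 1 ∧ (a' = a ∨ a' = s * a) := by
  rcases C.sq a ha with h | h
  · exact ⟨a, ha, h, Or.inl rfl⟩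
  · refine ⟨s * a, mul_mem C.sN ha, ?_, Or.inr rfl⟩
    have h1 := C.s_cen a ha
    calc s * a * (s * a) = s * (a * s) * a := by simp only [mul_assoc]
      _ = (s * s) * (a * a) := by rw [h1]; simp only [mul_assoc]
      _ = 1 := by rw [C.s_sq, h, C.z_sq]

/-- **a frame of `N0`** -/
theorem exists_frame [Finite G] (C : CB P N0 z s ψ) : ∃ a ∈ N0, ∃ b ∈ N0, ∃ m₁ ∈ N0, ∃ m₂ ∈ N0, a * a = 1 ∧ b * b = 1 ∧
    a * b = b * a ∧ a * m₁ = z * (m₁ * a) ∧ b * m₁ = m₁ * b ∧ a * m₂ = m₂ * a ∧ b * m₂ = z * (m₂ * b) := by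
  classical
  have hzs : Nat.card (zpowers s) = 4 := by rw [Nat.card_zpowers, order_s C]
  -- `a`
  obtain ⟨a₀, ha₀, ha₀s⟩ : ∃ a₀ ∈ N0, a₀ ∉ zpowers s := by
    by_contra hcon
    push Not at hcon
    have h1 : N0 ≤ zpowers s := hcon
    have h2 := Nat.le_of_dvd (by rw [hzs]; norm_num) (card_dvd_of_le h1)
    rw [hzs, C.card] at h2
    omega
  obtain ⟨a, ha, haa, ha'⟩ := fix_sq C ha₀
  have has : a ∉ zpowers s := by
    rcases ha' with rfl | rfl
    · exact ha₀s
    · intro h
      exact ha₀s ((Subgroup.mul_mem_cancel_left _ (mem_zpowers s)).1 h)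
  have anti : ∀ x ∈ N0, x ∉ zpowers s → ∃ m ∈ N0, x * m = z * (m * x) := by
    intro x hx hxs
    have h : ¬ ∀ m ∈ N0, x * m = m * x := fun h => hxs (C.cen x hx h)
    push Not at h
    obtain ⟨m, hm, hne⟩ := h
    exact ⟨m, hm, (C.comm x hx m hm).resolve_left hne⟩
  obtain ⟨n₁, hn₁, han₁⟩ := anti a ha has
  -- `b`
  obtain ⟨b₀, hb₀, hab₀, hb₀s, hb₀a⟩ : ∃ b₀ ∈ N0, a * b₀ = b₀ * a ∧ b₀ ∉ zpowers s ∧ a * b₀ ∉ zpowers s := by
    by_contra hcon
    push Not at hcon
    let Ca : Subgroup G := N0 ⊓ centralizer ({a} : Set G)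
    have hCa : ∀ x, x ∈ Ca ↔ x ∈ N0 ∧ a * x = x * a := by
      intro x
      rw [mem_inf, mem_centralizer_singleton_iff]
      exact ⟨fun h => ⟨h.1, h.2.symm⟩, fun h => ⟨h.1, h.2.symm⟩⟩
    have h1 : Nat.card Ca ≤ 8 := by
      let F : ↥(zpowers s) × Bool → G := fun p => if p.2 then (p.1 : G) else a⁻¹ * p.1
      have hsub : (Ca : Set G) ⊆ Set.range F := by
        intro x hx
        obtain ⟨hxN, hax⟩ := (hCa x).1 hx
        by_cases hxs : x ∈ zpowers s
        · exact ⟨(⟨x, hxs⟩, true), rfl⟩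
        · have := hcon x hxN hax hxs
          refine ⟨(⟨a * x, this⟩, false), ?_⟩
          change a⁻¹ * (a * x) = x
          group
      have h2 : Nat.card Ca ≤ Nat.card (Set.range F) := Nat.card_mono (Set.toFinite _) hsub
      have h3 : Nat.card (Set.range F) ≤ Nat.card (↥(zpowers s) × Bool) := Finite.card_range_le F
      rw [Nat.card_prod, hzs, Nat.card_eq_fintype_card (α := Bool), Fintype.card_bool] at h3
      omega
    have h2 : Nat.card N0 ≤ 2 * Nat.card Ca := by
      let F : ↥Ca × Bool → G := fun p => if p.2 then (p.1 : G) else n₁ * p.1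
      have hsub : (N0 : Set G) ⊆ Set.range F := by
        intro x hx
        rcases C.comm a ha x hx with h | h
        · exact ⟨(⟨x, (hCa x).2 ⟨hx, h⟩⟩, true), rfl⟩
        · refine ⟨(⟨n₁⁻¹ * x, (hCa _).2 ⟨mul_mem (inv_mem hn₁) hx, ?_⟩⟩, false), ?_⟩
          · have e1 : a * n₁⁻¹ = z * (n₁⁻¹ * a) := by
              have h5 : n₁ * a = z * (a * n₁) := by
                rw [han₁, ← mul_assoc, C.z_sq, one_mul]
              have h6 : z * n₁⁻¹ = n₁⁻¹ * z := (z_comm C (inv_mem hn₁)).symm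
              calc a * n₁⁻¹ = n₁⁻¹ * (n₁ * a) * n₁⁻¹ := by group
                _ = n₁⁻¹ * (z * (a * n₁)) * n₁⁻¹ := by rw [h5]
                _ = n₁⁻¹ * z * a := by group
                _ = z * (n₁⁻¹ * a) := by rw [← h6, mul_assoc]
            calc a * (n₁⁻¹ * x) = (a * n₁⁻¹) * x := by rw [mul_assoc]
              _ = z * n₁⁻¹ * (a * x) := by rw [e1]; simp only [mul_assoc]
              _ = z * n₁⁻¹ * (z * (x * a)) := by rw [h]
              _ = z * (n₁⁻¹ * z) * (x * a) := by simp only [mul_assoc]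
              _ = z * (z * n₁⁻¹) * (x * a) := by rw [z_comm C (inv_mem hn₁)]
              _ = (z * z) * (n₁⁻¹ * x * a) := by simp only [mul_assoc]
              _ = n₁⁻¹ * x * a := by rw [C.z_sq, one_mul]
          · change n₁ * (n₁⁻¹ * x) = x
            group
      have h2 : Nat.card N0 ≤ Nat.card (Set.range F) := Nat.card_mono (Set.toFinite _) hsub
      have h3 : Nat.card (Set.range F) ≤ Nat.card (↥Ca × Bool) := Finite.card_range_le F
      rw [Nat.card_prod, Nat.card_eq_fintype_card (α := Bool), Fintype.card_bool] at h3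
      omega
    rw [C.card] at h2
    omega
  obtain ⟨b, hb, hbb, hb'⟩ := fix_sq C hb₀
  have hab : a * b = b * a := by
    rcases hb' with rfl | rfl
    · exact hab₀
    · rw [← mul_assoc, C.s_cen a ha, mul_assoc, hab₀, mul_assoc]
  have hbs : b ∉ zpowers s := by
    rcases hb' with rfl | rfl
    · exact hb₀s
    · intro h
      exact hb₀s ((Subgroup.mul_mem_cancel_left _ (mem_zpowers s)).1 h)
  have habs : a * b ∉ zpowers s := by
    rcases hb' with rfl | rfl
    · exact hb₀a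
    · intro h
      rw [← mul_assoc, C.s_cen a ha, mul_assoc] at h
      exact hb₀a ((Subgroup.mul_mem_cancel_left _ (mem_zpowers s)).1 h)
  obtain ⟨n₂, hn₂, hbn₂⟩ := anti b hb hbs
  obtain ⟨n₃, hn₃, habn₃⟩ := anti (a * b) (mul_mem ha hb) habs
  have hzz : ∀ y : G, z * (z * y) = y := fun y => by rw [← mul_assoc, C.z_sq, one_mul]
  have hza : a * z = z * a := z_comm C ha
  have hzb : b * z = z * b := z_comm C hb
  -- products
  have prod : ∀ x ∈ N0, ∀ n ∈ N0, ∀ m ∈ N0, x * n = z * (n * x) → x * m = z * (m * x) → x * (n * m) = n * m * x := by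
    intro x hx n hn m hm h1 h2
    calc x * (n * m) = (x * n) * m := by rw [mul_assoc]
      _ = z * (n * (x * m)) := by rw [h1]; simp only [mul_assoc]
      _ = z * (n * z * (m * x)) := by rw [h2]; simp only [mul_assoc]
      _ = z * (z * n * (m * x)) := by rw [z_comm C hn]
      _ = n * m * x := by rw [mul_assoc, hzz, mul_assoc]
  have prod' : ∀ x ∈ N0, ∀ n ∈ N0, ∀ m ∈ N0, x * n = n * x → x * m = z * (m * x) →
      x * (n * m) = z * (n * m * x) := by
    intro x hx n hn m hm h1 h2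
    calc x * (n * m) = (x * n) * m := by rw [mul_assoc]
      _ = n * (x * m) := by rw [h1, mul_assoc]
      _ = n * z * (m * x) := by rw [h2]; simp only [mul_assoc]
      _ = z * n * (m * x) := by rw [z_comm C hn]
      _ = z * (n * m * x) := by simp only [mul_assoc]
  have hn₃' : (a * n₃ = z * (n₃ * a) ∧ b * n₃ = n₃ * b) ∨ (a * n₃ = n₃ * a ∧ b * n₃ = z * (n₃ * b)) := by
    rcases C.comm a ha n₃ hn₃ with h1 | h1 <;> rcases C.comm b hb n₃ hn₃ with h2 | h2
    · exfalso
      have h3 : a * b * n₃ = n₃ * (a * b) := by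
        rw [mul_assoc, h2, ← mul_assoc, h1, mul_assoc]
      rw [h3] at habn₃
      exact C.z_ne (left_eq_mul₀' habn₃)
    · exact Or.inr ⟨h1, h2⟩
    · exact Or.inl ⟨h1, h2⟩
    · exfalso
      have h3 : a * b * n₃ = n₃ * (a * b) := by
        calc a * b * n₃ = a * (b * n₃) := by rw [mul_assoc]
          _ = a * z * (n₃ * b) := by rw [h2, mul_assoc]
          _ = z * (a * n₃) * b := by rw [hza]; simp only [mul_assoc]
          _ = z * (z * (n₃ * a)) * b := by rw [h1]
          _ = n₃ * (a * b) := by rw [hzz, mul_assoc]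
      rw [h3] at habn₃
      exact C.z_ne (left_eq_mul₀' habn₃)
  rcases hn₃' with ⟨h1, h2⟩ | ⟨h1, h2⟩
  · rcases C.comm a ha n₂ hn₂ with h3 | h3
    · exact ⟨a, ha, b, hb, n₃, hn₃, n₂, hn₂, haa, hbb, hab, h1, h2, h3, hbn₂⟩
    · exact ⟨a, ha, b, hb, n₃, hn₃, n₃ * n₂, mul_mem hn₃ hn₂, haa, hbb, hab, h1, h2,
        prod a ha n₃ hn₃ n₂ hn₂ h1 h3, prod' b hb n₃ hn₃ n₂ hn₂ h2 hbn₂⟩
  · rcases C.comm b hb n₁ hn₁ with h3 | h3
    · exact ⟨a, ha, b, hb, n₁, hn₁, n₃, hn₃, haa, hbb, hab, han₁, h3, h1, h2⟩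
    · exact ⟨a, ha, b, hb, n₃ * n₁, mul_mem hn₃ hn₁, n₃, hn₃, haa, hbb, hab,
        prod' a ha n₃ hn₃ n₁ hn₁ h1 han₁, prod b hb n₃ hn₃ n₁ hn₁ h2 h3, h1, h2⟩

end Cfsg.Agent.H754.Co3
end

-- part: H754/Co3/Eig
section
/-!
# S1920: eigenspaces of anticommuting elements in a representation (helper754)
-/

set_option autoImplicit false

namespace Cfsg.Agent.H754.Co3

open Module

variable {k : Type*} [Field k] {Γ : Type*} [Group Γ] {U : Type*} [AddCommGroup U] [Module k U]
  (ρ : Γ →* (U →ₗ[k] U))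

/-- the eigenspace of `t` in `E` -/
def ev (t : Γ) (d : k) (E : Submodule k U) : Submodule k U := E ⊓ LinearMap.ker (ρ t - d • (LinearMap.id : U →ₗ[k] U))

theorem mem_ev {t : Γ} {d : k} {E : Submodule k U} {u : U} : u ∈ ev ρ t d E ↔ u ∈ E ∧ ρ t u = d • u := by
  rw [ev, Submodule.mem_inf, LinearMap.mem_ker, LinearMap.sub_apply, LinearMap.smul_apply, LinearMap.id_apply, sub_eq_zero]

theorem inv_app (g : Γ) (u : U) : ρ g (ρ g⁻¹ u) = u := by
  have : ρ g * ρ g⁻¹ = 1 := by rw [← map_mul, mul_inv_cancel, map_one]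
  exact LinearMap.congr_fun this u

theorem app_inv (g : Γ) (u : U) : ρ g⁻¹ (ρ g u) = u := by
  have : ρ g⁻¹ * ρ g = 1 := by rw [← map_mul, inv_mul_cancel, map_one]
  exact LinearMap.congr_fun this u

/-- `t` has eigenvalues `d`, `-d` on `E`, interchanged by `g` -/
structure Anti (t : Γ) (d : k) (E : Submodule k U) (g : Γ) : Prop where
  two : (2 : k) ≠ 0
  dne : d ≠ 0
  sq : ∀ u ∈ E, ρ t (ρ t u) = (d * d) • u
  tE : ∀ u ∈ E, ρ t u ∈ E
  gE : ∀ u ∈ E, ρ g u ∈ E
  gE' : ∀ u ∈ E, ρ g⁻¹ u ∈ E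
  anti : ∀ u, ρ t (ρ g u) = -ρ g (ρ t u)

variable {ρ}

namespace Anti

variable {t g : Γ} {d : k} {E : Submodule k U}

theorem anti' (h : Anti ρ t d E g) (u : U) : ρ t (ρ g⁻¹ u) = -ρ g⁻¹ (ρ t u) := by
  have h1 := h.anti (ρ g⁻¹ u)
  rw [inv_app] at h1
  rw [h1, map_neg, neg_neg, app_inv]

theorem dec (h : Anti ρ t d E g) {u : U} (hu : u ∈ E) : ∃ x ∈ ev ρ t d E, ∃ y ∈ ev ρ t (-d) E, u = x + y := by
  have h2 := h.two
  have hd := h.dne
  have hsq := h.sq u hu
  refine ⟨(2 : k)⁻¹ • (u + d⁻¹ • ρ t u), (mem_ev ρ).2 ⟨E.smul_mem _ (E.add_mem hu (E.smul_mem _ (h.tE u hu))), ?_⟩,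
    (2 : k)⁻¹ • (u - d⁻¹ • ρ t u), (mem_ev ρ).2 ⟨E.smul_mem _ (E.sub_mem hu (E.smul_mem _ (h.tE u hu))), ?_⟩, ?_⟩
  · rw [map_smul, map_add, map_smul, hsq]
    match_scalars <;> field_simp
  · rw [map_smul, map_sub, map_smul, hsq]
    match_scalars <;> field_simp
  · rw [← smul_add]
    have : u + d⁻¹ • ρ t u + (u - d⁻¹ • ρ t u) = (2 : k) • u := by
      rw [two_smul]; abel
    rw [this, smul_smul, inv_mul_cancel₀ h2, one_smul]

theorem map_pos (h : Anti ρ t d E g) {u : U} (hu : u ∈ ev ρ t d E) : ρ g u ∈ ev ρ t (-d) E := by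
  rw [mem_ev] at hu ⊢
  exact ⟨h.gE u hu.1, by rw [h.anti, hu.2, map_smul, neg_smul]⟩

theorem map_neg' (h : Anti ρ t d E g) {u : U} (hu : u ∈ ev ρ t (-d) E) : ρ g⁻¹ u ∈ ev ρ t d E := by
  rw [mem_ev] at hu ⊢
  exact ⟨h.gE' u hu.1, by rw [h.anti', hu.2, map_smul, neg_smul, neg_neg]⟩

/-- the eigenspace has half the dimension -/
theorem half [Module.Finite k U] (h : Anti ρ t d E g) : finrank k E = 2 * finrank k (ev ρ t d E) := by
  have hinf : ev ρ t d E ⊓ ev ρ t (-d) E = ⊥ := by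
    rw [eq_bot_iff]
    rintro u ⟨h1, h2⟩
    have e1 := ((mem_ev ρ).1 h1).2
    have e2 := ((mem_ev ρ).1 h2).2
    rw [e1] at e2
    have h3 : ((2 : k) * d) • u = 0 := by
      have : ((2 : k) * d) • u = d • u - (-d) • u := by
        rw [← sub_smul]; congr 1; ring
      rw [this, ← e2, sub_self]
    exact (smul_eq_zero.1 h3).resolve_left (mul_ne_zero h.two h.dne)
  have hsup : ev ρ t d E ⊔ ev ρ t (-d) E = E := by
    apply le_antisymm (sup_le inf_le_left inf_le_left)
    intro u hu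
    obtain ⟨x, hx, y, hy, rfl⟩ := h.dec hu
    exact Submodule.add_mem_sup hx hy
  have h1 := Submodule.finrank_sup_add_finrank_inf_eq (ev ρ t d E) (ev ρ t (-d) E)
  rw [hinf, hsup, finrank_bot, add_zero] at h1
  have i1 : finrank k (ev ρ t d E) ≤ finrank k (ev ρ t (-d) E) := by
    refine LinearMap.finrank_le_finrank_of_injective (f := (ρ g).restrict (p := ev ρ t d E) (q := ev ρ t (-d) E)
      fun u hu => h.map_pos hu) ?_
    intro x y hxy
    apply Subtype.ext
    have h3 : ρ g x = ρ g y := congrArg Subtype.val hxy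
    rw [← app_inv ρ g x, h3, app_inv]
  have i2 : finrank k (ev ρ t (-d) E) ≤ finrank k (ev ρ t d E) := by
    refine LinearMap.finrank_le_finrank_of_injective (f := (ρ g⁻¹).restrict (p := ev ρ t (-d) E) (q := ev ρ t d E)
      fun u hu => h.map_neg' hu) ?_
    intro x y hxy
    apply Subtype.ext
    have h3 : ρ g⁻¹ x = ρ g⁻¹ y := congrArg Subtype.val hxy
    rw [← inv_app ρ g x, h3, inv_app]
  omega

/-- an operator commuting with `g`, trivial on the eigenspace, is trivial -/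
theorem triv (h : Anti ρ t d E g) {x : U →ₗ[k] U} (hx : ∀ u ∈ ev ρ t d E, x u = u) (hxg : ∀ u, x (ρ g u) = ρ g (x u)) :
    ∀ u ∈ E, x u = u := by
  intro u hu
  obtain ⟨v, hv, w, hw, rfl⟩ := h.dec hu
  rw [map_add, hx v hv]
  congr 1
  have h1 := hx _ (h.map_neg' hw)
  have h2 := hxg (ρ g⁻¹ w)
  rw [h1, inv_app] at h2
  exact h2

end Anti

end Cfsg.Agent.H754.Co3
end

-- part: H754/Co3/Rep
section
/-!
# S1920, case B: REP16, (U1) (helper754)

A 16-dimensional representation of `N_G(P)` over a field of characteristic `≠ 2, 3` with `z ↦ -1`, such that elements of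
`C_G(N0)` in the kernel are in the kernel of `ψ`, does not exist.

* `rep16` : the field contains a square root of `-1`;
* `rep16_field` : any field;
* `rep16_sub`, `rep16_field_sub` : the representation is given on a subgroup `Γ ≥ N_G(P)`.
-/

set_option autoImplicit false

open Subgroup

open scoped commutatorElement

namespace Cfsg.Agent.H754.Co3

open Cfsg.Agent.H13.Co3 Module Matrix

section sl

variable {k : Type*} [Field k] {U : Type*} [AddCommGroup U] [Module k U]

/-- a 2-dimensional invariant subspace gives a homomorphism of the commutator subgroup to `SL₂` -/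
theorem exists_sl {D : Type*} [Group D] (ρ : D →* (U →ₗ[k] U)) (W : Submodule k U) (hW : finrank k W = 2)
    (hinv : ∀ d, ∀ u ∈ W, ρ d u ∈ W) :
    ∃ f : ↥(_root_.commutator D) →* SpecialLinearGroup (Fin 2) k, ∀ d, f d = 1 → ∀ u ∈ W, ρ d u = u := by
  have hfin : Module.Finite k W := Module.finite_of_finrank_pos (by omega)
  let B := finBasisOfFinrankEq k W hW
  let r : D →* (W →ₗ[k] W) :=
    { toFun := fun d => (ρ d).restrict (hinv d)
      map_one' := by
        apply LinearMap.ext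
        intro u
        apply Subtype.ext
        change ρ 1 u = u
        rw [map_one]
        rfl
      map_mul' := fun d e => by
        apply LinearMap.ext
        intro u
        apply Subtype.ext
        change ρ (d * e) u = ρ d (ρ e u)
        rw [map_mul]
        rfl }
  let φ : D →* Matrix (Fin 2) (Fin 2) k :=
    ((LinearMap.toMatrixAlgEquiv B : (W →ₗ[k] W) ≃ₐ[k] Matrix (Fin 2) (Fin 2) k) : (W →ₗ[k] W) →* _).comp r
  have hφ : ∀ d, φ d = LinearMap.toMatrixAlgEquiv B (r d) := fun _ => rfl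
  let δ : D →* kˣ := (Matrix.detMonoidHom.comp φ).toHomUnits
  have hδ : ∀ d : ↥(_root_.commutator D), (φ d).det = 1 := by
    intro d
    have h1 : (d : D) ∈ δ.ker := Abelianization.commutator_subset_ker δ d.2
    have h2 : ((δ (d : D) : kˣ) : k) = (φ d).det := rfl
    rw [← h2, MonoidHom.mem_ker.1 h1, Units.val_one]
  refine ⟨{ toFun := fun d => ⟨φ d, hδ d⟩
            map_one' := Subtype.ext (by
              change φ ((1 : ↥(_root_.commutator D)) : D) = 1
              rw [OneMemClass.coe_one, map_one])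
            map_mul' := fun d e => Subtype.ext (by
              change φ ((d * e : ↥(_root_.commutator D)) : D) = φ d * φ e
              rw [Subgroup.coe_mul, map_mul]) }, fun d hd u hu => ?_⟩
  have h1 : φ d = 1 := congrArg Subtype.val hd
  rw [hφ] at h1
  have h2 : r d = 1 := by
    apply (LinearMap.toMatrixAlgEquiv B).injective
    rw [h1, map_one]
  have h3 := LinearMap.congr_fun h2 ⟨u, hu⟩
  exact congrArg Subtype.val h3

end sl

variable {G : Type*} [Group G]
variable {P N0 : Subgroup G} {z s : G} {ψ : ↥(normalizer (P : Set G)) →* Equiv.Perm (Fin 6)}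

section

variable {k : Type*} [Field k] {Γ : Type*} [Group Γ] {U : Type*} [AddCommGroup U] [Module k U]
  {ρ : Γ →* (U →ₗ[k] U)}

theorem app_mul (g h : Γ) (u : U) : ρ g (ρ h u) = ρ (g * h) u := by
  rw [map_mul]; rfl

theorem ev_inv {g t : Γ} {d : k} {E : Submodule k U} (h : g * t = t * g) (hE : ∀ u ∈ E, ρ g u ∈ E) :
    ∀ u ∈ ev ρ t d E, ρ g u ∈ ev ρ t d E := by
  intro u hu
  rw [mem_ev] at hu ⊢
  refine ⟨hE u hu.1, ?_⟩
  rw [app_mul, ← h, ← app_mul, hu.2, map_smul]

theorem anti_of {g t z : Γ} (hz : ρ z = -1) (h : t * g = z * (g * t)) (u : U) : ρ t (ρ g u) = -ρ g (ρ t u) := by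
  rw [app_mul, h, ← app_mul, ← app_mul, hz]
  rfl

theorem comm_inv {g t : Γ} (h : g * t = t * g) : g⁻¹ * t = t * g⁻¹ := by
  calc g⁻¹ * t = g⁻¹ * (t * g) * g⁻¹ := by group
    _ = g⁻¹ * (g * t) * g⁻¹ := by rw [h]
    _ = t * g⁻¹ := by group

end

/-- the commutator subgroup of a group mapping onto `A₆` maps onto `A₆` -/
theorem commutator_onto {D : Type*} [Group D] (ψ : D →* Equiv.Perm (Fin 6)) (h0 : ∀ d, Equiv.Perm.sign (ψ d) = 1)
    (h : ∀ π : Equiv.Perm (Fin 6), Equiv.Perm.sign π = 1 → ∃ d, ψ d = π) :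
    ∀ π : Equiv.Perm (Fin 6), Equiv.Perm.sign π = 1 → ∃ d : ↥(_root_.commutator D), ψ d = π := by
  have h6 : IsSimpleGroup (alternatingGroup (Fin 6)) := alternatingGroup.isSimpleGroup (by simp)
  let φ : D →* alternatingGroup (Fin 6) := ψ.codRestrict _ fun d => Equiv.Perm.mem_alternatingGroup.2 (h0 d)
  have hφ : Function.Surjective φ := by
    intro π
    obtain ⟨d, hd⟩ := h π (Equiv.Perm.mem_alternatingGroup.1 π.2)
    exact ⟨d, Subtype.ext hd⟩
  have hp : _root_.commutator (alternatingGroup (Fin 6)) = ⊤ := by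
    rcases (inferInstance : (_root_.commutator (alternatingGroup (Fin 6))).Normal).eq_bot_or_eq_top with h1 | h1
    · exfalso
      have hab : ∀ a b : alternatingGroup (Fin 6), a * b = b * a := by
        intro a b
        have h2 : ⁅a, b⁆ ∈ _root_.commutator (alternatingGroup (Fin 6)) :=
          Subgroup.commutator_mem_commutator (Subgroup.mem_top a) (Subgroup.mem_top b)
        rw [h1, Subgroup.mem_bot] at h2
        exact commutatorElement_eq_one_iff_mul_comm.1 h2
      have h1 := hab ⟨Equiv.swap 0 1 * Equiv.swap 1 2, Equiv.Perm.mem_alternatingGroup.2 (by decide)⟩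
        ⟨Equiv.swap 0 1 * Equiv.swap 1 3, Equiv.Perm.mem_alternatingGroup.2 (by decide)⟩
      have h2 := congrArg Subtype.val h1
      revert h2
      decide
    · exact h1
  intro π hπ
  have h1 : (⟨π, Equiv.Perm.mem_alternatingGroup.2 hπ⟩ : alternatingGroup (Fin 6)) ∈
      (_root_.commutator D).map φ := by
    have h2 : (_root_.commutator D).map φ = _root_.commutator (alternatingGroup (Fin 6)) := by
      rw [_root_.commutator_def, Subgroup.map_commutator, Subgroup.map_top_of_surjective φ hφ, _root_.commutator_def]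
    rw [h2, hp]
    exact Subgroup.mem_top _
  obtain ⟨d, hd, hd'⟩ := h1
  exact ⟨⟨d, hd⟩, congrArg Subtype.val hd'⟩

/-- **REP16 (U1)**, `N_G(P)` acts on `U`, `dim U = 16` -/
theorem rep16 [Finite G] (C : CB P N0 z s ψ) {k : Type*} [Field k] {U : Type*} [AddCommGroup U] [Module k U]
    (ρ : ↥(normalizer (P : Set G)) →* (U →ₗ[k] U)) (hU : finrank k U = 16) (h2 : (2 : k) ≠ 0) (h3 : (3 : k) ≠ 0)
    {i : k} (hi : i * i = -1) (hz : ρ ⟨z, C.NH (zN C)⟩ = -1)
    (hf : ∀ g : ↥(normalizer (P : Set G)), (∀ n ∈ N0, (g : G) * n = n * g) → ρ g = 1 → ψ g = 1) : False := by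
  have hfin : Module.Finite k U := Module.finite_of_finrank_pos (by omega)
  obtain ⟨a, ha, b, hb, m₁, hm₁, m₂, hm₂, haa, hbb, hab, ham₁, hbm₁, ham₂, hbm₂⟩ := exists_frame C
  obtain ⟨r, hr, -, hrs⟩ := exists_conj_s C
  -- the elements of `H`
  set zH : ↥(normalizer (P : Set G)) := ⟨z, C.NH (zN C)⟩ with hzH
  let sH : ↥(normalizer (P : Set G)) := ⟨s, C.NH C.sN⟩
  let aH : ↥(normalizer (P : Set G)) := ⟨a, C.NH ha⟩
  let bH : ↥(normalizer (P : Set G)) := ⟨b, C.NH hb⟩
  let mH : ↥(normalizer (P : Set G)) := ⟨m₁, C.NH hm₁⟩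
  let nH : ↥(normalizer (P : Set G)) := ⟨m₂, C.NH hm₂⟩
  let rH : ↥(normalizer (P : Set G)) := ⟨r, hr⟩
  have ess : sH * sH = zH := Subtype.ext C.s_sq
  have eaa : aH * aH = 1 := Subtype.ext haa
  have ebb : bH * bH = 1 := Subtype.ext hbb
  have eab : aH * bH = bH * aH := Subtype.ext hab
  have ezr : rH * zH = zH * rH := Subtype.ext (C.z_cen r hr)
  have esr : sH * rH = zH * (rH * sH) := by
    apply Subtype.ext
    change s * r = z * (r * s)
    have h1 : r * s = z * s * r := by rw [← hrs]; group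
    rw [h1, mul_assoc, ← mul_assoc z z, C.z_sq, one_mul]
  have eas : aH * sH = sH * aH := Subtype.ext (C.s_cen a ha)
  have ebs : bH * sH = sH * bH := Subtype.ext (C.s_cen b hb)
  have ems : mH * sH = sH * mH := Subtype.ext (C.s_cen m₁ hm₁)
  have ens : nH * sH = sH * nH := Subtype.ext (C.s_cen m₂ hm₂)
  have eam : aH * mH = zH * (mH * aH) := Subtype.ext ham₁
  have ena : nH * aH = aH * nH := Subtype.ext ham₂.symm
  have ebn : bH * nH = zH * (nH * bH) := Subtype.ext hbm₂
  have ebm : bH * mH = mH * bH := Subtype.ext hbm₁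
  have hzu : ∀ u, ρ zH u = -u := fun u => by rw [hz]; rfl
  have h1u : ∀ u, ρ 1 u = u := fun u => by rw [map_one]; rfl
  -- the chain of eigenspaces
  have As : ∀ σ : k, σ * σ = -1 → Anti ρ sH σ ⊤ rH := fun σ hσ =>
    { two := h2
      dne := by rintro rfl; rw [mul_zero] at hσ; exact one_ne_zero (neg_eq_zero.1 hσ.symm)
      sq := fun u _ => by rw [app_mul, ess, hzu, hσ, neg_one_smul]
      tE := fun _ _ => Submodule.mem_top
      gE := fun _ _ => Submodule.mem_top
      gE' := fun _ _ => Submodule.mem_top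
      anti := anti_of hz esr }
  have Aa : ∀ σ : k, Anti ρ aH 1 (ev ρ sH σ ⊤) mH := fun σ =>
    { two := h2
      dne := one_ne_zero
      sq := fun u _ => by rw [app_mul, eaa, h1u, mul_one, one_smul]
      tE := ev_inv eas fun _ _ => Submodule.mem_top
      gE := ev_inv ems fun _ _ => Submodule.mem_top
      gE' := ev_inv (comm_inv ems) fun _ _ => Submodule.mem_top
      anti := anti_of hz eam }
  have Ab : ∀ σ : k, Anti ρ bH 1 (ev ρ aH 1 (ev ρ sH σ ⊤)) nH := fun σ =>
    { two := h2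
      dne := one_ne_zero
      sq := fun u _ => by rw [app_mul, ebb, h1u, mul_one, one_smul]
      tE := ev_inv eab.symm (ev_inv ebs fun _ _ => Submodule.mem_top)
      gE := ev_inv ena (ev_inv ens fun _ _ => Submodule.mem_top)
      gE' := ev_inv (comm_inv ena) (ev_inv (comm_inv ens) fun _ _ => Submodule.mem_top)
      anti := anti_of hz ebn }
  have hdim : ∀ σ : k, σ * σ = -1 → finrank k (ev ρ bH 1 (ev ρ aH 1 (ev ρ sH σ ⊤))) = 2 := by
    intro σ hσ
    have e1 := (As σ hσ).half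
    have e2 := (Aa σ).half
    have e3 := (Ab σ).half
    rw [finrank_top, hU] at e1
    omega
  -- the group `C(N0)`
  let D : Subgroup ↥(normalizer (P : Set G)) := (centralizer (N0 : Set G)).subgroupOf (normalizer (P : Set G))
  have hD : ∀ d : ↥D, ∀ n ∈ N0, ((d : ↥(normalizer (P : Set G))) : G) * n = n * ((d : ↥(normalizer (P : Set G))) : G) := by
    intro d n hn
    exact (mem_centralizer_iff.1 (mem_subgroupOf.1 d.2) n hn).symm
  have hcomm : ∀ (d : ↥D) (n : ↥(normalizer (P : Set G))), (n : G) ∈ N0 → (d : ↥(normalizer (P : Set G))) * n = n * d :=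
    fun d n hn => Subtype.ext (hD d n hn)
  have hinv : ∀ (σ : k) (d : ↥D), ∀ u ∈ ev ρ bH 1 (ev ρ aH 1 (ev ρ sH σ ⊤)),
      (ρ.comp D.subtype) d u ∈ ev ρ bH 1 (ev ρ aH 1 (ev ρ sH σ ⊤)) := fun σ d =>
    ev_inv (hcomm d bH hb) (ev_inv (hcomm d aH ha) (ev_inv (hcomm d sH C.sN) fun _ _ => Submodule.mem_top))
  have hi' : (-i) * (-i) = -1 := by rw [neg_mul_neg, hi]
  obtain ⟨f₁, hf₁⟩ := exists_sl (ρ.comp D.subtype) _ (hdim i hi) (hinv i)
  obtain ⟨f₂, hf₂⟩ := exists_sl (ρ.comp D.subtype) _ (hdim (-i) hi') (hinv (-i))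
  let ψD : ↥D →* Equiv.Perm (Fin 6) := ψ.comp D.subtype
  have hψ0 : ∀ d : ↥D, Equiv.Perm.sign (ψD d) = 1 := by
    intro d
    have hN : ((d : ↥(normalizer (P : Set G))) : G) ∈ normalizer (N0 : Set G) := by
      rw [mem_normalizer_iff]
      intro n
      have key : ∀ n ∈ N0, ((d : ↥(normalizer (P : Set G))) : G) * n * ((d : ↥(normalizer (P : Set G))) : G)⁻¹ = n := by
        intro n hn
        rw [hD d n hn, mul_inv_cancel_right]
      refine ⟨fun hn => by rw [key n hn]; exact hn, fun hn => ?_⟩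
      have h1 := hD d _ hn
      have h2 : n = ((d : ↥(normalizer (P : Set G))) : G) * n * ((d : ↥(normalizer (P : Set G))) : G)⁻¹ := by
        have h4 := congrArg (fun y => ((d : ↥(normalizer (P : Set G))) : G)⁻¹ * y) h1
        beta_reduce at h4
        have h5 : ((d : ↥(normalizer (P : Set G))) : G)⁻¹ * (((d : ↥(normalizer (P : Set G))) : G) *
          (((d : ↥(normalizer (P : Set G))) : G) * n * ((d : ↥(normalizer (P : Set G))) : G)⁻¹)) =
          ((d : ↥(normalizer (P : Set G))) : G) * n * ((d : ↥(normalizer (P : Set G))) : G)⁻¹ := by group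
        have h6 : ((d : ↥(normalizer (P : Set G))) : G)⁻¹ * (((d : ↥(normalizer (P : Set G))) : G) * n *
          ((d : ↥(normalizer (P : Set G))) : G)⁻¹ * ((d : ↥(normalizer (P : Set G))) : G)) = n := by group
        rw [h5, h6] at h4
        exact h4.symm
      rw [h2]
      exact hn
    exact (C.inv_s _ hN).2 (hD d s C.sN)
  have hψ1 : ∀ π : Equiv.Perm (Fin 6), Equiv.Perm.sign π = 1 → ∃ d : ↥D, ψD d = π := by
    intro π hπ
    obtain ⟨h, hh, hπ'⟩ := C.even π hπ
    exact ⟨⟨h, mem_subgroupOf.2 (mem_centralizer_iff.2 fun n hn => (hh n hn).symm)⟩, hπ'⟩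
  refine no_A6_two h3 f₁ f₂ (ψD.comp (_root_.commutator ↥D).subtype) (fun d h₁ h₂ => ?_)
    (fun d => hψ0 d) (commutator_onto ψD hψ0 hψ1)
  refine hf ((d : ↥D) : ↥(normalizer (P : Set G))) (hD d) ?_
  apply LinearMap.ext
  intro u
  -- trivial on the eigenspaces of `s`
  have hE : ∀ σ : k, (∀ u ∈ ev ρ bH 1 (ev ρ aH 1 (ev ρ sH σ ⊤)), ρ ((d : ↥D) : ↥(normalizer (P : Set G))) u = u) →
      ∀ u ∈ ev ρ sH σ ⊤, ρ ((d : ↥D) : ↥(normalizer (P : Set G))) u = u := by
    intro σ hσ
    refine (Aa σ).triv ((Ab σ).triv hσ ?_) ?_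
    · intro u
      rw [app_mul, app_mul, hcomm d nH hm₂]
    · intro u
      rw [app_mul, app_mul, hcomm d mH hm₁]
  obtain ⟨x, hx, y, hy, rfl⟩ := (As i hi).dec (u := u) Submodule.mem_top
  rw [map_add, hE i (hf₁ d h₁) x hx, hE (-i) (hf₂ d h₂) y hy]
  rfl

/-- **REP16 (U1)**, any field -/
theorem rep16_field [Finite G] (C : CB P N0 z s ψ) {F : Type*} [Field F] {U : Type*} [AddCommGroup U] [Module F U]
    (ρ : ↥(normalizer (P : Set G)) →* (U →ₗ[F] U)) (hU : finrank F U = 16) (h2 : (2 : F) ≠ 0) (h3 : (3 : F) ≠ 0)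
    (hz : ρ ⟨z, C.NH (zN C)⟩ = -1)
    (hf : ∀ g : ↥(normalizer (P : Set G)), (∀ n ∈ N0, (g : G) * n = n * g) → ρ g = 1 → ψ g = 1) : False := by
  have hfin : Module.Finite F U := Module.finite_of_finrank_pos (by omega)
  let K := AlgebraicClosure F
  let B := finBasisOfFinrankEq F U hU
  let e₁ : (U →ₗ[F] U) →+* Matrix (Fin 16) (Fin 16) F :=
    ((LinearMap.toMatrixAlgEquiv B : (U →ₗ[F] U) ≃ₐ[F] Matrix (Fin 16) (Fin 16) F) : (U →ₗ[F] U) →+* _)
  let e₂ : Matrix (Fin 16) (Fin 16) F →+* Matrix (Fin 16) (Fin 16) K := (algebraMap F K).mapMatrix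
  let e₃ : Matrix (Fin 16) (Fin 16) K →+* ((Fin 16 → K) →ₗ[K] (Fin 16 → K)) :=
    ((Matrix.toLinAlgEquiv' : Matrix (Fin 16) (Fin 16) K ≃ₐ[K] ((Fin 16 → K) →ₗ[K] (Fin 16 → K))) :
      Matrix (Fin 16) (Fin 16) K →+* _)
  have i₁ : Function.Injective e₁ := (LinearMap.toMatrixAlgEquiv B).injective
  have i₂ : Function.Injective e₂ := by
    intro x y hxy
    ext i j
    have h1 : algebraMap F K (x i j) = algebraMap F K (y i j) := congrFun (congrFun hxy i) j
    exact (algebraMap F K).injective h1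
  have i₃ : Function.Injective e₃ := Matrix.toLinAlgEquiv'.injective
  let E : (U →ₗ[F] U) →+* ((Fin 16 → K) →ₗ[K] (Fin 16 → K)) := e₃.comp (e₂.comp e₁)
  have iE : Function.Injective E := i₃.comp (i₂.comp i₁)
  have hK : ∀ n : ℕ, (n : F) ≠ 0 → (n : K) ≠ 0 := by
    intro n hn h
    apply hn
    apply (algebraMap F K).injective
    rw [map_zero, ← h, map_natCast]
  obtain ⟨i, hi⟩ := IsAlgClosed.exists_eq_mul_self (-1 : K)
  refine rep16 C (U := Fin 16 → K) (E.toMonoidHom.comp ρ) (by rw [finrank_pi, Fintype.card_fin]) (by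
      have := hK 2 (by exact_mod_cast h2)
      exact_mod_cast this) (by
      have := hK 3 (by exact_mod_cast h3)
      exact_mod_cast this) hi.symm ?_ fun g hg h => hf g hg ?_
  · change E (ρ ⟨z, C.NH (zN C)⟩) = -1
    rw [hz, map_neg, map_one]
  · apply iE
    rw [map_one]
    exact h

/-- **REP16 (U1)**, any field, the representation on a subgroup `Γ ≥ N_G(P)` -/
theorem rep16_sub [Finite G] (C : CB P N0 z s ψ) {F : Type*} [Field F] {U : Type*} [AddCommGroup U] [Module F U]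
    {Γ : Subgroup G} (hΓ : normalizer (P : Set G) ≤ Γ) (ρ : ↥Γ →* (U →ₗ[F] U)) (hU : finrank F U = 16)
    (h2 : (2 : F) ≠ 0) (h3 : (3 : F) ≠ 0) (hz : ρ ⟨z, hΓ (C.NH (zN C))⟩ = -1)
    (hf : ∀ g (hg : g ∈ Γ), (∀ n ∈ N0, g * n = n * g) → ρ ⟨g, hg⟩ = 1 → g = 1) : False :=
  rep16_field C (ρ.comp (inclusion hΓ)) hU h2 h3 hz fun g hg h => by
    have h1 : (g : G) = 1 := hf g (hΓ g.2) hg h
    have h2 : g = 1 := Subtype.ext h1
    rw [h2, map_one]

/-- **REP16 (U1)** for a representation of `C_G(z)` -/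
theorem rep16_cent [Finite G] (C : CB P N0 z s ψ) {F : Type*} [Field F] {U : Type*} [AddCommGroup U] [Module F U]
    (ρ : ↥(centralizer ({z} : Set G)) →* (U →ₗ[F] U)) (hU : finrank F U = 16)
    (h2 : (2 : F) ≠ 0) (h3 : (3 : F) ≠ 0)
    (hz : ∀ h : z ∈ centralizer ({z} : Set G), ρ ⟨z, h⟩ = -1)
    (hf : ∀ g (hg : g ∈ centralizer ({z} : Set G)), (∀ n ∈ N0, g * n = n * g) → ρ ⟨g, hg⟩ = 1 → g = 1) : False :=
  rep16_sub C (Γ := centralizer ({z} : Set G))
    (fun g hg => mem_centralizer_singleton_iff.2 (C.z_cen g hg)) ρ hU h2 h3 (hz _) hf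

end Cfsg.Agent.H754.Co3
end

private theorem dce_9e08ebbe76b7 : _root_.True := by
  try have : _root_.True := by simp only [_root_.Cfsg.Agent.H754.Co3.ev.eq_1]
  exact _root_.True.intro
end

-- part: H64/Co3/D8I
section
set_option linter.all false
open scoped Cfsg.Agent.FastGrp

/-!
# S1920, case B, E8 with `z` of type D8: the interface of the analysis (helper64)

* `adm Q M` : the (-1)-eigenspace of `Ad M` on `so(Q)`;
* `D8I Q z R` : `R g M` = "`M` is a similitude of `(V, Q)`, `dim V = 16`, inducing `g ∈ C_G(z)` on `so(Q) = L₊`";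
* `TabI` : the tables of `m(n)` for `n ∈ N0` (traces on `L₋` already used).
-/

set_option autoImplicit false

open Subgroup QuadraticMap

namespace Cfsg.Agent.H64.Co3

open Cfsg.Agent.LieClassical.OrthCore

variable {F V G : Type*} [Field F] [AddCommGroup V] [Module F V] [Group G]

/-- the (-1)-eigenspace of `Ad M` on the skew maps -/
def adm (Q : QuadraticForm F V) (M : V ≃ₗ[F] V) : Submodule F (V →ₗ[F] V) where
  carrier := {S | (∀ u v, polar Q (S u) v = - polar Q u (S v)) ∧ ∀ v, M (S v) = - S (M v)}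
  add_mem' := by
    rintro S T ⟨h1, h2⟩ ⟨h3, h4⟩
    refine ⟨fun u v => ?_, fun v => ?_⟩
    · rw [LinearMap.add_apply, LinearMap.add_apply, polar_add_left, polar_add_right, h1, h3]; ring
    · rw [LinearMap.add_apply, LinearMap.add_apply, map_add, h2, h4]; abel
  zero_mem' := by
    refine ⟨fun u v => ?_, fun v => ?_⟩
    · rw [LinearMap.zero_apply, LinearMap.zero_apply, polar_zero_left, polar_zero_right, neg_zero]
    · rw [LinearMap.zero_apply, LinearMap.zero_apply, map_zero, neg_zero]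
  smul_mem' := by
    rintro c S ⟨h1, h2⟩
    refine ⟨fun u v => ?_, fun v => ?_⟩
    · rw [LinearMap.smul_apply, LinearMap.smul_apply, polar_smul_left, polar_smul_right, h1, smul_neg]
    · rw [LinearMap.smul_apply, LinearMap.smul_apply, map_smul, h2, smul_neg]

theorem mem_adm {Q : QuadraticForm F V} {M : V ≃ₗ[F] V} {S : V →ₗ[F] V} :
    S ∈ adm Q M ↔ (∀ u v, polar Q (S u) v = - polar Q u (S v)) ∧ ∀ v, M (S v) = - S (M v) := Iff.rfl

/-- **the action of `C_G(z)` on the 16-dimensional space, up to scalars** -/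
structure D8I (Q : QuadraticForm F V) (z : G) (R : G → (V ≃ₗ[F] V) → Prop) : Prop where
  two : (2 : F) ≠ 0
  nondeg : Nondeg Q
  dim : Module.finrank F V = 16
  ex : ∀ g, g * z = z * g → ∃ M, R g M
  scal : ∀ {g : G} {M L : V ≃ₗ[F] V} (c : F), R g M → c ≠ 0 → (∀ v, L v = c • M v) → R g L
  mul : ∀ {g h : G} {M L : V ≃ₗ[F] V}, R g M → R h L → R (g * h) (M * L)
  uniq : ∀ {g : G} {M L : V ≃ₗ[F] V}, R g M → R g L → ∃ c : F, c ≠ 0 ∧ ∀ v, L v = c • M v
  sim : ∀ {g : G} {M : V ≃ₗ[F] V}, R g M → ∃ μ : F, μ ≠ 0 ∧ ∀ v, Q (M v) = μ * Q v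
  one : ∀ g, R g 1 ↔ g = 1 ∨ g = z
  om : ∀ M ∈ E Q, ∃ g, g * z = z * g ∧ R g M

/-- **the tables for the elements of `N0`** -/
structure TabI (N0 : Subgroup G) (Q : QuadraticForm F V) (z : G) (R : G → (V ≃ₗ[F] V) → Prop) : Prop where
  t1 : ∀ n ∈ N0, n * n = 1 → n ≠ 1 → n ≠ z → ∀ M, R n M →
    Module.finrank F (adm Q M) = 48 ∨ Module.finrank F (adm Q M) = 64
  t2 : ∀ n ∈ N0, n * n = z → ∀ M, R n M →
    Module.finrank F (adm Q M) = 28 ∨ Module.finrank F (adm Q M) = 56 ∨ Module.finrank F (adm Q M) = 60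

end Cfsg.Agent.H64.Co3
end

-- part: H127/Co3/Glue8
section
prune_inst 0x43430410075400000001800102200002420000100004000000800050201490062004220010e30050412808c1020000000021000800010000000000000000401000028020281480800000080000000000000000000000000000000000000000000000000000
set_option linter.all false
open scoped Cfsg.Agent.FastGrp

-- part: H127/Co3/SimA
section
/-!
# Dimension tools for the (-1)-eigenspace of `Ad M` (S1920, helper127)

* `fr_eq`, `split` : dimension bookkeeping with an involution;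
* `Cm M`, `Zm M` : the maps commuting / anticommuting with `M`;
* `exists_T_nonsq` : a semilinear involution.
-/

set_option autoImplicit false

open Module QuadraticMap

namespace Cfsg.Agent.H127.Co3

section General

variable {F E : Type*} [Field F] [AddCommGroup E] [Module F E] [FiniteDimensional F E]

theorem fr_eq {A B : Submodule F E} (f : E →ₗ[F] E) (hf : Function.Injective f)
    (h1 : ∀ x ∈ A, f x ∈ B) (h2 : ∀ x ∈ B, f x ∈ A) : finrank F A = finrank F B := by
  apply le_antisymm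
  · exact LinearMap.finrank_le_finrank_of_injective (f := f.restrict h1)
      (fun x y h => Subtype.ext (hf (congrArg Subtype.val h)))
  · exact LinearMap.finrank_le_finrank_of_injective (f := f.restrict h2)
      (fun x y h => Subtype.ext (hf (congrArg Subtype.val h)))

theorem split (h2 : (2 : F) ≠ 0) (τ : E →ₗ[F] E) (h : ∀ x, τ (τ x) = x) {N P R : Submodule F E}
    (hN : ∀ x ∈ N, τ x ∈ N) (hP : ∀ x, x ∈ P ↔ x ∈ N ∧ τ x = x) (hR : ∀ x, x ∈ R ↔ x ∈ N ∧ τ x = -x) :
    finrank F N = finrank F P + finrank F R := by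
  have e1 : P ⊔ R = N := by
    apply le_antisymm
    · exact sup_le (fun x hx => ((hP x).1 hx).1) (fun x hx => ((hR x).1 hx).1)
    · intro x hx
      have e : x = (2 : F)⁻¹ • (x + τ x) + (2 : F)⁻¹ • (x - τ x) := by
        rw [← smul_add, add_add_sub_cancel, ← two_smul F x, smul_smul, inv_mul_cancel₀ h2, one_smul]
      rw [e]
      refine Submodule.add_mem_sup ?_ ?_
      · rw [hP]
        refine ⟨N.smul_mem _ (N.add_mem hx (hN x hx)), ?_⟩
        rw [map_smul, map_add, h, add_comm]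
      · rw [hR]
        refine ⟨N.smul_mem _ (N.sub_mem hx (hN x hx)), ?_⟩
        rw [map_smul, map_sub, h, ← smul_neg, neg_sub]
  have e2 : P ⊓ R = ⊥ := by
    rw [eq_bot_iff]
    rintro x ⟨h3, h4⟩
    have h5 := ((hP x).1 h3).2
    have h6 := ((hR x).1 h4).2
    rw [h5] at h6
    rw [Submodule.mem_bot]
    have h7 : (2 : F) • x = 0 := by rw [two_smul]; nth_rw 1 [h6]; exact neg_add_cancel x
    exact (smul_eq_zero.1 h7).resolve_left h2
  have e3 := Submodule.finrank_sup_add_finrank_inf_eq P R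
  rw [e1, e2, finrank_bot, add_zero] at e3
  exact e3

end General

section Sim

variable {F V : Type*} [Field F] [AddCommGroup V] [Module F V]

variable {M : V ≃ₗ[F] V} {l : F}

variable [FiniteDimensional F V]

end Sim

end Cfsg.Agent.H127.Co3
end

-- part: H127/Co3/Glue8
section
/-!
# S1920, `E8(q)`, `z` of type `D8` : the tables of `N0` (GLUE8, helper127)

* `fr_four` : `N² = Z` : `ker (N + 1) ≤ ker (Z - 1)`;
* `fr_two` : `N² = 1`, `N M = Z M N` : `dim ker (N + 1) = dim (ker (N + 1) ⊓ ker (Z - 1)) + 1/2 dim ker (Z + 1)`;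
* `tabI_of` : the tables from those of the 248-dimensional module.
-/

set_option autoImplicit false

open Module

namespace Cfsg.Agent.H127.Co3

open Cfsg.Agent.H64.Co3 Cfsg.Agent.H13.Co3

section Lin

variable {F L : Type*} [Field F] [AddCommGroup L] [Module F L]

theorem mem_kp {N : Module.End F L} {v : L} : v ∈ LinearMap.ker (N + 1) ↔ N v = -v := by
  rw [LinearMap.mem_ker, LinearMap.add_apply, Module.End.one_apply, add_eq_zero_iff_eq_neg]

theorem mem_km {N : Module.End F L} {v : L} : v ∈ LinearMap.ker (N - 1) ↔ N v = v := by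
  rw [LinearMap.mem_ker, LinearMap.sub_apply, Module.End.one_apply, sub_eq_zero]

theorem ker_four {N Z : Module.End F L} (h : N * N = Z) :
    LinearMap.ker (N + 1) ⊓ LinearMap.ker (Z - 1) = LinearMap.ker (N + 1) := by
  refine inf_eq_left.2 fun v hv => ?_
  rw [mem_kp] at hv
  rw [mem_km, ← h, Module.End.mul_apply, hv, map_neg, hv, neg_neg]

variable [FiniteDimensional F L]

theorem fr_two (h2 : (2 : F) ≠ 0) {N M Z : Module.End F L} (hN : N * N = 1) (hZ : Z * Z = 1) (hNZ : N * Z = Z * N)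
    (hMZ : M * Z = Z * M) (hNM : N * M = Z * (M * N)) (hM : Function.Injective M) :
    2 * finrank F ↥(LinearMap.ker (N + 1)) =
      2 * finrank F ↥(LinearMap.ker (N + 1) ⊓ LinearMap.ker (Z - 1)) + finrank F ↥(LinearMap.ker (Z + 1)) := by
  have hN' : ∀ v, N (N v) = v := fun v => by rw [← Module.End.mul_apply, hN, Module.End.one_apply]
  have hZ' : ∀ v, Z (Z v) = v := fun v => by rw [← Module.End.mul_apply, hZ, Module.End.one_apply]
  have hNZ' : ∀ v, N (Z v) = Z (N v) := fun v => by rw [← Module.End.mul_apply, hNZ, Module.End.mul_apply]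
  have hMZ' : ∀ v, M (Z v) = Z (M v) := fun v => by rw [← Module.End.mul_apply, hMZ, Module.End.mul_apply]
  have hNM' : ∀ v, N (M v) = Z (M (N v)) := fun v => by
    rw [← Module.End.mul_apply, hNM, Module.End.mul_apply, Module.End.mul_apply]
  have e1 : finrank F ↥(LinearMap.ker (N + 1)) = finrank F ↥(LinearMap.ker (N + 1) ⊓ LinearMap.ker (Z - 1)) +
      finrank F ↥(LinearMap.ker (N + 1) ⊓ LinearMap.ker (Z + 1)) := by
    refine split h2 Z hZ' ?_ ?_ ?_
    · intro v hv
      rw [mem_kp] at hv ⊢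
      rw [hNZ', hv, map_neg]
    · intro v
      rw [Submodule.mem_inf, mem_km]
    · intro v
      rw [Submodule.mem_inf, mem_kp (N := Z)]
  have e2 : finrank F ↥(LinearMap.ker (Z + 1)) = finrank F ↥(LinearMap.ker (N - 1) ⊓ LinearMap.ker (Z + 1)) +
      finrank F ↥(LinearMap.ker (N + 1) ⊓ LinearMap.ker (Z + 1)) := by
    refine split h2 N hN' ?_ ?_ ?_
    · intro v hv
      rw [mem_kp] at hv ⊢
      rw [← hNZ', hv, map_neg]
    · intro v
      rw [Submodule.mem_inf, mem_km, and_comm]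
    · intro v
      rw [Submodule.mem_inf, mem_kp (N := N), and_comm]
  have e3 : finrank F ↥(LinearMap.ker (N - 1) ⊓ LinearMap.ker (Z + 1)) =
      finrank F ↥(LinearMap.ker (N + 1) ⊓ LinearMap.ker (Z + 1)) := by
    refine fr_eq M hM ?_ ?_
    · rintro v ⟨h3, h4⟩
      rw [SetLike.mem_coe, mem_km] at h3
      rw [SetLike.mem_coe, mem_kp] at h4
      rw [Submodule.mem_inf, mem_kp, mem_kp]
      have h5 : Z (M v) = - M v := by rw [← hMZ', h4, map_neg]
      exact ⟨by rw [hNM', h3, h5], h5⟩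
    · rintro v ⟨h3, h4⟩
      rw [SetLike.mem_coe, mem_kp] at h3
      rw [SetLike.mem_coe, mem_kp] at h4
      rw [Submodule.mem_inf, mem_km, mem_kp]
      have h5 : Z (M v) = - M v := by rw [← hMZ', h4, map_neg]
      exact ⟨by rw [hNM', h3, map_neg, map_neg, h5, neg_neg], h5⟩
  omega

end Lin

section Tab

variable {F V L G : Type*} [Field F] [AddCommGroup V] [Module F V] [AddCommGroup L] [Module F L]
  [FiniteDimensional F L] [Group G] {Q : QuadraticForm F V} {P N0 : Subgroup G} {z s : G}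
  {ψ : ↥(Subgroup.normalizer (P : Set G)) →* Equiv.Perm (Fin 6)} {R : G → (V ≃ₗ[F] V) → Prop}

theorem CB.z_comm (C : CB P N0 z s ψ) {n : G} (hn : n ∈ N0) : n * z = z * n := by
  rw [← C.s_sq, ← mul_assoc, C.s_cen n hn, mul_assoc, C.s_cen n hn, mul_assoc]

/-- the element has a partner anticommuting up to `z` -/
theorem CB.exists_anti (C : CB P N0 z s ψ) {n : G} (hn : n ∈ N0) (h1 : n * n = 1) (hn1 : n ≠ 1) (hnz : n ≠ z) :
    ∃ m ∈ N0, n * m = z * (m * n) := by
  by_contra hcon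
  push Not at hcon
  have h2 : ∀ m ∈ N0, n * m = m * n := fun m hm => (C.comm n hn m hm).resolve_right (hcon m hm)
  obtain ⟨k, hk⟩ := Subgroup.mem_zpowers_iff.1 (C.cen n hn h2)
  have hs2 : s ^ (2 : ℤ) = z := by
    rw [zpow_two, C.s_sq]
  have hs4 : s ^ (4 : ℤ) = 1 := by
    have : s ^ (4 : ℤ) = s ^ (2 : ℤ) * s ^ (2 : ℤ) := by rw [← zpow_add]; rfl
    rw [this, hs2, C.z_sq]
  have hk' : s ^ (k % 4) = n := by
    rw [← hk]
    conv_rhs => rw [← Int.emod_add_mul_ediv k 4, zpow_add, zpow_mul, hs4, one_zpow, mul_one]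
  have h0 : 0 ≤ k % 4 := Int.emod_nonneg _ (by norm_num)
  have h4 : k % 4 < 4 := Int.emod_lt_of_pos _ (by norm_num)
  generalize k % 4 = j at hk' h0 h4
  interval_cases j
  · exact hn1 (by rw [← hk', zpow_zero])
  · rw [zpow_one] at hk'
    rw [← hk', C.s_sq] at h1
    exact C.z_ne h1
  · exact hnz (by rw [← hk', hs2])
  · have h3 : n * n = s ^ (4 : ℤ) * s ^ (2 : ℤ) := by rw [← hk']; group
    rw [hs4, hs2, one_mul, h1] at h3
    exact C.z_ne h3.symm

/-- **GLUE8** -/
theorem tabI_of (C : CB P N0 z s ψ) (ρ : G →* Module.End F L) (h2 : (2 : F) ≠ 0)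
    (hm2 : ∀ g : G, g * g = 1 → g ≠ 1 → finrank F ↥(LinearMap.ker (ρ g + 1)) = 112 ∨
      finrank F ↥(LinearMap.ker (ρ g + 1)) = 128)
    (hm4 : ∀ g : G, g * g = z → finrank F ↥(LinearMap.ker (ρ g + 1)) ∈ ({28, 56, 60} : Set ℕ))
    (hz : finrank F ↥(LinearMap.ker (ρ z + 1)) = 128)
    (hR : ∀ n ∈ N0, ∀ M, R n M → finrank F ↥(adm Q M) =
      finrank F ↥(LinearMap.ker (ρ n + 1) ⊓ LinearMap.ker (ρ z - 1))) : TabI N0 Q z R := by
  refine ⟨?_, ?_⟩
  · intro n hn h1 hn1 hnz M hM
    obtain ⟨m, hm, hnm⟩ := CB.exists_anti C hn h1 hn1 hnz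
    have hinj : Function.Injective (ρ m) := by
      intro v w h
      have e : ∀ v, ρ m⁻¹ (ρ m v) = v := fun v => by
        rw [← Module.End.mul_apply, ← map_mul, inv_mul_cancel, map_one, Module.End.one_apply]
      rw [← e v, h, e w]
    have h3 := fr_two h2 (N := ρ n) (M := ρ m) (Z := ρ z) (by rw [← map_mul, h1, map_one])
      (by rw [← map_mul, C.z_sq, map_one]) (by rw [← map_mul, CB.z_comm C hn, map_mul])
      (by rw [← map_mul, CB.z_comm C hm, map_mul]) (by rw [← map_mul, hnm, map_mul, map_mul]) hinj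
    rw [hz, ← hR n hn M hM] at h3
    have h4 := hm2 n h1 hn1
    omega
  · intro n hn h1 M hM
    have h3 := hm4 n h1
    have h4 := ker_four (N := ρ n) (Z := ρ z) (by rw [← map_mul, h1])
    rw [← h4, ← hR n hn M hM] at h3
    simpa using h3

end Tab

end Cfsg.Agent.H127.Co3
end
end
end
end
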